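import Cfsg.Agent.Loc.Xfer
import Cfsg.Agent.Loc.Weak

/-! The transfer of an involution, computed over the cosets fixed by a `2`-subgroup. -/

set_option autoImplicit false

namespace CF.Gu

open Cfsg Subgroup CF.Loc
open scoped commutatorElement IsMulCommutative

variable {G : Type*} [Group G] [Finite G] {S M T P : Subgroup G} {x t u : G} {B : Type*} [CommGroup B]

/-- the value of `χ` at `g⁻¹ x g`, for a coset `g S` fixed by `x` -/
theorem tr_fix (χ : S →* B) (x2 : x * x = 1) (hP : IsPGroup 2 P) (xT : x ∈ T) (Tx : T ≤ centralizer {x}) (TP : T ≤ P)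
    (n : P ≤ normalizer T) (c : ∀ p ∈ P, x⁻¹ * (p⁻¹ * x * p) ∈ ⁅T, T⁆) :
    ∃ (s : Finset (G ⧸ S)) (f : G ⧸ S → B), s.card ≡ S.index [MOD 2] ∧ MonoidHom.transfer χ x = ∏ q ∈ s, f q ∧
      ∀ q ∈ s, f q * f q = 1 ∧ ∃ g : G, (g : G ⧸ S) = q ∧ cj[g⁻¹] P ≤ S ∧ ∃ hg : g⁻¹ * x * g ∈ S, f q = χ ⟨_, hg⟩ := by
  classical
  have : Fintype (G ⧸ S) := Fintype.ofFinite _
  have xi : x⁻¹ = x := inv_eq_of_mul_eq_one_right x2
  set f : G ⧸ S → B := fun q => χ ⟨q.out⁻¹ * (x * (x⁻¹ • q).out),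
      QuotientGroup.eq.1 (by rw [← smul_eq_mul, ← MulAction.Quotient.smul_mk]; simp)⟩ with hf
  have xx : ∀ q : G ⧸ S, x • x • q = q := fun q => by rw [← mul_smul, x2, one_smul]
  have f1 : ∀ q, f q * f (x • q) = 1 := fun q => by
    simp only [hf, ← map_mul]
    convert map_one χ
    ext
    simp only [coe_mul, xi, xx, coe_one]
    calc _ = q.out⁻¹ * (x * x) * q.out := by group
      _ = 1 := by rw [x2]; group
  have f2 : ∀ (g : G) (hg : g⁻¹ * x * g ∈ S), f g = χ ⟨_, hg⟩ := fun g hg => by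
    have e : x⁻¹ • (g : G ⧸ S) = g := by
      rw [xi, MulAction.Quotient.smul_mk, eq_comm, QuotientGroup.eq, smul_eq_mul, ← mul_assoc]
      exact hg
    obtain ⟨s, hs⟩ := QuotientGroup.mk_out_eq_mul S g
    rw [show χ ⟨_, hg⟩ = χ (s⁻¹ * ⟨_, hg⟩ * s) by
      rw [map_mul, map_mul, mul_right_comm, ← map_mul, inv_mul_cancel, map_one, one_mul]]
    simp only [hf]
    congr 1
    ext
    simp only [e, hs, coe_mul, coe_inv]
    group
  have key : ∀ y g : G, y • (g : G ⧸ S) = g ↔ g⁻¹ * y * g ∈ S := fun y g => by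
    rw [MulAction.Quotient.smul_mk, eq_comm, QuotientGroup.eq, smul_eq_mul, mul_assoc]
  have sq : ∀ q, x • q = q → f q * f q = 1 := fun q hq => by simpa only [hq] using f1 q
  refine ⟨Finset.univ.filter fun q => ∀ p ∈ P, p • q = q, f, ?_, ?_, fun q hq => ?_⟩
  · have := CF.Block.card_modEq_card_fixed P hP (fun g (q : G ⧸ S) => g • q) (one_smul G)
      (fun a b q => mul_smul a b q) Finset.univ fun _ _ _ _ => Finset.mem_univ _
    rw [Finset.card_univ, ← Nat.card_eq_fintype_card, ← index] at this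
    exact this.symm
  · rw [transfer_eq_prod_out, ← Finset.prod_filter_mul_prod_filter_not _ (fun q => x • q = q),
      Finset.prod_involution (s := Finset.univ.filter fun q => ¬ x • q = q) (fun q _ => x • q)
      (fun q _ => f1 q) (fun q hq _ => (Finset.mem_filter.1 hq).2) (fun q hq => by
        simpa [xx, eq_comm] using hq) (fun q _ => xx q), mul_one,
      prod_eq_prod_fixed (hP.to_le TP) _ (fun t ht q hq => by
        rw [Finset.mem_filter] at hq ⊢
        refine ⟨Finset.mem_univ _, ?_⟩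
        rw [← mul_smul, ← mem_centralizer_singleton_iff.1 (Tx ht), mul_smul, hq.2]) f
        (fun t ht q hq => by
          obtain ⟨g, rfl⟩ := QuotientGroup.mk_surjective q
          have hg := (key x g).1 (Finset.mem_filter.1 hq).2
          have e : (t * g)⁻¹ * x * (t * g) = g⁻¹ * x * g := by
            rw [show (t * g)⁻¹ * x * (t * g) = g⁻¹ * (t⁻¹ * (x * t)) * g by group,
              ← mem_centralizer_singleton_iff.1 (Tx ht), inv_mul_cancel_left]
          rw [MulAction.Quotient.smul_mk, smul_eq_mul, f2 _ (e ▸ hg), f2 _ hg]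
          simp only [e])
        (fun q hq => by rw [pow_two]; exact sq q (Finset.mem_filter.1 hq).2),
      Finset.filter_filter, Finset.filter_congr (q := fun q => ∀ g ∈ T, g • q = q)
        fun q _ => ⟨fun h => h.2, fun h => ⟨h x xT, h⟩⟩,
      prod_eq_prod_fixed hP _ (fun p hp q hq => by
        rw [Finset.mem_filter] at hq ⊢
        refine ⟨Finset.mem_univ _, fun t ht => ?_⟩
        rw [← mul_smul, show t * p = p * (p⁻¹ * t * p⁻¹⁻¹) by group, mul_smul,
          hq.2 _ ((mem_normalizer_iff.1 (n (inv_mem hp)) t).1 ht)]) f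
        (fun p hp q hq => by
          obtain ⟨g, rfl⟩ := QuotientGroup.mk_surjective q
          have l : cj[g⁻¹] T ≤ S := cj_le_iff_forall.2 fun t ht => by
            simpa using (key t g).1 ((Finset.mem_filter.1 hq).2 t ht)
          have hg : g⁻¹ * x * g ∈ S := by simpa using l (conj_mem_cj g⁻¹ xT)
          have d := commutator_mono l l (cj_commutator g⁻¹ T T ▸ conj_mem_cj g⁻¹ (c p hp))
          rw [← map_subtype_commutator] at d
          obtain ⟨d, hd, e⟩ := d
          have e' : (p * g)⁻¹ * x * (p * g) = g⁻¹ * x * g * d := by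
            rw [show (d : G) = _ from e]; group
          rw [MulAction.Quotient.smul_mk, smul_eq_mul, f2 _ (e' ▸ mul_mem hg d.2), f2 _ hg]
          exact (congrArg χ (Subtype.ext e' : _ = (⟨_, hg⟩ : S) * d)).trans (by
            rw [map_mul, (Abelianization.commutator_subset_ker χ hd : χ d = 1), mul_one]))
        (fun q hq => by rw [pow_two]; exact sq q ((Finset.mem_filter.1 hq).2 x xT)),
      Finset.filter_filter, Finset.filter_congr (q := fun q => ∀ g ∈ P, g • q = q)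
        fun q _ => ⟨fun h => h.2, fun h => ⟨fun t ht => h t (TP ht), h⟩⟩]
  · have hq := (Finset.mem_filter.1 hq).2
    obtain ⟨g, rfl⟩ := QuotientGroup.mk_surjective q
    exact ⟨sq _ (hq x (TP xT)), g, rfl, cj_le_iff_forall.2 fun t ht => by simpa using (key t g).1 (hq t ht),
      (key x g).1 (hq x (TP xT)), f2 g _⟩

/-- Lemma TR: the transfer of `x` is the common value of `χ` on the conjugates `g⁻¹ x g` with `g⁻¹ P g ≤ S`. -/
theorem tr (hS : ¬ 2 ∣ S.index) (χ : S →* B) (x2 : x * x = 1) (hP : IsPGroup 2 P) (xT : x ∈ T) (Tx : T ≤ centralizer {x})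
    (TP : T ≤ P) (n : P ≤ normalizer T) (c : ∀ p ∈ P, x⁻¹ * (p⁻¹ * x * p) ∈ ⁅T, T⁆) {b : B}
    (h : ∀ g, cj[g⁻¹] P ≤ S → ∀ hg : g⁻¹ * x * g ∈ S, χ ⟨_, hg⟩ = b) : MonoidHom.transfer χ x = b := by
  obtain ⟨s, f, o, e, k⟩ := tr_fix χ x2 hP xT Tx TP n c
  have v : ∀ q ∈ s, f q = b := fun q hq => by
    obtain ⟨-, g, -, l, hg, r⟩ := k q hq
    exact r.trans (h g l hg)
  obtain ⟨q, hq⟩ := Finset.card_pos.1 (show 0 < s.card by unfold Nat.ModEq at o; omega)
  rw [e, Finset.prod_congr rfl v, Finset.prod_const, pow_eq_pow_of_modEq (o.trans (show S.index ≡ 1 [MOD 2] by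
    unfold Nat.ModEq; omega)) (by rw [pow_two, ← v q hq]; exact (k q hq).1), pow_one]

/-- Lemma TR with `P = T` centralising `x`. -/
theorem tr1 (hS : ¬ 2 ∣ S.index) (χ : S →* B) (x2 : x * x = 1) (hT : IsPGroup 2 T) (xT : x ∈ T) (Tx : T ≤ centralizer {x})
    {b : B} (h : ∀ g, cj[g⁻¹] T ≤ S → ∀ hg : g⁻¹ * x * g ∈ S, χ ⟨_, hg⟩ = b) : MonoidHom.transfer χ x = b :=
  tr hS χ x2 hT xT Tx le_rfl le_normalizer (fun p hp => by
    rw [mul_assoc, ← mem_centralizer_singleton_iff.1 (Tx hp)]; simp) h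

/-- Lemma TR for a subgroup `M` over the derived group of `S`: no conjugate of `x` in question lies in `M` and the product of
two of them does; then `x` is not in the derived group. -/
theorem tr_sub (hS : ¬ 2 ∣ S.index) (hc : ⁅S, S⁆ ≤ M) (x2 : x * x = 1) (hP : IsPGroup 2 P) (xT : x ∈ T)
    (Tx : T ≤ centralizer {x}) (TP : T ≤ P) (n : P ≤ normalizer T) (c : ∀ p ∈ P, x⁻¹ * (p⁻¹ * x * p) ∈ ⁅T, T⁆)
    {a : G} (aS : a ∈ S) (h : ∀ g, cj[g⁻¹] P ≤ S → a⁻¹ * (g⁻¹ * x * g) ∈ M) (hx : x ∈ commutator G) : a ∈ M := by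
  have := CF.Transfer.normal_subgroupOf_of_commutator_le hc
  have : IsMulCommutative (S ⧸ M.subgroupOf S) :=
    Normal.quotient_commutative_iff_commutator_le.2 fun x hx =>
      hc (map_subtype_commutator S ▸ mem_map_of_mem S.subtype hx)
  have e := tr hS (QuotientGroup.mk' (M.subgroupOf S)) x2 hP xT Tx TP n c (b := QuotientGroup.mk' _ ⟨a, aS⟩)
    fun g l hg => (QuotientGroup.eq (s := M.subgroupOf S) (a := ⟨a, aS⟩) (b := ⟨_, hg⟩)).2 (h g l) |>.symm
  exact (QuotientGroup.eq_one_iff (N := M.subgroupOf S) ⟨a, aS⟩).1 (e.symm.trans (Abelianization.commutator_subset_ker _ hx))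

/-- Lemma TP (parity along `t`): every conjugate of `t` in `S` is `S`-conjugate to `t`; then the transfers of `t` and of an
involution `u` commuting with `t` are computed inside the centraliser of `t`. -/
theorem tp (hS : ¬ 2 ∣ S.index) (χ : S →* B) (tS : t ∈ S) (t2 : t * t = 1) (u2 : u * u = 1) (c : t * u = u * t)
    (f : ∀ g, g⁻¹ * t * g ∈ S → ∃ s ∈ S, s⁻¹ * t * s = g⁻¹ * t * g) {b : B}
    (h : ∀ g, g * t = t * g → ∀ hg : g⁻¹ * u * g ∈ S, χ ⟨_, hg⟩ = b) :
    MonoidHom.transfer χ u = b ∧ MonoidHom.transfer χ t = χ ⟨t, tS⟩ := by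
  have cf : ∀ a s : S, χ (s⁻¹ * a * s) = χ a := fun a s => by
    rw [map_mul, map_mul, mul_right_comm, ← map_mul, inv_mul_cancel, map_one, one_mul]
  have p : ∀ {a : G}, a * a = 1 → IsPGroup 2 (zpowers a) := fun h => isPGroup_zpowers (k := 1) (by rw [pow_one, pow_two, h])
  have l : ∀ {a b : G}, b * a = a * b → zpowers b ≤ centralizer {a} := fun h =>
    zpowers_le.2 (mem_centralizer_singleton_iff.2 h)
  refine ⟨tr1 hS χ u2 (T := zpowers t ⊔ zpowers u) (isPGroup_sup (p t2) (p u2) ?_) (mem_sup_right (mem_zpowers u))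
    (sup_le (l c) (l rfl)) fun g k hg => ?_, tr1 hS χ t2 (p t2) (mem_zpowers t) (l rfl) fun g _ hg => ?_⟩
  · exact (zpowers_le.2 (mem_centralizer_iff.2 (by rintro _ ⟨i, rfl⟩; exact (Commute.zpow_left c i).eq))).trans
      (centralizer_le_normalizer _)
  · obtain ⟨s, hs, e⟩ := f g (by simpa using k (conj_mem_cj g⁻¹ (mem_sup_left (mem_zpowers t))))
    have q : (g * s⁻¹)⁻¹ * u * (g * s⁻¹) ∈ S := by
      simpa [mul_assoc] using mul_mem (mul_mem hs hg) (inv_mem hs)
    rw [← h (g * s⁻¹) (by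
      calc _ = g * (s⁻¹ * t * s) * s⁻¹ := by group
        _ = _ := by rw [e]; group) q, ← cf ⟨_, q⟩ ⟨s, hs⟩]
    congr 1; ext; simp [mul_assoc]
  · obtain ⟨s, hs, e⟩ := f g hg
    rw [← cf ⟨t, tS⟩ ⟨s, hs⟩]
    congr 1; ext; simp [e]

end CF.Gu
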