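import Cfsg.Agent.Gu.C0
import Cfsg.Agent.Gu.T
import Cfsg.Agent.Ab2.Z

/-! Standard subgroups isomorphic to `U₄(2)`: definitions. -/

set_option autoImplicit false

namespace CF.Gu
open Subgroup Cfsg CF.BG CF.Sig CF.GW CF.Ab2

variable {G Γ : Type*} [Group G] [Group Γ]

/-- `g` acts on the image of `ι` as `h` -/
def Ac (ι : LL →* G) (g : G) (h : HH) : Prop := ∀ l, g * ι l * g⁻¹ = ι (aut h l)

/-- the involution `t` centralises `L`, and `⟨t⟩` is a Sylow subgroup of the centraliser of `L` in `C(t) ≤ N(L)` -/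
structure Hy (ι : LL →* G) (t : G) : Prop where
  inj : Function.Injective ι
  ns : NS ι.range
  it : Iv t
  tc : ∀ l, ι l * t = t * ι l
  ac : ∀ g ∈ 𝐂₁ t, ∃ h, Ac ι g h
  r2 : ∀ g ∈ 𝐂₁ t, Ac ι g 1 → E2 g → g = 1 ∨ g = t

/-- the same without odd core -/
structure Hz (ι : LL →* G) (t : G) : Prop extends Hy ι t where
  z1 : ∀ g ∈ 𝐂₁ t, Ac ι g 1 → g = 1 ∨ g = t

/-- the ambient group is `Y ⟨t⟩` with `Y` simple -/
structure Sm (Y : Subgroup G) (ι : LL →* G) (t : G) : Prop where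
  nm : Y.Normal
  ns : NS Y
  le : ι.range ≤ Y
  ne : ι.range ≠ Y
  tp : Y ⊔ zpowers t = ⊤
  cb : 𝐂 Y = ⊥

/-- `t` is conjugate to `t z` -/
def Fus (ι : LL →* G) (t : G) : Prop := ∃ g, g * t * g⁻¹ = t * ι zc

/-- outer automorphisms are induced -/
def Gam (ι : LL →* G) (t : G) : Prop := ∃ g ∈ 𝐂₁ t, Ac ι g s0

/-- case II: `t` and `t z` are conjugate in `C(Q)` -/
def II (ι : LL →* G) (t : G) : Prop := ∃ x, (∀ q, x * ι (qL q) = ι (qL q) * x) ∧ x * t * x⁻¹ = t * ι zc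

/-- the automorphism `δ` of `Q` that is not induced by the model -/
noncomputable def dl : TG XQ →* TG XQ := TG.hom [TG.e XQ 17, TG.e XQ 4, TG.e XQ 8, TG.e XQ 3, TG.e XQ 1] (by decide +kernel)

/-- case I1 -/
def I1 (ι : LL →* G) (t : G) : Prop := ∃ x, (∀ q, x * ι (qL q) * x⁻¹ = ι (qL (dl q))) ∧ x * t * x⁻¹ = t * ι zc

/-- an embedding of a tower over `S × ⟨t⟩` -/
structure Em (ι : LL →* G) (t : G) {X : TD} [X.OK] (φ : TG X →* G) : Prop where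
  inj : Function.Injective φ
  ez : φ (TG.e X 1) = ι zc
  eb : φ (TG.e X 2) = ι bt
  e2 : φ (TG.e X 4) = ι b2
  ea : φ (TG.e X 8) = ι va
  ev : φ (TG.e X 16) = ι vb
  er : φ (TG.e X 32) = ι rr
  et : φ (TG.e X 64) = t

/-- the diagonal subgroup `E = 2⁴` of the model -/
noncomputable def EE : Subgroup LL := closure {z0, z1, z2, z3}

/-- the monomial subgroup `M = 2⁴ : A₅` of the model -/
noncomputable def MM : Subgroup LL := closure {z0, th, p5}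

/-- the subgroup `A = ⟨t⟩ × E` -/
noncomputable def AA (ι : LL →* G) (t : G) : Subgroup G := EE.map ι ⊔ zpowers t

/-- the odd core of `C(t)` -/
abbrev Oo (t : G) : Subgroup G := 𝒪 (𝐂₁ t)

/-- the passage to `N(O) / O` -/
structure Lf (ι : LL →* G) (t : G) (f : 𝐍 (Oo t) →* Γ) (ι' : LL →* Γ) (t' : Γ) : Prop where
  hy : Hy ι t
  hz : Hz ι' t'
  su : Function.Surjective f
  ker : ∀ x, f x = 1 ↔ x.1 ∈ Oo t
  fι : ∀ l, ∃ m, f ⟨ι l, m⟩ = ι' l
  ft : ∃ m, f ⟨t, m⟩ = t'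

/-- `φ` lifts `φ'` -/
def Up {P : Type*} [Group P] {N : Subgroup G} (f : N →* Γ) (φ : P →* G) (φ' : P →* Γ) : Prop :=
  ∀ p, ∃ m, f ⟨φ p, m⟩ = φ' p

/-- case II: the dihedral group `⟨t, y⟩` centralises `J = ⟨Q, θ, ω⟩` -/
structure D2 (ι : LL →* G) (t y : G) : Prop extends Hz ι t where
  yy : y * y = 1
  yt : y * t * y⁻¹ = t * ι zc
  yq : ∀ l ∈ [zc, bt, b2, va, vb, th, om], y * ι l = ι l * y

structure Du (ι : LL →* G) (t y : G) : Prop extends D2 ι t y where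
  ru : ι rr * y * (ι rr)⁻¹ = y * ι zc

structure Dw (ι : LL →* G) (t y : G) : Prop extends D2 ι t y where
  rw : y * ι rr = ι rr * y

/-- the conjugate of `x` that belongs to the index `k` (`p5` maps `4` to `0`) -/
noncomputable def xk (ι : LL →* G) (x : G) (k : ℕ) : G := ι (p5 ^ (k + 1)) * x * (ι (p5 ^ (k + 1)))⁻¹

/-- the case `U = 2⁸` -/
structure W8 (ι : LL →* G) (t y : G) : Prop extends Dw ι t y where
  cm : ∀ j k, xk ι y j * xk ι y k = xk ι y k * xk ι y j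
  pr : xk ι y 0 * xk ι y 1 * xk ι y 2 * xk ι y 3 * y = 1

/-- the case `U = 4⁴` -/
structure W4 (ι : LL →* G) (t y : G) : Prop extends Dw ι t y where
  cm : ∀ j k, xk ι (t * y) j * xk ι (t * y) k = xk ι (t * y) k * xk ι (t * y) j
  pr : xk ι (t * y) 0 * xk ι (t * y) 1 * xk ι (t * y) 2 * xk ι (t * y) 3 * (t * y) = 1

/-- the derived group of the centraliser of `z` is `SU₄(3)` -/
def KK {Y : Type*} [Group Y] (z : Y) : Prop := ∃ (E : Type) (_ : Field E) (_ : Fintype E), Fintype.card E = 9 ∧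
  Nonempty (↥⁅𝐂₁ z, 𝐂₁ z⁆ ≃* SU 4 E 3) ∧ z ∈ ⁅𝐂₁ z, 𝐂₁ z⁆

/-- the unitary case -/
def U5 (Y : Subgroup G) (ι : LL →* G) (t : G) : Prop := Gam ι t ∧ (∃ (E : Type) (_ : Field E) (_ : Fintype E),
  Fintype.card E = 9 ∧ Nonempty (Y ≃* PSU 5 E 3)) ∧ ∀ m : ι zc ∈ Y, KK (⟨ι zc, m⟩ : Y)

end CF.Gu
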