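import Cfsg.Agent.Gu.A

/-! Standard subgroups isomorphic to `U₄(2)`: the centraliser of `t`. -/

set_option autoImplicit false
set_option linter.unusedSectionVars false
set_option maxRecDepth 100000

namespace CF.Gu
open Subgroup Cfsg CF.BG CF.Sig CF.GW CF.Ab2

variable {G : Type*} [Group G] [Finite G] {ι : LL →* G} {t g g' x : G} {h h' : HH} {l : LL} {P T Y : Subgroup G}

theorem Ac.mul (a : Ac ι g h) (b : Ac ι g' h') : Ac ι (g * g') (h * h') := fun l => by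
  rw [map_mul, MulAut.mul_apply, ← a, ← b]; group
theorem Ac.inv (a : Ac ι g h) : Ac ι g⁻¹ h⁻¹ := fun l => by
  have := a (aut h⁻¹ l)
  rw [← MulAut.mul_apply, ← map_mul, mul_inv_cancel, map_one, MulAut.one_apply] at this
  rw [← this]; group
theorem ac_one : Ac ι 1 1 := fun l => by simp
theorem Ac.pow (a : Ac ι g h) (k : ℕ) : Ac ι (g ^ k) (h ^ k) := by
  induction k with
  | zero => simpa using ac_one
  | succ k ih => rw [pow_succ, pow_succ]; exact ih.mul a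
theorem ac_iL (l : LL) : Ac ι (ι l) (iL l) := fun m => by rw [aut_iL, map_mul, map_mul, map_inv]
theorem Ac.ap (a : Ac ι g h) {l l' : LL} (e : h * iL l = iL l' * h) : g * ι l * g⁻¹ = ι l' := by rw [a, aut_eq.2 e]
theorem Ac.cm (a : Ac ι g h) (e : h * iL l = iL l * h) : g * ι l = ι l * g := mul_inv_eq_iff_eq_mul.1 (a.ap e)
theorem ac1_iff : Ac ι g 1 ↔ g ∈ 𝐂 ι.range := by
  simp only [Ac, map_one, MulAut.one_apply, mem_cent, mul_inv_eq_iff_eq_mul]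
  exact ⟨by rintro k _ ⟨l, rfl⟩; exact (k l).symm, fun k l => (k _ ⟨l, rfl⟩).symm⟩
theorem Ac.norm (a : Ac ι g h) : g ∈ 𝐍 ι.range := mem_norm_of_cj_le (by
  rintro _ ⟨_, ⟨l, rfl⟩, rfl⟩
  exact ⟨_, (a l).symm⟩)

theorem two_step (p : P2 P) : ¬ 2 ∣ P.index ∨ ∃ w ∈ 𝐍 P, w ∉ P ∧ w * w ∈ P := by
  refine or_iff_not_imp_right.2 fun n => ?_
  have : Syl 2 P ⊤ := syl_of_syl_norm le_top (syl_mk p2 (le_inf le_top (le_norm_self P)) p fun d => n (by
    rw [top_inf_eq] at d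
    obtain ⟨a, e⟩ := exists_prime_orderOf_dvd_card' (G := 𝐍 P ⧸ P.subgroupOf (𝐍 P)) 2 d
    obtain ⟨w, rfl⟩ := QuotientGroup.mk'_surjective _ a
    exact ⟨w, w.2, fun m => Iv.ne_one e ((QuotientGroup.eq_one_iff _).2 m),
      (QuotientGroup.eq_one_iff (N := P.subgroupOf (𝐍 P)) (w * w)).1 (Iv.sq e)⟩))
  simpa using this.not_dvd p2

theorem two_sup (p : P2 P) {w : G} (n : w ∈ 𝐍 P) (m : w ∉ P) (s : w * w ∈ P) : P2 (P ⊔ zpowers w) ∧
    ♯(P ⊔ zpowers w) = 2 * ♯P ∧ ∀ a ∈ P ⊔ zpowers w, a ∈ P ∨ a * w⁻¹ ∈ P := by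
  let K : Subgroup G :=
    { carrier := {a | a ∈ P ∨ a * w⁻¹ ∈ P}
      one_mem' := .inl (one_mem P)
      mul_mem' := by
        rintro a b (p | p) (q | q)
        · exact .inl (mul_mem p q)
        · exact .inr (mul_assoc a b _ ▸ mul_mem p q)
        · exact .inr (by convert mul_mem p (conj_mem_of_norm n q) using 1; group)
        · exact .inl (by convert mul_mem (mul_mem p (conj_mem_of_norm n q)) s using 1; group)
      inv_mem' := by
        rintro a (p | p)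
        · exact .inl (inv_mem p)
        · exact .inr (by convert mul_mem (inv_mem (conj_mem_of_norm' n p)) (inv_mem s) using 1; group) }
  have k : P ⊔ zpowers w ≤ K := sup_le (fun _ => .inl) (zpowers_le.2 (.inr (by simp [one_mem])))
  have i : P.relIndex (P ⊔ zpowers w) = 2 := index_eq_two_iff.2 ⟨⟨w⁻¹, inv_mem (mem_sup_right (mem_zpowers w))⟩, fun b => by
    rcases k b.2 with q | q
    · exact .inr ⟨q, fun r => m (by simpa using inv_mem ((mul_mem_cancel_left q).1 r))⟩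
    · exact .inl ⟨q, fun r => m (by simpa using inv_mem ((mul_mem_cancel_left (show b.1 ∈ P from r)).1 q))⟩⟩
  exact ⟨p.of_relIndex (by rw [i]; exact piNat_self p2), by rw [← card_mul_relIndex (le_sup_left : P ≤ _), i, mul_comm], k⟩

theorem p2_range {X : TD} [X.OK] (φ : TG X →* G) : P2 φ.range := by
  rw [MonoidHom.range_eq_map]
  exact (piGrp_of_isPGroup p2 ((TG.pgroup (X := X)).to_subgroup ⊤)).map φ

theorem card_range {K : Type*} [Group K] {φ : K →* G} (i : Function.Injective φ) : ♯φ.range = Nat.card K :=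
  (Nat.card_congr (MonoidHom.ofInjective i).toEquiv).symm

theorem e2_iff : E2 g ↔ ∃ k, g ^ 2 ^ k = 1 :=
  ⟨fun e => (PiNat.exists_pow e (orderOf_pos g).ne').imp fun _ q => by rw [← q, pow_orderOf_eq_one],
    fun ⟨k, q⟩ => (piNat_pow_self p2 k).dvd (orderOf_dvd_of_pow_eq_one q)⟩

theorem inn_odd {n : ℕ} (o : Odd n) (e : h ^ n = 1) : inn h := by
  obtain ⟨k, rfl⟩ := o
  have := e ▸ inn_one
  rw [pow_succ, two_mul, pow_add, inn_mul] at this
  exact this.1 (inn_sq _)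

namespace Hy
variable (H : Hy ι t)
include H

theorem act : Ac ι t 1 := fun l => by rw [← H.tc, map_one, MulAut.one_apply, mul_inv_cancel_right]
theorem mem (l : LL) : ι l ∈ 𝐂₁ t := mem_cent1.2 (H.tc l)
theorem tn (l : LL) : ι l ≠ t := fun e => H.it.ne_one (H.ns.eq_one ⟨l, e⟩ (ac1_iff.1 H.act))
theorem uq (a : Ac ι g h) (b : Ac ι g h') : h = h' := aut_inj (MulEquiv.ext fun l => H.inj ((a l).symm.trans (b l)))
theorem ap (a : Ac ι g h) {l l' : LL} (e : g * ι l * g⁻¹ = ι l') : h * iL l = iL l' * h :=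
  aut_eq.1 (H.inj ((a l).symm.trans e))
theorem cm (a : Ac ι g h) (e : g * ι l = ι l * g) : h * iL l = iL l * h := H.ap a (mul_inv_eq_iff_eq_mul.2 e)

/-- the action as a homomorphism -/
theorem kap : ∃ κ : 𝐂₁ t →* HH, ∀ g, Ac ι g.1 (κ g) := by
  choose κ k using fun g : 𝐂₁ t => H.ac g g.2
  exact ⟨MonoidHom.mk' κ fun a b => H.uq (k _) ((k a).mul (k b)), k⟩

theorem cj (g : G) : Hy ((MulAut.conj g).toMonoidHom.comp ι) (g * t * g⁻¹) := by
  have c : ∀ x ∈ 𝐂₁ (g * t * g⁻¹), g⁻¹ * x * g ∈ 𝐂₁ t := fun x m => by rwa [← cj_cent1, mem_cj] at m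
  refine ⟨(conj_inj g).comp H.inj, by rw [MonoidHom.range_comp]; exact H.ns.cj g, H.it.conj g, fun l => ?_, fun x m => ?_,
    fun x m a e => ?_⟩
  · change g * ι l * g⁻¹ * _ = _ * (g * ι l * g⁻¹)
    rw [conj_mul, conj_mul, H.tc]
  · obtain ⟨h, a⟩ := H.ac _ (c x m)
    refine ⟨h, fun l => ?_⟩
    change x * (g * ι l * g⁻¹) * x⁻¹ = g * ι _ * g⁻¹
    rw [← a]; group
  · refine (H.r2 _ (c x m) (fun l => ?_) (by simpa using e.conj g⁻¹)).imp (fun q => ?_) fun q => by rw [← q]; group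
    · have : x * (g * ι l * g⁻¹) * x⁻¹ = g * ι _ * g⁻¹ := a l
      calc _ = g⁻¹ * (x * (g * ι l * g⁻¹) * x⁻¹) * g := by group
        _ = _ := by rw [this]; group
    · calc x = g * (g⁻¹ * x * g) * g⁻¹ := by group
        _ = 1 := by rw [q]; group

theorem gam (m : g ∈ 𝐂₁ t) (a : Ac ι g h) (o : ¬ inn h) : Gam ι t := by
  rcases hh_cases h with ⟨l, rfl⟩ | ⟨l, rfl⟩
  · exact (o (inn_iL l)).elim
  · exact ⟨_, mul_mem (inv_mem (H.mem l)) m, by simpa using (ac_iL l).inv.mul a⟩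

theorem ex (c : Gam ι t) (h : HH) : ∃ g ∈ 𝐂₁ t, Ac ι g h := by
  obtain ⟨g, m, a⟩ := c
  rcases hh_cases h with ⟨l, rfl⟩ | ⟨l, rfl⟩
  exacts [⟨_, H.mem l, ac_iL l⟩, ⟨_, mul_mem (H.mem l) m, (ac_iL l).mul a⟩]

/-- the part of an element that centralises `L` -/
theorem part (m : g ∈ 𝐂₁ t) (a : Ac ι g (iL l)) : (ι l)⁻¹ * g ∈ 𝐂₁ t ∧ Ac ι ((ι l)⁻¹ * g) 1 ∧
    ∀ n, g ^ n = 1 → l ^ n = 1 ∧ ((ι l)⁻¹ * g) ^ n = 1 := by
  refine ⟨mul_mem (inv_mem (H.mem l)) m, by simpa using (ac_iL l).inv.mul a, fun n e => ?_⟩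
  have k : l ^ n = 1 := iL_inj (by rw [map_pow, map_one]; exact H.uq (a.pow n) (e ▸ ac_one))
  exact ⟨k, by rw [(Commute.inv_left (a.cm rfl).symm).mul_pow, e, inv_pow, ← map_pow, k]; simp⟩

theorem two (m : g ∈ 𝐂₁ t) (a : Ac ι g (iL l)) (e : E2 g) : g = ι l ∨ g = ι l * t := by
  obtain ⟨p, q, r⟩ := H.part m a
  obtain ⟨k, e⟩ := e2_iff.1 e
  exact (H.r2 _ p q (e2_iff.2 ⟨k, (r _ e).2⟩)).imp (fun s => (inv_mul_eq_one.1 s).symm) inv_mul_eq_iff_eq_mul.1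

theorem bd (p : P2 P) (c : P ≤ 𝐂₁ t) : ♯P ∣ 256 ∧ (¬ Gam ι t → ♯P ∣ 128) := by
  obtain ⟨κ, k⟩ := H.kap
  let f := κ.comp (inclusion c)
  have e : ♯P = ♯f.range * ♯f.ker := by
    rw [card_eq_card_quotient_mul_card_subgroup f.ker, Nat.card_congr (QuotientGroup.quotientKerEquivRange f).toEquiv]
  have a : ♯f.ker ∣ 2 := by
    rw [← card_map P.subtype_injective, ← H.it.card]
    refine card_dvd ?_
    rintro _ ⟨x, m, rfl⟩
    exact H.it.mem_zpowers.2 (H.r2 _ (c x.2) ((show f x = 1 from m) ▸ k (inclusion c x)) (p.elt x.2))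
  obtain ⟨n, q⟩ := p.card_pow
  have b : ∀ u v, ♯f.range ∣ u * v → Odd v → ♯f.range ∣ u := fun u v d o =>
    (Nat.Coprime.coprime_dvd_left (q ▸ Dvd.intro _ e.symm) (Nat.Coprime.pow_left n (Nat.coprime_two_left.2 o))).dvd_of_dvd_mul_right d
  rw [e]
  refine ⟨mul_dvd_mul (b 128 405 ((card_subgroup_dvd_card _).trans card_HH.dvd) (by decide)) a, fun n =>
    mul_dvd_mul (b 64 405 ?_ (by decide)) a⟩
  rw [show 64 * 405 = ♯iL.range by rw [card_range iL_inj, card_LL]]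
  refine card_dvd ?_
  rintro _ ⟨x, rfl⟩
  exact inn_iff.1 (by_contra fun o => n (H.gam (c x.2) (k (inclusion c x)) o))

theorem mx (p : P2 P) (l : T ≤ P) (c : T ≤ 𝐂₁ t) (k : ♯T = 256 ∨ ¬ Gam ι t ∧ ♯T = 128) (m : g ∈ P) (n : g ∈ 𝐂₁ t) :
    g ∈ T := by
  have := H.bd (p.le inf_le_left) (inf_le_right : P ⊓ 𝐂₁ t ≤ _)
  refine (eq_of_card_le (le_inf l c) ?_).ge ⟨m, n⟩
  rcases k with k | ⟨a, k⟩ <;> rw [k]
  exacts [Nat.le_of_dvd (by decide) this.1, Nat.le_of_dvd (by decide) (this.2 a)]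

theorem em : ∃ τ : TG XT →* G, Em ι t τ := by
  obtain ⟨τ, a, b, c⟩ := ext2 iST (TG.inc_inj _ _) (by rw [TG.card, TG.card]; rfl) (TG.e XT 64) iST_ne (ι.comp sL) t
    ([1, 2, 4, 8, 16, 32].map fun a => (TG.e XS a, TG.e XS a)) (TG.top (by decide +kernel)) (by decide +kernel)
    (fun p m => by
      obtain ⟨a, -, rfl⟩ := List.mem_map.1 m
      exact mul_inv_eq_iff_eq_mul.2 (H.tc _).symm) 1 (by decide +kernel) (by rw [map_one, H.it.sq])
  have k : ∀ {c : ℕ} {l : LL}, TG.e XT c = iST (TG.e XS c) ∧ sL (TG.e XS c) = l → τ (TG.e XT c) = ι l := fun q => by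
    rw [q.1, a, ← q.2]; rfl
  exact ⟨τ, c (H.inj.comp sL_inj) fun p => H.tn _, k (by decide +kernel), k (by decide +kernel), k (by decide +kernel),
    k (by decide +kernel), k (by decide +kernel), k (by decide +kernel), b⟩

theorem oc (m : g ∈ Oo t) : Ac ι g 1 := by
  have c : 𝐂₁ t ≤ 𝐍 ι.range := fun g m => (H.ac g m).elim fun _ a => a.norm
  have l : ι.range ≤ 𝐂₁ t := by rintro _ ⟨l, rfl⟩; exact H.mem l
  exact ac1_iff.2 (cent_symm ((H.ns.le_or_cent (l.trans (O_normal _ _).norm) ((O_le _ _).trans c)).resolve_left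
    fun k => H.ns.not_od ((O_pi _ _).le k)) m)

theorem ker (m : g ∈ 𝐂₁ t) (a : Ac ι g 1) : g ∈ Oo t ∨ g * t ∈ Oo t := by
  have c : 𝐂₁ t ≤ 𝐍 ι.range := fun g m => (H.ac g m).elim fun _ a => a.norm
  have l : zpowers t ≤ 𝐂₁ t ⊓ 𝐂 ι.range := zpowers_le.2 ⟨self_mem_cent1 t, ac1_iff.1 H.act⟩
  have s : Syl 2 (zpowers t) (𝐂₁ t ⊓ 𝐂 ι.range) := syl_of_max l H.it.piGrp fun Q a p b => le_antisymm (fun x m =>
    H.it.mem_zpowers.2 (H.r2 x (a m).1 (ac1_iff.2 (a m).2) (p.elt m))) b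
  obtain ⟨C, d, e⟩ := s.exists_compl (inf_le_left.trans (cent1_le_norm_zp t))
  have n : 𝐂₁ t ⊓ 𝐂 ι.range ≤ 𝐍 C := d.sup.ge.trans
    (sup_le (norm_of_cent (zp_le_cent.2 (e.le.trans inf_le_left))) (le_norm_self C))
  have o : C ≤ Oo t := le_O ⟨e.le.trans inf_le_left, (normalIn_inf_cent c).norm.trans (e.norm_le_norm n)⟩ e.pi
  obtain ⟨b, q, k, p, rfl⟩ := d.exists_mul' ⟨m, ac1_iff.1 a⟩
  rcases H.it.mem_zpowers.1 p with rfl | rfl
  · exact .inl (by simpa using o q)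
  · exact .inr (by simpa [mul_assoc, H.it.sq] using o q)

theorem odd (m : g ∈ 𝐂₁ t) (o : Eo g) : g ∈ ι.range ⊔ Oo t := by
  obtain ⟨h, a⟩ := H.ac g m
  obtain ⟨l, rfl⟩ := inn_iff.1 (inn_odd (eo_iff.2 o) (H.uq (a.pow _) (pow_orderOf_eq_one g ▸ ac_one)))
  obtain ⟨p, q, r⟩ := H.part m a
  have o' : Eo ((ι l)⁻¹ * g) := o.dvd (orderOf_dvd_of_pow_eq_one (r _ (pow_orderOf_eq_one g)).2)
  rcases H.ker p q with k | k
  · simpa using mul_mem_sup (show ι l ∈ ι.range from ⟨l, rfl⟩) k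
  · have := o'.inv.mul ((O_pi _ _).elt k) (by rw [inv_mul_cancel_left, mem_cent1.1 p, mul_inv_cancel_right])
    rw [inv_mul_cancel_left] at this
    exact (H.it.ne_one (H.it.piElt.eq_one this)).elim

theorem ev (m : g ∈ ι.range ⊔ Oo t) (e : E2 g) : g ∈ ι.range := by
  obtain ⟨_, ⟨l, rfl⟩, o, k, rfl⟩ := (mem_sup_norm' fun o k => (H.oc k).norm).1 m
  rcases H.two (mul_mem (H.mem l) (O_le _ _ k)) (by simpa using (ac_iL l).mul (H.oc k)) e with q | q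
  · exact ⟨l, q.symm⟩
  · exact (not_mem_of_odd (odd_O _) H.it (mul_left_cancel q ▸ k)).elim

end Hy

theorem Em.lo {X : TD} [X.OK] {φ : TG X →* G} (e : Em ι t φ) {X' : TD} [X'.OK] (j : TG X' →* TG X) (i : Function.Injective j)
    (k : ∀ a ∈ [1, 2, 4, 8, 16, 32, 64], j (TG.e X' a) = TG.e X a) : Em ι t (φ.comp j) := by
  have q : ∀ a ∈ [1, 2, 4, 8, 16, 32, 64], φ.comp j (TG.e X' a) = φ (TG.e X a) := fun a m => congrArg φ (k a m)
  simp only [List.forall_mem_cons] at q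
  exact ⟨e.inj.comp i, q.1.trans e.ez, q.2.1.trans e.eb, q.2.2.1.trans e.e2, q.2.2.2.1.trans e.ea, q.2.2.2.2.1.trans e.ev,
    q.2.2.2.2.2.1.trans e.er, q.2.2.2.2.2.2.1.trans e.et⟩

theorem Em.s {τ : TG XT →* G} (e : Em ι t τ) (s : TG XS) : τ (iST s) = ι (sL s) := by
  refine DFunLike.congr_fun (TG.hext (f := τ.comp iST) (g := ι.comp sL) fun L m => ?_) s
  obtain ⟨p, m, a, b⟩ := (by decide +kernel : ∀ L ∈ XS.W, ∃ p ∈ [(1, zc), (2, bt), (4, b2), (8, va), (16, vb), (32, rr)],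
    iST (TG.e XS L.top) = TG.e XT p.1 ∧ sL (TG.e XS L.top) = p.2) L m
  rw [MonoidHom.comp_apply, MonoidHom.comp_apply, a, b]
  revert p
  simp only [List.mem_cons, List.not_mem_nil, or_false]
  rintro _ (rfl | rfl | rfl | rfl | rfl | rfl) - -
  exacts [e.ez, e.eb, e.e2, e.ea, e.ev, e.er]

theorem Em.q {τ : TG XT →* G} (e : Em ι t τ) (q : TG XQ) : τ (iQT q) = ι (qL q) := by
  rw [← sL_iQS, ← e.s]; rfl

theorem Em.or {τ : TG XT →* G} (e : Em ι t τ) (a : TG XT) : τ a = ι (tL a) ∨ τ a = ι (tL a) * t := by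
  obtain ⟨s, rfl | rfl⟩ := XT_cases a
  · exact .inl (by rw [e.s, tL_iST])
  · exact .inr (by rw [map_mul, map_mul, e.s, e.et, tL_iST, (by decide +kernel : tL (TG.e XT 64) = 1), mul_one])

theorem Em.ac {τ : TG XT →* G} (e : Em ι t τ) (H : Hy ι t) (a : TG XT) : τ a ∈ 𝐂₁ t ∧ Ac ι (τ a) (iL (tL a)) := by
  rcases e.or a with q | q <;> rw [q]
  exacts [⟨H.mem _, ac_iL _⟩, ⟨mul_mem (H.mem _) (self_mem_cent1 t), by simpa using (ac_iL _).mul H.act⟩]

theorem Em.uq {τ τ' : TG XT →* G} (e : Em ι t τ) (e' : Em ι t τ') : τ = τ' := MonoidHom.ext fun a => by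
  obtain ⟨s, rfl | rfl⟩ := XT_cases a <;> simp only [map_mul, e.s, e'.s, e.et, e'.et]

theorem Sm.der (s : Sm Y ι t) : Y ≤ commutator G ∧ (t ∉ commutator G → t ∉ Y ∧ Y = commutator G ∧ (t * t = 1 → Y.index = 2)) := by
  have := s.nm
  have l : Y ≤ commutator G := s.ns.perf.ge.trans (commutator_mono le_top le_top)
  have c : IsCyclic (G ⧸ Y) := ⟨QuotientGroup.mk' Y t, fun a => by
    obtain ⟨a, rfl⟩ := QuotientGroup.mk'_surjective Y a
    obtain ⟨y, m, b, k, rfl⟩ := mem_sup_of_normal_left.1 (s.tp.ge (mem_top a))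
    rw [map_mul, show QuotientGroup.mk' Y y = 1 from (QuotientGroup.eq_one_iff y).2 m, one_mul]
    exact (MonoidHom.map_zpowers _ t).le (mem_map_of_mem _ k)⟩
  refine ⟨l, fun n => ⟨fun m => n (l m), le_antisymm l (Normal.quotient_commutative_iff_commutator_le.1 inferInstance), fun q => ?_⟩⟩
  refine index_eq_two_iff.2 ⟨t, fun a => ?_⟩
  obtain ⟨y, m, b, k, rfl⟩ := mem_sup_of_normal_left.1 (s.tp.ge (mem_top a))
  rcases (Iv.mk' (fun e : t = 1 => n (e.symm ▸ one_mem _)) q).mem_zpowers.1 k with rfl | rfl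
  · exact .inr ⟨by simpa using m, fun r => n (l (by simpa [mul_mem_cancel_left m] using r))⟩
  · exact .inl ⟨by simpa [mul_assoc, q] using m, fun r => n (l ((mul_mem_cancel_left m).1 r))⟩

end CF.Gu
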