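import Cfsg.Agent.Gu.C0

/-! The centraliser of `z` in the model. -/

set_option autoImplicit false
set_option maxRecDepth 100000
set_option maxHeartbeats 0
set_option Elab.async false
set_option synthInstance.maxSize 4000
set_option synthInstance.maxHeartbeats 400000

namespace CF.Gu

open CF.Perm.SS CF.Comp CF.Yo

/-- pruning data for the centraliser of `z` -/
def DZ : List (List (ℕ × List (ℕ × ℕ))) := [[(0, [(27, 27), (28, 28)])], [(0, [(0, 0)])], [(0, [(1, 1), (2, 2)])], [], [(0, [(3, 4), (4, 3)])], [(0, [(5, 6), (6, 5)])], [(0, [(7, 8), (8, 7), (9, 12), (10, 13), (11, 14), (12, 9), (13, 10), (14, 11), (15, 17), (16, 18), (17, 15), (18, 16), (19, 21), (20, 22), (21, 19), (22, 20), (23, 25), (24, 26), (25, 23), (26, 24)])]]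
def DZL : List (List (ℕ × List (ℕ × ℕ))) := [[(0, [(0, 0), (27, 27), (28, 28)])], [(0, [(1, 1), (2, 2)])], [], [(0, [(3, 4), (4, 3)])], [(0, [(5, 6), (6, 5)])], [(0, [(7, 8), (8, 7), (9, 12), (10, 13), (11, 14), (12, 9), (13, 10), (14, 11), (15, 17), (16, 18), (17, 15), (18, 16), (19, 21), (20, 22), (21, 19), (22, 20), (23, 25), (24, 26), (25, 23), (26, 24)])]]

/-- the search over the centraliser of `z`: `allZ (by decide +kernel)` -/
theorem allZ {Q : HH → Prop} [DecidablePred Q] (k : (PE.prOK [(iL zc, iL zc)] THH DZ &&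
    PE.allP [(iL zc, iL zc)] (fun c => decide (Q c)) THH DZ 1) = true) (h : HH) (c : h * iL zc = iL zc * h) : Q h :=
  THH_tr.cen [iL zc] DZ k h fun _ m => List.mem_singleton.1 m ▸ c

theorem allZL {Q : LL → Prop} [DecidablePred Q] (k : (PE.prOK [(zc, zc)] TLL DZL &&
    PE.allP [(zc, zc)] (fun c => decide (Q c)) TLL DZL 1) = true) (h : LL) (c : h * zc = zc * h) : Q h :=
  TLL_tr.cen [zc] DZL k h fun _ m => List.mem_singleton.1 m ▸ c

theorem Q_th : ∀ L ∈ XQ.W, ∃ p ∈ [(12, 12), (0, 6), (0, 2), (0, 24), (0, 8)], qL (TG.e XQ L.top) =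
    qL (TG.e XQ p.1) * th * (qL (TG.e XQ p.1))⁻¹ * th⁻¹ * (qL (TG.e XQ p.2) * th * (qL (TG.e XQ p.2))⁻¹ * th⁻¹) :=
  by decide +kernel

theorem Q_z : (∀ q, qL q * zc = zc * qL q) ∧ (∀ q, qL q ^ 4 = 1) ∧ th * zc = zc * th ∧ om * zc = zc * om ∧ (∀ s, sL s * zc = zc * sL s) ∧
    zc * zc = 1 ∧ zc ≠ 1 ∧ qL (TG.e XQ 1) = zc ∧ qL (TG.e XQ 2) = bt ∧ qL (TG.e XQ 4) = b2 ∧ qL (TG.e XQ 8) = va ∧ qL (TG.e XQ 16) = vb :=
  by decide +kernel

theorem cenQ : ∀ h : HH, h * iL zc = iL zc * h → (∀ l ∈ [bt, b2, va, vb], h * iL l = iL l * h) → h = 1 ∨ h = iL zc :=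
  allZ (by decide +kernel)

theorem nrmQ : ∀ h : HH, h * iL zc = iL zc * h → ∀ L ∈ XQ.W, ∃ q, aut h (qL (TG.e XQ L.top)) = qL q :=
  allZ (by decide +kernel)

theorem inQ : ∀ l : LL, l * zc = zc * l → l ^ 4 = 1 → (l * (om * l⁻¹ * om⁻¹)) ^ 4 = 1 → ∃ q, qL q = l :=
  allZL (by decide +kernel)

end CF.Gu
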