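import Cfsg.Agent.Gu.A1
import Cfsg.Agent.Gu.C1

/-! Standard subgroups isomorphic to `U₄(2)`: fusion of `t`, and the passage to `N(O) / O`. -/

set_option autoImplicit false
set_option linter.unusedSectionVars false
set_option maxRecDepth 100000

namespace CF.Gu
open Subgroup Cfsg CF.BG CF.Sig CF.GW CF.Ab2

universe u
variable {G : Type u} {Γ : Type*} [Group G] [Finite G] [Group Γ] [Finite Γ] {ι κ : LL →* G} {ι' : LL →* Γ} {t g x : G}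
  {t' : Γ} {h : HH} {l : LL} {P T Y : Subgroup G}

theorem e2_q (κ : LL →* G) (q : TG XQ) : E2 (κ (qL q)) := e2_iff.2 ⟨2, by rw [← map_pow]; exact (congrArg κ (Q_z.2.1 q)).trans (map_one κ)⟩

/-- a copy of `J` in `C(t)` has its subgroup `Q` inside `L` -/
theorem Hy.qin (H : Hy ι t) (c : ∀ l, l * zc = zc * l → κ l ∈ 𝐂₁ t) (q : TG XQ) : κ (qL q) ∈ ι.range := by
  have o : Eo (κ th) := eo_iff.1 ((by decide : Odd 3).of_dvd_nat (orderOf_dvd_of_pow_eq_one (by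
    rw [← map_pow, relL.2.2.2.2.1, map_one])))
  have a := H.odd (c _ Q_z.2.2.1) o
  have b : ∀ q, κ (qL q * th * (qL q)⁻¹ * th⁻¹) ∈ ι.range ⊔ Oo t := fun q => by
    have m := c _ (Q_z.1 q)
    simp only [map_mul, map_inv]
    exact mul_mem (H.odd (mul_mem (mul_mem m (c _ Q_z.2.2.1)) (inv_mem m)) (o.conj _)) (inv_mem a)
  refine H.ev ((TG.ind (P := fun q => κ (qL q) ∈ ι.range ⊔ Oo t) (by simp [one_mem]) fun L m q k => ?_) q) (e2_q κ q)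
  obtain ⟨p, -, e⟩ := Q_th L m
  rw [map_mul, map_mul, e, map_mul]
  exact mul_mem k (mul_mem (b _) (b _))

theorem Hy.nz (H : Hy ι t) (g : G) : g * t * g⁻¹ ≠ ι zc := fun e => by
  obtain ⟨l, k⟩ := (H.cj g).qin (κ := ι) (fun l c => by rw [e, mem_cent1, ← map_mul, c, map_mul]) (TG.e XQ 1)
  exact (H.cj g).tn l (by rw [k, Q_z.2.2.2.2.2.2.2.1, e])

theorem Hy.nz' (H : Hy ι t) (c : IsConj zc l) : ¬ IsConj t (ι l) := fun k => by
  obtain ⟨g, e⟩ := isConj_iff.1 (k.trans (ι.map_isConj c).symm)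
  exact H.nz g e

theorem Hy.acQ (H : Hy ι t) (a : Ac ι g h) (c : ∀ q, g * ι (qL q) = ι (qL q) * g) : h = 1 ∨ h = iL zc := by
  obtain ⟨-, -, -, -, -, -, -, a1, a2, a3, a4, a5⟩ := Q_z
  refine cenQ h (H.cm a (a1 ▸ c _)) ?_
  simp only [List.forall_mem_cons]
  exact ⟨H.cm a (a2 ▸ c _), H.cm a (a3 ▸ c _), H.cm a (a4 ▸ c _), H.cm a (a5 ▸ c _), by simp⟩

/-- the 2-elements of `C(t) ∩ C(Q)` -/
theorem Hy.zw (H : Hy ι t) (m : g ∈ 𝐂₁ t) (e : E2 g) (c : ∀ q, g * ι (qL q) = ι (qL q) * g) :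
    g = 1 ∨ g = t ∨ g = ι zc ∨ g = t * ι zc := by
  obtain ⟨h, a⟩ := H.ac g m
  rcases H.acQ a c with rfl | rfl
  · exact (H.r2 g m a e).imp_right .inl
  · exact .inr (.inr ((H.two m a e).imp_right fun q => q.trans (H.tc _)))

theorem Hy.zz (H : Hy ι t) : Iv (ι zc) ∧ Iv (t * ι zc) ∧ t * ι zc * ι zc = t := by
  have i : Iv (ι zc) := .mk' (fun e => Q_z.2.2.2.2.2.2.1 (H.inj (e.trans (map_one ι).symm)))
    (by rw [← map_mul, Q_z.2.2.2.2.2.1, map_one])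
  exact ⟨i, H.it.mul i (H.tc _).symm (H.tn _).symm, by rw [mul_assoc, i.sq, mul_one]⟩

theorem Hy.sw (H : Hy ι t) (F : Fus ι t) (s : Syl 2 T (𝐂₁ t)) (l : ∀ s, ι (sL s) ∈ T) :
    ∃ x ∈ 𝐍 T, x * x ∈ T ∧ x * t * x⁻¹ = t * ι zc ∧ x * ι zc * x⁻¹ = ι zc := by
  obtain ⟨g, e⟩ := F
  obtain ⟨i, j, k⟩ := H.zz
  have tT : t ∈ T := s.mem_of_norm (self_mem_cent1 t) (cent_le_norm T (le_cent1_iff.1 s.le)) H.it.piElt
  have zT : ι zc ∈ T := by simpa only [sL_iQS, Q_z.2.2.2.2.2.2.2.1] using l (iQS (TG.e XQ 1))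
  have w : ∀ u ∈ 𝐙 T, u = 1 ∨ u = t ∨ u = ι zc ∨ u = t * ι zc := fun u m =>
    H.zw (s.le m.1) (s.pi.elt m.1) fun q => (mem_cent.1 m.2 _ (sL_iQS q ▸ l _)).symm
  have Z : ι zc ∈ 𝐂 T := by
    obtain ⟨u, m, n⟩ := exists_mem_ne_one (s.pi.nil.inf_center_ne_bot (K := T ⊓ ι.range)
      (normalIn_inf_left (s.le.trans fun g m => (H.ac g m).elim fun _ a => a.norm)) (ne_bot_of_mem ⟨zT, zc, rfl⟩ i.ne_one))
    obtain ⟨⟨-, l, rfl⟩, m⟩ := m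
    rcases w _ m with q | q | q | q
    exacts [(n q).elim, (H.tn _ q).elim, q ▸ m.2, (H.tn (l * zc) (by rw [map_mul, q, k])).elim]
  have c : T ≤ 𝐂₁ (t * ι zc) := fun a m => cent1_mul_of (s.le m) (le_cent1_iff.2 Z m)
  have s' : Syl 2 (BG.cj g T) (𝐂₁ (t * ι zc)) := by rw [← e, ← cj_cent1]; exact s.cj g
  obtain ⟨d, m, q⟩ := s'.syl_conj (s'.of_card c (card_cj g T).symm)
  have n : d * g ∈ 𝐍 T := cj_eq_self.1 (by rw [← cj_cj, ← q])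
  have a : d * g * t * (d * g)⁻¹ = t * ι zc := by
    rw [show d * g * t * (d * g)⁻¹ = d * (g * t * g⁻¹) * d⁻¹ by group, e, mem_cent1.1 m, mul_inv_cancel_right]
  have v : ∀ y ∈ 𝐍 T, (y * t * y⁻¹ = t ∨ y * t * y⁻¹ = t * ι zc) ∧ y * ι zc * y⁻¹ = ι zc := fun y n => by
    have b := fun u m => w _ (conj_mem_of_norm (norm_center T n) (x := u) m)
    constructor
    · rcases b t ⟨tT, le_cent1_iff.1 s.le⟩ with q | q | q | q
      exacts [((H.it.conj y).ne_one q).elim, .inl q, (H.nz y q).elim, .inr q]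
    · rcases b _ ⟨zT, Z⟩ with q | q | q | q
      exacts [((i.conj y).ne_one q).elim, (H.nz y⁻¹ (by rw [← q]; group)).elim, q,
        (H.nz (y⁻¹ * g) (by rw [show y⁻¹ * g * t * (y⁻¹ * g)⁻¹ = y⁻¹ * (g * t * g⁻¹) * y by group, e, ← q]; group)).elim]
  obtain ⟨y, o, y1, o1, ey, eo, r⟩ := exists_piPart {2} (d * g)
  have sq : ∀ y ∈ 𝐍 T, y * y ∈ 𝐂₁ t := fun y n => mem_cent1.2 (mul_inv_eq_iff_eq_mul.1 (by
    rw [show y * y * t * (y * y)⁻¹ = y * (y * t * y⁻¹) * y⁻¹ by group]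
    rcases (v y n).1 with q | q
    · rw [q, q]
    · rw [q, ← conj_mul, q, (v y n).2, k]))
  have yn := zpowers_le.2 n y1
  have oc := mem_of_sq_mem (eo_iff.2 eo) (sq o (zpowers_le.2 n o1))
  refine ⟨y, yn, s.mem_of_norm (sq y yn) (mul_mem yn yn) (ey.mul ey rfl), ?_, (v y yn).2⟩
  rw [← a, ← r, mul_assoc y o, mem_cent1.1 oc]; group

theorem Hy.nQ (H : Hy ι t) (a : g * t * g⁻¹ = t * ι zc) (b : g * ι zc * g⁻¹ = ι zc) (q : TG XQ) :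
    ∃ q', g * ι (qL q) * g⁻¹ = ι (qL q') := by
  obtain ⟨i, j, k⟩ := H.zz
  have cz : ∀ l, l * zc = zc * l → ι l ∈ 𝐂₁ (ι zc) := fun l c => mem_cent1.2 (by rw [← map_mul, c, map_mul])
  have up : ∀ y ∈ 𝐂₁ t, y ∈ 𝐂₁ (ι zc) → g * y * g⁻¹ ∈ 𝐂₁ t ∧ g * y * g⁻¹ ∈ 𝐂₁ (ι zc) := fun y m n => by
    have n' : g * y * g⁻¹ ∈ 𝐂₁ (ι zc) := by rw [← b, ← cj_cent1]; exact conj_mem_cj.2 n
    exact ⟨k ▸ cent1_mul_of (by rw [← a, ← cj_cent1]; exact conj_mem_cj.2 m) n', n'⟩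
  have r := fun q => H.qin (κ := (MulAut.conj g).toMonoidHom.comp ι) (fun l c => (up _ (H.mem l) (cz l c)).1) q
  obtain ⟨l, e⟩ := r q
  replace e : ι l = g * ι (qL q) * g⁻¹ := e
  have p4 : ∀ {l} q, ι l = g * ι (qL q) * g⁻¹ → l ^ 4 = 1 := fun q e => H.inj (by
    rw [map_pow, e, conj_pow, ← map_pow, Q_z.2.1 q]; simp)
  have m1 : g⁻¹ * ι om * g ∈ 𝐂₁ (ι zc) := by rw [← mem_cj, cj_cent1, b]; exact cz _ Q_z.2.2.2.1
  have m2 : g⁻¹ * ι om * g ∈ 𝐂₁ t := by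
    rw [← mem_cj, cj_cent1, a]; exact cent1_mul_of (H.mem _) (cz _ Q_z.2.2.2.1)
  obtain ⟨h, c⟩ := H.ac _ m2
  obtain ⟨q', e'⟩ := TG.ind (P := fun q => ∃ q', aut h (qL q) = qL q') ⟨1, by simp⟩ (fun L m a ⟨q, e⟩ =>
    (nrmQ h (H.cm c (mem_cent1.1 m1)) L m).elim fun q' e' => ⟨q * q', by simp only [map_mul, e, e']⟩) q⁻¹
  obtain ⟨q'', rfl⟩ := inQ l (H.inj (by rw [map_mul, map_mul, e]; exact mem_cent1.1 (up _ (H.mem _) (cz _ (Q_z.1 q))).2))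
    (p4 q e) (p4 (q * q') (by simp only [map_mul, map_inv, e, ← e', ← c _]; group))
  exact ⟨q'', e.symm⟩

theorem Hy.nO (H : Hy ι t) (a : g * t * g⁻¹ = t * ι zc) : g ∈ 𝐍 (Oo t) := by
  obtain ⟨τ, E⟩ := H.em
  obtain ⟨T, s, l⟩ := exists_syl_le (show τ.range ≤ 𝐂₁ t by rintro _ ⟨a, rfl⟩; exact (E.ac H a).1) (p2_range τ)
  obtain ⟨x, -, -, b, c⟩ := H.sw ⟨g, a⟩ s fun s => l ⟨_, E.s s⟩
  have nO : 𝐂₁ t ≤ 𝐍 (Oo t) := (O_normal _ _).norm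
  have : x⁻¹ ∈ 𝐍 (Oo t) := mem_norm_of_cj_le fun o m => by
    rw [mem_cj_inv] at m
    have eo : Eo o := piElt_conj_iff.1 ((O_pi _ _).elt m)
    have cq : ∀ q, o * ι (qL q) = ι (qL q) * o := fun q => by
      obtain ⟨q', e⟩ := H.nQ b c q
      have := (H.oc m).cm (l := qL q') (by simp)
      rw [← e, conj_mul, conj_mul] at this
      simpa using this
    have ct : o ∈ 𝐂₁ t := by
      have := cent1_mul_of (O_le _ _ m) (mem_cent1.2 ((H.oc m).cm (l := zc) (by simp)))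
      rwa [← b, ← cj_cent1, conj_mem_cj] at this
    obtain ⟨h, d⟩ := H.ac o ct
    have : h = 1 := (H.acQ d cq).resolve_right fun e => by
      have := H.uq (d.pow _) (pow_orderOf_eq_one o ▸ ac_one)
      obtain ⟨k, r⟩ := eo_iff.2 eo
      rw [e, r, pow_succ, pow_mul, pow_two, ← map_mul, Q_z.2.2.2.2.2.1, map_one, one_pow, one_mul] at this
      exact Q_z.2.2.2.2.2.2.1 (iL_inj (this.trans (map_one _).symm))
    refine (H.ker ct (this ▸ d)).resolve_right fun k => ?_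
    have := eo.inv.mul ((O_pi _ _).elt k) (by rw [inv_mul_cancel_left, mem_cent1.1 ct, mul_inv_cancel_right])
    rw [inv_mul_cancel_left] at this
    exact H.it.ne_one (H.it.piElt.eq_one this)
  simpa using mul_mem (inv_mem this) (nO (x := x⁻¹ * g) (mem_cent1.2 (mul_inv_eq_iff_eq_mul.1 (by
    rw [show x⁻¹ * g * t * (x⁻¹ * g)⁻¹ = x⁻¹ * (g * t * g⁻¹) * x by group, a, ← b]; group))))

theorem Hy.lf (H : Hy ι t) : ∃ (Γ : Type u) (_ : Group Γ) (_ : Finite Γ) (f : 𝐍 (Oo t) →* Γ) (ι' : LL →* Γ) (t' : Γ),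
    Lf ι t f ι' t' := by
  have nO : 𝐂₁ t ≤ 𝐍 (Oo t) := (O_normal _ _).norm
  let f := QuotientGroup.mk' ((Oo t).subgroupOf (𝐍 (Oo t)))
  have k : ∀ x, f x = 1 ↔ x.1 ∈ Oo t := fun x => QuotientGroup.eq_one_iff x
  let ι' := f.comp (ι.codRestrict _ fun l => nO (H.mem l))
  let t0 : 𝐍 (Oo t) := ⟨t, nO (self_mem_cent1 t)⟩
  have i : Function.Injective ι' := (injective_iff_map_eq_one _).2 fun l e => H.inj ((H.ns.eq_one ⟨l, rfl⟩
    (ac1_iff.1 (H.oc ((k _).1 e)))).trans (map_one ι).symm)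
  have o : Od f.ker := by
    rw [QuotientGroup.ker_mk', ← piGrp_map_iff (subtype_injective _), map_subgroupOf (le_norm_self _)]; exact O_pi _ _
  have up : ∀ g ∈ 𝐂₁ (f t0), ∃ x, f x = g ∧ x.1 ∈ 𝐂₁ t ∧ ∃ h, Ac ι x.1 h ∧ Ac ι' g h := fun g m => by
    obtain ⟨x, m0, rfl⟩ := (map_cent1_of_ker (QuotientGroup.mk'_surjective _) o
      (piElt_of_pow_eq_one p2 (Subtype.ext ((pow_two t).trans H.it.sq) : t0 ^ 2 = 1))).ge m
    have m' : x.1 ∈ 𝐂₁ t := mem_cent1.2 (congrArg Subtype.val (mem_cent1.1 (show x ∈ 𝐂₁ t0 from m0)))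
    obtain ⟨h, a⟩ := H.ac _ m'
    exact ⟨x, rfl, m', h, a, fun l => by
      simp only [ι', MonoidHom.comp_apply, ← map_inv, ← map_mul]; exact congrArg f (Subtype.ext (a l))⟩
  have z : ∀ g ∈ 𝐂₁ (f t0), Ac ι' g 1 → g = 1 ∨ g = f t0 := fun g m a => by
    obtain ⟨x, rfl, m, h, b, c⟩ := up g m
    obtain rfl : h = 1 := aut_inj (MulEquiv.ext fun l => i ((c l).symm.trans (a l)))
    refine (H.ker m b).imp (k x).2 fun q => ?_
    have : f (x * t0) = f (t0 * t0) := by rw [(k _).2 q, (k _).2 (by simp [t0, H.it.sq, one_mem])]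
    simpa using this
  refine ⟨_, inferInstance, inferInstance, f, ι', f t0, H, ⟨⟨i, ?_, .mk' (fun e => not_mem_of_odd (odd_O _) H.it ((k _).1 e))
    (by rw [← map_mul]; exact (k _).2 (by simp [t0, H.it.sq, one_mem])), fun l => ?_,
    fun g m => (up g m).elim fun _ q => q.2.2.imp fun _ => And.right, fun g m a _ => z g m a⟩, z⟩,
    QuotientGroup.mk'_surjective _, k, fun l => ⟨_, rfl⟩, ⟨_, rfl⟩⟩
  · rw [MonoidHom.range_eq_map]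
    exact ((ns_map_iff H.inj).1 (MonoidHom.range_eq_map ι ▸ H.ns)).map i
  · simp only [ι', MonoidHom.comp_apply, ← map_mul]; exact congrArg f (Subtype.ext (H.tc l))

namespace Lf
variable {f : 𝐍 (Oo t) →* Γ} (L : Lf ι t f ι' t')
include L

theorem od : Od f.ker := by
  rw [show f.ker = (Oo t).subgroupOf _ from Subgroup.ext L.ker, ← piGrp_map_iff (subtype_injective _),
    map_subgroupOf (le_norm_self _)]
  exact O_pi _ _

theorem cjι {k : g ∈ 𝐍 (Oo t)} {l l' : LL} (e : g * ι l * g⁻¹ = ι l') : f ⟨g, k⟩ * ι' l * (f ⟨g, k⟩)⁻¹ = ι' l' := by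
  obtain ⟨_, a⟩ := L.fι l; obtain ⟨_, b⟩ := L.fι l'
  rw [← a, ← b, ← map_inv, ← map_mul, ← map_mul]; exact congrArg f (Subtype.ext e)

theorem cjt {k : g ∈ 𝐍 (Oo t)} (e : g * t * g⁻¹ = t * ι l) : f ⟨g, k⟩ * t' * (f ⟨g, k⟩)⁻¹ = t' * ι' l := by
  obtain ⟨_, a⟩ := L.fι l; obtain ⟨_, b⟩ := L.ft
  rw [← a, ← b, ← map_inv, ← map_mul, ← map_mul, ← map_mul]; exact congrArg f (Subtype.ext e)

theorem dn (m : g ∈ 𝐂₁ t) (a : Ac ι g h) : ∃ k, f ⟨g, k⟩ ∈ 𝐂₁ t' ∧ Ac ι' (f ⟨g, k⟩) h :=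
  ⟨(O_normal _ _).norm m, mem_cent1.2 (mul_inv_eq_iff_eq_mul.1 (by
    simpa using L.cjt (l := 1) (by rw [mem_cent1.1 m]; simp))), fun l => L.cjι (a l)⟩

theorem ac (m : g ∈ 𝐂₁ t) (k : g ∈ 𝐍 (Oo t)) (a : Ac ι' (f ⟨g, k⟩) h) : Ac ι g h := by
  obtain ⟨h', b⟩ := L.hy.ac g m
  obtain ⟨_, -, c⟩ := L.dn m b
  exact L.hz.uq c a ▸ b

theorem up {g : Γ} (m : g ∈ 𝐂₁ t') (a : Ac ι' g h) : ∃ x : 𝐍 (Oo t), f x = g ∧ x.1 ∈ 𝐂₁ t ∧ Ac ι x.1 h := by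
  obtain ⟨k, rfl⟩ := L.ft
  obtain ⟨x, m0, rfl⟩ := (map_cent1_of_ker L.su L.od (piElt_of_pow_eq_one p2
    (Subtype.ext ((pow_two t).trans L.hy.it.sq) : (⟨t, k⟩ : 𝐍 (Oo t)) ^ 2 = 1))).ge m
  have m' : x.1 ∈ 𝐂₁ t := mem_cent1.2 (congrArg Subtype.val (mem_cent1.1 (show x ∈ 𝐂₁ ⟨t, k⟩ from m0)))
  exact ⟨x, rfl, m', L.ac m' x.2 a⟩

theorem gam : Gam ι t ↔ Gam ι' t' :=
  ⟨fun ⟨_, m, a⟩ => (L.dn m a).elim fun _ q => ⟨_, q⟩, fun ⟨_, m, a⟩ => (L.up m a).elim fun x q => ⟨x, q.2⟩⟩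

theorem ii (c : II ι t) : II ι' t' := by
  obtain ⟨x, a, b⟩ := c
  exact ⟨f ⟨x, L.hy.nO b⟩, fun q => mul_inv_eq_iff_eq_mul.1 (L.cjι (mul_inv_eq_iff_eq_mul.2 (a q))), L.cjt b⟩

theorem i1 (c : I1 ι t) : I1 ι' t' := by
  obtain ⟨x, a, b⟩ := c
  exact ⟨f ⟨x, L.hy.nO b⟩, fun q => L.cjι (a q), L.cjt b⟩

theorem lift {X : TD} [X.OK] {φ' : TG X →* Γ} (e : Em ι' t' φ') : ∃ φ : TG X →* G, Em ι t φ ∧ Up f φ φ' := by
  obtain ⟨τ, E⟩ := L.hy.em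
  let σ := τ.codRestrict (𝐍 (Oo t)) fun a => (O_normal _ _).norm (E.ac L.hy a).1
  have q : ∀ {a l}, τ (TG.e XT a) = ι l → φ' (TG.e X a) = ι' l → f (σ (TG.e XT a)) = φ' (TG.e X a) := fun a b => by
    obtain ⟨_, c⟩ := L.fι _
    rw [b, ← c]; exact congrArg f (Subtype.ext a)
  have k : ∀ a ∈ [1, 2, 4, 8, 16, 32, 64], f (σ (TG.e XT a)) = φ' (TG.e X a) := by
    obtain ⟨_, c⟩ := L.ft
    simp only [List.forall_mem_cons]
    exact ⟨q E.ez e.ez, q E.eb e.eb, q E.e2 e.e2, q E.ea e.ea, q E.ev e.ev, q E.er e.er,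
      by rw [e.et, ← c]; exact congrArg f (Subtype.ext E.et), by simp⟩
  obtain ⟨P, s, l⟩ := exists_syl_le (show σ.range ≤ φ'.range.comap f by
    rw [MonoidHom.range_eq_map, map_le_iff_le_comap]
    refine (TG.top (l := [1, 2, 4, 8, 16, 32, 64].map (TG.e XT)) (by decide +kernel) fun a m => ?_).ge
    obtain ⟨a, m', rfl⟩ := List.mem_map.1 m
    exact ⟨_, (k a m').symm⟩) (p2_range σ)
  have r : P.map f = φ'.range := by
    have := s.map f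
    rw [map_comap_eq_self_of_surjective L.su] at this
    exact this.eq_of_pi (p2_range φ')
  have i : Function.Injective (f.comp P.subtype) := (injective_iff_map_eq_one _).2 fun x m =>
    Subtype.ext (eq_one_of_mem_bot (s.pi.inf_eq_bot L.od) ⟨x.2, m⟩)
  choose ψ a b using fun p => r.ge ⟨p, rfl⟩
  have u : ∀ {x y}, x ∈ P → y ∈ P → f x = f y → x = y := fun m n e => congrArg Subtype.val (i (a₁ := ⟨_, m⟩) (a₂ := ⟨_, n⟩) e)
  let φ := (𝐍 (Oo t)).subtype.comp (MonoidHom.mk' ψ fun x y => u (a _) (mul_mem (a _) (a _)) (by simp only [map_mul, b]))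
  have v : ∀ c ∈ [1, 2, 4, 8, 16, 32, 64], φ (TG.e X c) = τ (TG.e XT c) := fun c m =>
    congrArg Subtype.val (u (a _) (l ⟨_, rfl⟩) ((b _).trans (k c m).symm))
  simp only [List.forall_mem_cons] at v
  exact ⟨φ, ⟨fun x y c => e.inj (by rw [← b, ← b]; exact congrArg f (Subtype.ext c)), v.1.trans E.ez, v.2.1.trans E.eb,
    v.2.2.1.trans E.e2, v.2.2.2.1.trans E.ea, v.2.2.2.2.1.trans E.ev, v.2.2.2.2.2.1.trans E.er,
    v.2.2.2.2.2.2.1.trans E.et⟩, fun p => ⟨_, b p⟩⟩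

theorem fuse {K : Type*} [Group K] [Finite K] (p : IsPGroup 2 K) {φ : K →* G} {φ' : K →* Γ} (i : Function.Injective φ')
    (u : Up f φ φ') (l : List (K × K)) {g' : Γ} (c : ∀ a ∈ l, g' * φ' a.1 * g'⁻¹ = φ' a.2) :
    ∃ g : 𝐍 (Oo t), f g = g' ∧ ∀ a ∈ l, g.1 * φ a.1 * g.1⁻¹ = φ a.2 := by
  choose m u using u
  let σ := φ.codRestrict (𝐍 (Oo t)) m
  have p2σ : ∀ A : Subgroup K, P2 (A.map σ) := fun A => (piGrp_of_isPGroup p2 (p.to_subgroup A)).map σ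
  obtain ⟨x, rfl⟩ := L.su g'
  have n : (⊤ : Subgroup K).map σ ≤ 𝐍 f.ker := fun g _ =>
    (normalizer_eq_top_iff.2 f.normal_ker).ge (mem_top g)
  obtain ⟨d, k, r⟩ := ((SDProd.mk' n (L.od.inf_eq_bot' (p2σ ⊤))).hall_right L.od (p2σ ⊤)).syl_cj_le
    (K := BG.cj x (((BG.cj (f x)⁻¹ φ'.range).comap φ').map σ)) (by
      rintro _ ⟨_, ⟨a, q, rfl⟩, rfl⟩
      obtain ⟨b, q⟩ := mem_cj_inv.1 q
      rw [sup_comm, ← comap_map_eq]
      exact ⟨σ b, mem_map_of_mem σ (mem_top b), by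
        change f ⟨φ b, _⟩ = f (x * ⟨φ a, _⟩ * x⁻¹)
        rw [map_mul, map_mul, map_inv, u, u, q]⟩) ((p2σ _).cj x)
  rw [sup_comm] at k
  obtain ⟨b, k0, o, k', rfl⟩ := (mem_sup_norm n).1 k
  rw [← cj_cj, cj_le_iff, cj_of_mem (inv_mem k0), cj_cj] at r
  have e : f (o * x) = f x := by rw [map_mul, show f o = 1 from k', one_mul]
  refine ⟨o * x, e, fun a q => ?_⟩
  obtain ⟨y, -, w⟩ := r (conj_mem_cj.2 (mem_map_of_mem σ (mem_cj_inv.2 ⟨_, (c a q).symm⟩)))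
  have := congrArg f w
  rw [map_mul, map_mul, map_inv, e] at this
  obtain rfl := i (((u y).symm.trans this).trans (((congrArg (f x * · * (f x)⁻¹) (u a.1))).trans (c a q)))
  exact (congrArg Subtype.val w).symm

theorem fus : Fus ι t ↔ Fus ι' t' := ⟨fun ⟨g, a⟩ => ⟨f ⟨g, L.hy.nO a⟩, L.cjt a⟩, fun ⟨g, a⟩ => by
  obtain ⟨τ', E'⟩ := L.hz.em
  obtain ⟨τ, E, u⟩ := L.lift E'
  obtain ⟨x, -, b⟩ := L.fuse TG.pgroup E'.inj u [(TG.e XT 64, TG.e XT 64 * TG.e XT 1)] (g' := g) (by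
    simpa only [List.forall_mem_singleton, map_mul, E'.et, E'.ez] using a)
  exact ⟨x, by simpa only [List.forall_mem_singleton, map_mul, E.et, E.ez] using b⟩⟩

theorem inY (s : Sm Y ι t) (x : 𝐍 (Oo t)) (m : f x ∈ normalClosure (ι'.range : Set Γ)) : x.1 ∈ Y := by
  have := s.nm
  have n : ((Y.subgroupOf (𝐍 (Oo t))).map f).Normal := Normal.map inferInstance f L.su
  obtain ⟨y, k, e⟩ := normalClosure_le_normal (N := (Y.subgroupOf (𝐍 (Oo t))).map f) (by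
    rintro _ ⟨l, rfl⟩
    obtain ⟨_, a⟩ := L.fι l
    exact ⟨_, s.le ⟨l, rfl⟩, a⟩) m
  have o := (L.ker (y⁻¹ * x)).1 (by rw [map_mul, map_inv, e, inv_mul_cancel])
  refine (mul_mem_cancel_left (inv_mem k : y.1⁻¹ ∈ Y)).1 (mem_of_sq_mem (eo_iff.2 ((O_pi _ _).elt o)) ?_)
  obtain ⟨a, p, b, q, r⟩ := mem_sup_of_normal_left.1 (s.tp.ge (mem_top (y.1⁻¹ * x.1)))
  rw [← r]
  rcases L.hy.it.mem_zpowers.1 q with rfl | rfl
  · simpa using mul_mem p p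
  · convert mul_mem p (this.conj_mem a p b) using 1
    rw [L.hy.it.inv_eq]; group

end Lf

end CF.Gu
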