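import Cfsg.Agent.Gu.B0

/-! The inner elements of the model, and its action on `LL`. -/

set_option autoImplicit false
set_option maxRecDepth 100000

namespace CF.Gu

open Subgroup CF.Perm.SS CF.Comp CF.Yo

/-- inner elements -/
def inn (a : HH) : Prop := a.mp 27 27 = true

noncomputable instance (a : HH) : Decidable (inn a) := inferInstanceAs (Decidable (a.mp 27 27 = true))

theorem idx_iL : iL.range.index = 2 := by
  have := iL.range.card_mul_index
  rw [← Nat.card_congr (MonoidHom.ofInjective iL_inj).toEquiv, card_LL, card_HH] at this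
  omega

instance nrm_iL : iL.range.Normal := normal_of_index_eq_two idx_iL

theorem inn_iff {a : HH} : inn a ↔ a ∈ iL.range := by
  let p : Fin P29.n := ⟨27, by decide⟩
  let I : Subgroup HH := (MulAction.stabilizer (Equiv.Perm (Fin P29.n)) p).comap PE.hom
  have k : ∀ a, inn a ↔ a ∈ I := fun a => PE.mp_iff (i := p) (j := p)
  have l : iL.range ≤ I := by
    rw [MonoidHom.range_eq_map, map_le_iff_le_comap]
    exact (topLL fun a m => (k _).1 ((by decide +kernel : ∀ a ∈ [p5, om, rr, va], inn (iL a)) a m)).ge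
  refine ⟨fun h => by_contra fun n => ?_, fun h => (k a).2 (l h)⟩
  have s : s0 ∉ I := fun m => (by decide +kernel : ¬ inn s0) ((k _).2 m)
  exact s ((mul_mem_cancel_left ((k a).1 h)).1 (l ((mul_mem_iff_of_index_two idx_iL).2 (iff_of_false n fun m => s (l m)))))

theorem inn_iL (l : LL) : inn (iL l) := inn_iff.2 ⟨l, rfl⟩
theorem inn_one : inn 1 := inn_iff.2 (one_mem _)
theorem inn_mul {a b : HH} : inn (a * b) ↔ (inn a ↔ inn b) := by
  simp only [inn_iff]; exact mul_mem_iff_of_index_two idx_iL
theorem inn_inv {a : HH} : inn a⁻¹ ↔ inn a := by simp only [inn_iff, inv_mem_iff]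
theorem inn_sq (a : HH) : inn (a * a) := inn_mul.2 Iff.rfl
theorem inn_cj {a b : HH} : inn (a * b * a⁻¹) ↔ inn b := by
  rw [inn_mul, inn_mul, inn_inv]; generalize inn a = p; generalize inn b = q; tauto
theorem s0_out : ¬ inn s0 := by decide +kernel

theorem incl_v {P : PC} [P.OK] {S S' : List (List ℕ)} (h : grp P.n S ≤ grp P.n S') (a : PE P S) :
    (PE.incl h a).v = a.v ∧ (PE.incl h a).w = a.w := ⟨rfl, rfl⟩

/-- the element of `LL` with a given inner image -/
noncomputable def dn (a : HH) (h : inn a) : LL := ⟨a.v, a.w, by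
  obtain ⟨l, rfl⟩ := inn_iff.1 h
  rw [iL, (incl_v hiL l).1, (incl_v hiL l).2]
  exact l.ok⟩

theorem iL_dn (a : HH) (h : inn a) : iL (dn a h) = a := PE.ext (incl_v hiL _).1

/-- conjugation of `LL` by an element of the model -/
noncomputable def cjL (h : HH) (l : LL) : LL := dn (h * iL l * h⁻¹) (inn_cj.2 (inn_iL l))

theorem iL_cjL (h : HH) (l : LL) : iL (cjL h l) = h * iL l * h⁻¹ := iL_dn _ _

/-- the action of the model on `LL` -/
noncomputable def aut : HH →* MulAut LL where
  toFun h :=
    { toFun := cjL h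
      invFun := cjL h⁻¹
      left_inv := fun l => iL_inj (by simp only [iL_cjL]; group)
      right_inv := fun l => iL_inj (by simp only [iL_cjL]; group)
      map_mul' := fun a b => iL_inj (by simp only [iL_cjL, map_mul]; group) }
  map_one' := MulEquiv.ext fun l => iL_inj ((iL_cjL _ _).trans (by simp))
  map_mul' a b := MulEquiv.ext fun l => iL_inj ((iL_cjL _ _).trans (by
    change _ = iL (cjL a (cjL b l))
    simp only [iL_cjL]; group))

theorem iL_aut (h : HH) (l : LL) : iL (aut h l) = h * iL l * h⁻¹ := iL_cjL h l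

theorem aut_iL (a l : LL) : aut (iL a) l = a * l * a⁻¹ := iL_inj (by simp only [iL_aut, map_mul, map_inv])

theorem aut_eq {h : HH} {l l' : LL} : aut h l = l' ↔ h * iL l = iL l' * h := by
  rw [← iL_inj.eq_iff, iL_aut, mul_inv_eq_iff_eq_mul]

theorem cen_gen : ∀ h : HH, h * iL rr = iL rr * h → h * iL va = iL va * h → h * iL p5 = iL p5 * h → h = 1 := by
  decide +kernel

theorem aut_inj : Function.Injective aut := (injective_iff_map_eq_one _).2 fun h e =>
  have k : ∀ l, h * iL l = iL l * h := fun l => aut_eq.1 (by rw [e]; rfl)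
  cen_gen h (k _) (k _) (k _)

/-- every element of the model is inner or inner times `s0` -/
theorem hh_cases (h : HH) : (∃ l, h = iL l) ∨ ∃ l, h = iL l * s0 := by
  by_cases i : inn h
  · exact .inl ⟨_, (iL_dn h i).symm⟩
  · exact .inr ⟨dn (h * s0⁻¹) (inn_mul.2 (iff_of_false i fun k => s0_out (inn_inv.1 k))), by rw [iL_dn]; group⟩

end CF.Gu
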