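import Cfsg.Agent.Gu.D1

/-! Standard subgroups isomorphic to `U₄(2)`: the dihedral group that centralises `Q` (see `Gu/D1`). -/
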