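import Cfsg.Agent.Gu.A2

/-! Standard subgroups isomorphic to `U₄(2)`: the dihedral group that centralises `Q`. -/

set_option autoImplicit false
set_option linter.unusedSectionVars false
set_option maxRecDepth 100000

namespace CF.Gu
open Subgroup Cfsg CF.BG CF.Sig CF.GW CF.Ab2

variable {G : Type*} [Group G] [Finite G] {ι : LL →* G} {t g x y : G} {h : HH} {l : LL}

/-- the elements of `E` -/
noncomputable def lE : List LL := [1, zc, bt, b2, rr, zc * bt, zc * b2, zc * rr, bt * b2, bt * rr, b2 * rr, zc * bt * b2,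
  zc * bt * rr, zc * b2 * rr, bt * b2 * rr, zc * bt * b2 * rr]

/-- the elements of `A₄` on the indices `0, 1, 2, 3` -/
noncomputable def lA : List LL := [1, va, vb, va * vb, th, th * va, th * vb, th * va * vb, th * th, th * th * va, th * th * vb,
  th * th * va * vb]

/-- the diagonal involutions -/
noncomputable def zk (k : ℕ) : LL := p5 ^ (k + 1) * zc * (p5 ^ (k + 1))⁻¹

theorem cenQ4 : ∀ h : HH, h * iL bt = iL bt * h → h * iL b2 = iL b2 * h → h * iL va = iL va * h → h * iL vb = iL vb * h →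
    h = iL 1 ∨ h = iL zc := by decide +kernel

theorem cenE : ∀ h : HH, h * iL rr = iL rr * h → h * iL bt = iL bt * h → h * iL b2 = iL b2 * h → ∃ e ∈ lE, h = iL e := by
  decide +kernel

theorem zk_eq : zk 0 = z0 ∧ zk 1 = z1 ∧ zk 2 = z2 ∧ zk 3 = z3 ∧ zk 4 = zc := by decide +kernel

theorem lE_of {K : Subgroup LL} (a : zc ∈ K) (b : bt ∈ K) (c : b2 ∈ K) (d : rr ∈ K) : ∀ e ∈ lE, e ∈ K := by
  simp only [lE, List.forall_mem_cons, List.not_mem_nil, false_imp_iff, implies_true, and_true]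
  refine ⟨one_mem _, a, b, c, d, ?_, ?_, ?_, ?_, ?_, ?_, ?_, ?_, ?_, ?_, ?_⟩ <;> repeat' first | assumption | apply mul_mem

theorem lA_of {K : Subgroup LL} (a : va ∈ K) (b : vb ∈ K) (c : th ∈ K) : ∀ e ∈ lA, e ∈ K := by
  simp only [lA, List.forall_mem_cons, List.not_mem_nil, false_imp_iff, implies_true, and_true]
  refine ⟨one_mem _, a, b, ?_, c, ?_, ?_, ?_, ?_, ?_, ?_, ?_⟩ <;> repeat' first | assumption | apply mul_mem

theorem lE_EE : ∀ e ∈ lE, e ∈ EE := by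
  have k : ∀ a ∈ ({z0, z1, z2, z3} : Set LL), a ∈ EE := fun _ m => subset_closure m
  have a := k z0 (by simp)
  have b := k z1 (by simp)
  have c := k z2 (by simp)
  have d := k z3 (by simp)
  obtain ⟨p, q, r, s⟩ := (by decide +kernel : zc = z0 * z1 * z2 * z3 ∧ bt = z0 * z1 ∧ b2 = z0 * z2 ∧ rr = z1 * z2 * z3)
  refine lE_of ?_ ?_ ?_ ?_
  exacts [p ▸ mul_mem (mul_mem (mul_mem a b) c) d, q ▸ mul_mem a b, r ▸ mul_mem a c, s ▸ mul_mem (mul_mem b c) d]

theorem EE_lE {e : LL} (m : e ∈ EE) : e ∈ lE := by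
  induction m using closure_induction with
  | mem a m =>
    have := (by decide +kernel : z0 ∈ lE ∧ z1 ∈ lE ∧ z2 ∈ lE ∧ z3 ∈ lE)
    rcases m with rfl | rfl | rfl | rfl
    exacts [this.1, this.2.1, this.2.2.1, this.2.2.2]
  | one => exact List.mem_cons_self
  | mul a b _ _ p q => exact (by decide +kernel : ∀ a ∈ lE, ∀ b ∈ lE, a * b ∈ lE) a p b q
  | inv a _ p => exact (by decide +kernel : ∀ a ∈ lE, a⁻¹ ∈ lE) a p

/-- the elements of the model that centralise `x` -/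
noncomputable def Cx (ι : LL →* G) (x : G) : Subgroup LL := (𝐂₁ x).comap ι

theorem mem_Cx : l ∈ Cx ι x ↔ ι l * x = x * ι l := mem_cent1

theorem xk_mul (x y : G) (k : ℕ) : xk ι (x * y) k = xk ι x k * xk ι y k := by simp only [xk]; group
theorem xk_ι (l : LL) (k : ℕ) : xk ι (ι l) k = ι (p5 ^ (k + 1) * l * (p5 ^ (k + 1))⁻¹) := by simp only [xk, map_mul, map_inv]
theorem xk_inv (x : G) (k : ℕ) : xk ι x⁻¹ k = (xk ι x k)⁻¹ := by simp only [xk]; group
theorem xk_one (k : ℕ) : xk ι 1 k = 1 := by simp [xk]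
theorem xk_succ (x : G) (k : ℕ) : xk ι x (k + 1) = ι p5 * xk ι x k * (ι p5)⁻¹ := by
  simp only [xk, pow_succ' p5 (k + 1), map_mul]; group
theorem xk_four (x : G) : xk ι x 4 = x := by simp [xk, relL.2.2.2.2.2.2.1]
theorem xk_add (x : G) (k : ℕ) : xk ι x (k + 5) = xk ι x k := by
  simp only [xk, add_right_comm k 5 1, pow_add p5 (k + 1), relL.2.2.2.2.2.2.1, mul_one]
theorem xk_mod (x : G) (k : ℕ) : xk ι x k = xk ι x (k % 5) := by
  induction k using Nat.strong_induction_on with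
  | _ k ih =>
    rcases lt_or_ge k 5 with c | c
    · rw [Nat.mod_eq_of_lt c]
    · obtain ⟨j, rfl⟩ := Nat.exists_eq_add_of_le' c
      rw [xk_add, Nat.add_mod_right, ← ih j (by omega)]
theorem xk_xk (x : G) (j k : ℕ) : xk ι (xk ι x j) k = xk ι x (j + k + 1) := by
  simp only [xk, show j + k + 1 + 1 = k + 1 + (j + 1) by omega, pow_add p5 (k + 1), map_mul]; group

/-- conjugation permutes the conjugates of `x` -/
theorem xk_cj {j k : ℕ} {s : LL} (c : s ∈ Cx ι x) (e : l * p5 ^ (j + 1) = p5 ^ (k + 1) * s) :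
    ι l * xk ι x j * (ι l)⁻¹ = xk ι x k := by
  have : ι l * ι (p5 ^ (j + 1)) = ι (p5 ^ (k + 1)) * ι s := by rw [← map_mul, e, map_mul]
  calc _ = ι l * ι (p5 ^ (j + 1)) * x * (ι l * ι (p5 ^ (j + 1)))⁻¹ := by simp only [xk]; group
    _ = ι (p5 ^ (k + 1)) * (ι s * x * (ι s)⁻¹) * (ι (p5 ^ (k + 1)))⁻¹ := by rw [this]; group
    _ = _ := by rw [mem_Cx.1 c, mul_inv_cancel_right, xk]

/-- the conjugates of `x` centralise `E` -/
theorem xk_E (c : ∀ e ∈ lE, e ∈ Cx ι x) (k : ℕ) : ∀ e ∈ lE, e ∈ Cx ι (xk ι x k) := fun e m => by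
  obtain ⟨s, n, q⟩ := (by decide +kernel : ∀ e ∈ lE, ∀ k < 5, ∃ s ∈ lE, e * p5 ^ (k + 1) = p5 ^ (k + 1) * s) e m (k % 5)
    (Nat.mod_lt _ (by decide))
  rw [xk_mod]
  exact mem_Cx.2 (mul_inv_eq_iff_eq_mul.1 (xk_cj (c s n) q))

/-- the group `A₅` is doubly transitive -/
theorem xk_cm (c : ∀ s ∈ lA, s ∈ Cx ι x) (e : xk ι x 0 * x = x * xk ι x 0) (j k : ℕ) :
    xk ι x j * xk ι x k = xk ι x k * xk ι x j := by
  have a : ∀ j, xk ι x j * x = x * xk ι x j := fun j => by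
    rw [xk_mod]
    rcases (by decide +kernel : ∀ j < 5, j = 4 ∨ ∃ l ∈ lA, ∃ s ∈ lA, l * p5 ^ (0 + 1) = p5 ^ (j + 1) * s) (j % 5)
      (Nat.mod_lt _ (by decide)) with q | ⟨l, m, s, n, q⟩
    · rw [q, xk_four]
    · have p := mul_inv_eq_iff_eq_mul.2 (mem_Cx.1 (c l m))
      rw [← xk_cj (c s n) q]
      calc _ = ι l * xk ι x 0 * (ι l)⁻¹ * (ι l * x * (ι l)⁻¹) := by rw [p]
        _ = ι l * x * (ι l)⁻¹ * (ι l * xk ι x 0 * (ι l)⁻¹) := by rw [conj_mul, conj_mul, e]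
        _ = _ := by rw [p]
  have := congrArg (xk ι · k) (a (j + 4 * k + 4))
  simp only [xk_mul, xk_xk] at this
  rwa [xk_mod x (_ + 1), show (j + 4 * k + 4 + k + 1) % 5 = j % 5 by omega, ← xk_mod] at this

theorem Hy.xt (H : Hy ι t) (k : ℕ) : xk ι t k = t := mul_inv_eq_iff_eq_mul.2 (H.tc _)
theorem Hy.zn (H : Hy ι t) : ι zc ≠ 1 := fun e => (by decide +kernel : zc ≠ 1) (H.inj (e.trans (map_one ι).symm))
theorem zz_ι : ι zc * ι zc = 1 := by rw [← map_mul, (by decide +kernel : zc * zc = 1), map_one]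

theorem Hy.xkt (H : Hy ι t) (e : x * t * x⁻¹ = t * ι zc) (k : ℕ) : xk ι x k * t * (xk ι x k)⁻¹ = t * ι (zk k) := by
  have := congrArg (xk ι · k) e
  simpa only [xk_mul, xk_inv, H.xt, xk_ι, zk] using this

theorem Hy.nc (H : Hy ι t) (e : x * t * x⁻¹ = t * ι zc) : x * t ≠ t * x := fun q =>
  H.zn (left_eq_mul.1 ((mul_inv_eq_iff_eq_mul.2 q).symm.trans e))

/-- the product of two elements that map `t` into `t E` -/
theorem tmul {a b : LL} {u : G} (c : g * ι b = ι b * g) (p : g * t * g⁻¹ = t * ι a) (q : u * t * u⁻¹ = t * ι b) :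
    g * u * t * (g * u)⁻¹ = t * ι (a * b) := by
  calc _ = g * (u * t * u⁻¹) * g⁻¹ := by group
    _ = g * t * g⁻¹ * (g * ι b * g⁻¹) := by rw [q, conj_mul]
    _ = _ := by rw [p, c, mul_inv_cancel_right, map_mul, mul_assoc]

theorem tmul' {u : G} (c : g * ι zc = ι zc * g) (p : g * t * g⁻¹ = t * ι zc) (q : u * t * u⁻¹ = t * ι zc) :
    g * u * t = t * (g * u) := mul_inv_eq_iff_eq_mul.1 (by rw [tmul c p q, map_mul, zz_ι, mul_one])

namespace Hz
variable (H : Hz ι t)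
include H

theorem or (m : g ∈ 𝐂₁ t) (a : Ac ι g (iL l)) : g = ι l ∨ g = ι l * t :=
  have ⟨p, q, _⟩ := H.part m a
  (H.z1 _ p q).imp (fun s => (inv_mul_eq_one.1 s).symm) inv_mul_eq_iff_eq_mul.1

/-- the centraliser of `Q` in `C(t)` -/
theorem cQ (m : g ∈ 𝐂₁ t) (c : ∀ l ∈ [bt, b2, va, vb], g * ι l = ι l * g) : g = 1 ∨ g = t ∨ g = ι zc ∨ g = t * ι zc := by
  obtain ⟨h, a⟩ := H.ac g m
  have k : ∀ l ∈ [bt, b2, va, vb], h * iL l = iL l * h := fun l n => H.cm a (c l n)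
  rcases cenQ4 h (k _ (by simp)) (k _ (by simp)) (k _ (by simp)) (k _ (by simp)) with rfl | rfl <;> rcases H.or m a with q | q
  exacts [.inl (by rw [q, map_one]), .inr (.inl (by rw [q, map_one, one_mul])), .inr (.inr (.inl q)),
    .inr (.inr (.inr (q.trans (H.tc _))))]

/-- the centraliser of `A` is `A` -/
theorem cE (m : g ∈ 𝐂₁ t) (c : ∀ e ∈ lE, e ∈ Cx ι g) : ∃ e ∈ lE, g = ι e ∨ g = ι e * t := by
  obtain ⟨h, a⟩ := H.ac g m
  have k : ∀ l ∈ lE, h * iL l = iL l * h := fun l n => H.cm a (mem_Cx.1 (c l n)).symm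
  obtain ⟨e, n, rfl⟩ := cenE h (k _ (by simp [lE])) (k _ (by simp [lE])) (k _ (by simp [lE]))
  exact ⟨e, n, H.or m a⟩

theorem cA (m : g ∈ 𝐂 (AA ι t)) : g ∈ AA ι t := by
  obtain ⟨e, n, q⟩ := H.cE (mem_cent1.2 (mem_cent.1 m t (mem_sup_right (mem_zpowers t))).symm) fun e n =>
    mem_Cx.2 (mem_cent.1 m _ (mem_sup_left (mem_map_of_mem ι (lE_EE e n))))
  have := mem_sup_left (T := zpowers t) (mem_map_of_mem ι (lE_EE e n))
  rcases q with rfl | rfl
  exacts [this, mul_mem this (mem_sup_right (mem_zpowers _))]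

/-- an element of `A` that commutes with `x` lies in `E` -/
theorem cE' (e : x * t * x⁻¹ = t * ι zc) (d : ∀ e ∈ lE, e ∈ Cx ι x) (m : g ∈ 𝐂₁ t) (c : ∀ e ∈ lE, e ∈ Cx ι g)
    (k : x * g = g * x) : ∃ e ∈ lE, g = ι e := by
  obtain ⟨a, n, rfl | rfl⟩ := H.cE m c
  · exact ⟨a, n, rfl⟩
  · rw [← mul_assoc, ← mem_Cx.1 (d a n), mul_assoc, mul_assoc] at k
    exact (H.nc e (mul_left_cancel k)).elim

/-- the product of five commuting conjugates -/
theorem prod (e : x * t * x⁻¹ = t * ι zc) (d : ∀ e ∈ lE, e ∈ Cx ι x)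
    (c : ∀ j k, xk ι x j * xk ι x k = xk ι x k * xk ι x j) : xk ι x 0 * xk ι x 1 * xk ι x 2 * xk ι x 3 * x = 1 := by
  have c' : ∀ j k, Commute (xk ι x j) (xk ι x k) := c
  have s : ∀ {g : G} {a : LL} (k : ℕ), a ∈ lE → g * t * g⁻¹ = t * ι a → xk ι x k * g * t * (xk ι x k * g)⁻¹ = t * ι (zk k * a) :=
    fun {g a} k n q => tmul (mem_Cx.1 (xk_E d k a n)).symm (H.xkt e k) q
  obtain ⟨n1, n2, n3, n4, n5⟩ := (by decide +kernel : zc ∈ lE ∧ zk 3 * zc ∈ lE ∧ zk 2 * (zk 3 * zc) ∈ lE ∧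
    zk 1 * (zk 2 * (zk 3 * zc)) ∈ lE ∧ zk 0 * (zk 1 * (zk 2 * (zk 3 * zc))) = 1)
  have m := s 0 n4 (s 1 n3 (s 2 n2 (s 3 n1 e)))
  rw [n5, map_one, mul_one, mul_inv_eq_iff_eq_mul, ← mul_assoc, ← mul_assoc, ← mul_assoc] at m
  have k : ∀ j, Commute (xk ι x j) x := fun j => by simpa only [xk_four] using c' j 4
  have b : ∀ a ∈ lE, ∀ j, Commute (ι a) (xk ι x j) := fun a n j => mem_Cx.1 (xk_E d j a n)
  obtain ⟨a, n, q⟩ := H.cE' e d (mem_cent1.2 m) (fun a n => mem_Cx.2 (((((b a n 0).mul_right (b a n 1)).mul_right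
    (b a n 2)).mul_right (b a n 3)).mul_right (mem_Cx.1 (d a n))).eq)
    (((((k 0).mul_left (k 1)).mul_left (k 2)).mul_left (k 3)).mul_left (.refl x)).symm.eq
  have p : ι p5 * ι a * (ι p5)⁻¹ = ι a := by
    have u : ι p5 * x * (ι p5)⁻¹ = xk ι x 0 := by simp [xk]
    rw [← q, ← conj_mul, ← conj_mul, ← conj_mul, ← conj_mul, u]
    simp only [← xk_succ, Nat.reduceAdd, xk_four]
    rw [← ((((c' 0 1).mul_right (c' 0 2)).mul_right (c' 0 3)).mul_right (k 0)).eq]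
    simp only [mul_assoc]
  rw [← map_mul, ← map_inv, ← map_mul] at p
  rw [q, (by decide +kernel : ∀ a ∈ lE, p5 * a * p5⁻¹ = a → a = 1) a n (H.inj p), map_one]

theorem cQ' (m : g * t = t * g) (c : ∀ q, g * ι (qL q) = ι (qL q) * g) : g = 1 ∨ g = t ∨ g = ι zc ∨ g = t * ι zc :=
  H.cQ (mem_cent1.2 m) fun l n => by
    obtain ⟨q, rfl⟩ := (by decide +kernel : ∀ l ∈ [bt, b2, va, vb], ∃ q, qL q = l) l n
    exact c q

/-- an involution of `C(Q)` that maps `t` to `t z` -/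
theorem exy (a : II ι t) : ∃ y, y * y = 1 ∧ y * t * y⁻¹ = t * ι zc ∧ ∀ q, y * ι (qL q) = ι (qL q) * y := by
  obtain ⟨x, c, e⟩ := a
  have z : Commute x (ι zc) := (by decide +kernel : qL (TG.e XQ 1) = zc) ▸ c (TG.e XQ 1)
  have m := tmul' z.eq e e
  have k : Commute x (x * x) := (Commute.refl x).mul_right (.refl x)
  rcases H.cQ' m fun q => ((show Commute x _ from c q).mul_left (c q)).eq with q | q | q | q
  · exact ⟨x, q, e, c⟩
  · exact (H.nc e (q ▸ k).eq).elim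
  · refine ⟨t * x, ?_, ?_, fun q => ((show Commute t _ from (H.tc _).symm).mul_left (c q)).eq⟩
    · calc _ = t * (x * t * x⁻¹) * (x * x) := by group
        _ = 1 := by rw [e, q, ← mul_assoc, H.it.sq, one_mul, zz_ι]
    · calc _ = t * (x * t * x⁻¹) * t⁻¹ := by group
        _ = _ := by rw [e, ← H.tc zc, ← mul_assoc, mul_inv_cancel_right, H.tc]
  · rw [q] at k
    exact (H.nc e (by simpa [mul_assoc, zz_ι] using (k.mul_right z).eq)).elim

/-- the normaliser of `Q` in `L` maps `y` to `y` or `y z` -/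
theorem nrm (yy : y * y = 1) (e : y * t * y⁻¹ = t * ι zc) (c : ∀ q, y * ι (qL q) = ι (qL q) * y)
    (n : ∀ q, ∃ q', qL q * l = l * qL q') (k : l * zc = zc * l) : ι l * y * (ι l)⁻¹ = y ∨ ι l * y * (ι l)⁻¹ = y * ι zc := by
  have z : Commute y (ι zc) := (by decide +kernel : qL (TG.e XQ 1) = zc) ▸ c (TG.e XQ 1)
  have k' : ι l * ι zc * (ι l)⁻¹ = ι zc := by rw [← map_mul, k, map_mul, mul_inv_cancel_right]
  have y1 : y⁻¹ = y := inv_eq_of_mul_eq_one_right yy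
  obtain ⟨y', e'⟩ : ∃ y', ι l * y * (ι l)⁻¹ = y' := ⟨_, rfl⟩
  have yy' : y' * y' = 1 := by rw [← e', conj_mul, yy]; group
  have t' : y' * t * y'⁻¹ = t * ι zc := by
    have := congrArg (ι l * · * (ι l)⁻¹) e
    simp only [← conj_mul, ← conj_inv, e', k', mul_inv_eq_iff_eq_mul.2 (H.tc l)] at this
    exact this
  have c' : ∀ q, Commute y' (ι (qL q)) := fun q => by
    obtain ⟨q', p⟩ := n q
    have : ι (qL q) = ι l * ι (qL q') * (ι l)⁻¹ := by rw [← map_mul, ← p, map_mul, mul_inv_cancel_right]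
    rw [this, ← e']
    exact (show Commute y _ from c q').conj _
  have m := tmul' z.eq e t'
  have w : ∀ {w}, y * y' = w → y' = y * w := fun q => by rw [← q, ← mul_assoc, yy, one_mul]
  have v : y * t * (y * t) = ι zc := by
    calc _ = y * t * y⁻¹ * t := by rw [y1, mul_assoc, mul_assoc, mul_assoc]
      _ = _ := by rw [e, ← H.tc, mul_assoc, H.it.sq, mul_one]
  rw [e']
  rcases H.cQ' m fun q => ((show Commute y _ from c q).mul_left (c' q)).eq with q | q | q | q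
  · exact .inl (by rw [w q, mul_one])
  · exact (H.zn (by rw [← v, ← w q, yy'])).elim
  · exact .inr (w q)
  · refine (H.zn ?_).elim
    rwa [w q, ← mul_assoc y t, ((z.mul_left (H.tc zc).symm).symm.mul_mul_mul_comm _ _), v, zz_ι, mul_one] at yy'

theorem nrm3 (yy : y * y = 1) (e : y * t * y⁻¹ = t * ι zc) (c : ∀ q, y * ι (qL q) = ι (qL q) * y)
    (n : ∀ q, ∃ q', qL q * l = l * qL q') (k : l * zc = zc * l) (o : l * l * l = 1) : y * ι l = ι l * y := by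
  rcases H.nrm yy e c n k with q | q
  · exact (mul_inv_eq_iff_eq_mul.1 q).symm
  · have k' : ι l * ι zc * (ι l)⁻¹ = ι zc := by rw [← map_mul, k, map_mul, mul_inv_cancel_right]
    have : ι l * (ι l * (ι l * y * (ι l)⁻¹) * (ι l)⁻¹) * (ι l)⁻¹ = y * ι zc := by
      rw [q, ← conj_mul (a := y) (b := ι l), q, k', mul_assoc y, zz_ι, mul_one, q]
    refine (H.zn (left_eq_mul.1 (Eq.trans ?_ this))).elim
    calc y = ι (l * l * l) * y * (ι (l * l * l))⁻¹ := by rw [o]; simp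
      _ = _ := by simp only [map_mul]; group

theorem exd (a : II ι t) : ∃ y, Du ι t y ∨ Dw ι t y := by
  obtain ⟨y, yy, e, c⟩ := H.exy a
  have d : D2 ι t y := ⟨H, yy, e, fun l m => by
    rcases (by decide +kernel : ∀ l ∈ [zc, bt, b2, va, vb, th, om], (∃ q, qL q = l) ∨
      (∀ q, ∃ q', qL q * l = l * qL q') ∧ l * zc = zc * l ∧ l * l * l = 1) l m with ⟨q, rfl⟩ | ⟨n, k, o⟩
    exacts [c q, H.nrm3 yy e c n k o]⟩
  exact ⟨y, (H.nrm yy e c (l := rr) (by decide +kernel) (by decide +kernel)).symm.imp (fun q => ⟨d, q⟩)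
    fun q => ⟨d, (mul_inv_eq_iff_eq_mul.1 q).symm⟩⟩

end Hz

theorem D2.cx (d : D2 ι t y) : ∀ l ∈ [zc, bt, b2, va, vb, th, om], l ∈ Cx ι y := fun l m => mem_Cx.2 (d.yq l m).symm
theorem D2.cA4 (d : D2 ι t y) : ∀ s ∈ lA, s ∈ Cx ι y := lA_of (d.cx _ (by simp)) (d.cx _ (by simp)) (d.cx _ (by simp))
theorem Hy.cxt (H : Hy ι t) (m : l ∈ Cx ι y) : l ∈ Cx ι (t * y) :=
  mem_Cx.2 ((show Commute _ t from H.tc l).mul_right (mem_Cx.1 m)).eq
theorem D2.ti (d : D2 ι t y) : t * y * t * (t * y)⁻¹ = t * ι zc := by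
  calc _ = t * (y * t * y⁻¹) * t⁻¹ := by group
    _ = _ := by rw [d.yt, ← d.tc zc, ← mul_assoc, mul_inv_cancel_right, d.tc]

namespace Dw
variable (d : Dw ι t y)
include d

theorem cE : ∀ e ∈ lE, e ∈ Cx ι y := lE_of (d.cx _ (by simp)) (d.cx _ (by simp)) (d.cx _ (by simp)) (mem_Cx.2 d.rw.symm)

/-- the commutator of `y₀` and `y₄` -/
theorem com : xk ι y 0 * y = y * xk ι y 0 ∨ xk ι y 0 * y = ι rr * (y * xk ι y 0) := by
  have y1 : y⁻¹ = y := inv_eq_of_mul_eq_one_right d.yy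
  have e0 := xk_E d.cE 0
  have t0 := d.xkt d.yt 0
  have s0 : ι (p5 * th * p5⁻¹) * xk ι y 0 * (ι (p5 * th * p5⁻¹))⁻¹ = xk ι y 0 :=
    xk_cj (d.cx th (by simp)) (by decide +kernel)
  have u0 : ι (p5 * (th * th * va * vb)) * xk ι y 0 * (ι (p5 * (th * th * va * vb)))⁻¹ = y :=
    (xk_cj (k := 4) (inv_mem (d.cA4 (th * th * va * vb) (by simp [lA]))) (by decide +kernel)).trans (xk_four y)
  have u4 : ι (p5 * (th * th * va * vb)) * y * (ι (p5 * (th * th * va * vb)))⁻¹ = xk ι y 0 := by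
    simpa only [xk_four] using xk_cj (l := p5 * (th * th * va * vb)) (j := 4) (k := 0)
      (d.cA4 (th * th * va * vb) (by simp [lA])) (by decide +kernel)
  have s4 : ι (p5 * th * p5⁻¹) * y * (ι (p5 * th * p5⁻¹))⁻¹ = y := mul_inv_eq_iff_eq_mul.2 (mem_Cx.1
    ((by decide +kernel : th * th * va = p5 * th * p5⁻¹) ▸ d.cA4 (th * th * va) (by simp [lA])))
  have x1 : xk ι y 0 * xk ι y 0 = 1 := by rw [← xk_mul, d.yy, xk_one]
  generalize xk ι y 0 = x at *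
  have x2 : x⁻¹ = x := inv_eq_of_mul_eq_one_right x1
  have f : ∀ {g : G} {a b : LL}, (∀ e ∈ lE, e ∈ Cx ι g) → g * t * g⁻¹ = t * ι a → b ∈ lE → ∀ {u : G}, u * t * u⁻¹ = t * ι b →
      g * u * t * (g * u)⁻¹ = t * ι (a * b) := fun {g a b} c p n u q => tmul (mem_Cx.1 (c b n)).symm p q
  obtain ⟨n1, n2, n3, n4⟩ := (by decide +kernel : zc ∈ lE ∧ zk 0 * zc ∈ lE ∧ zc * (zk 0 * zc) ∈ lE ∧ zk 0 * (zc * (zk 0 * zc)) = 1)
  have m := f e0 t0 n3 (f d.cE d.yt n2 (f e0 t0 n1 d.yt))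
  rw [n4, map_one, mul_one, mul_inv_eq_iff_eq_mul] at m
  have b : ∀ a ∈ lE, a ∈ Cx ι (x * (y * (x * y))) := fun a n =>
    have p : Commute (ι a) x := mem_Cx.1 (e0 a n)
    have q : Commute (ι a) y := mem_Cx.1 (d.cE a n)
    mem_Cx.2 (p.mul_right (q.mul_right (p.mul_right q))).eq
  have i : (x * (y * (x * y)))⁻¹ = y * (x * (y * x)) := by simp only [mul_inv_rev, x2, y1, mul_assoc]
  have sq : (x * (y * (x * y)))⁻¹ = x * (y * (x * y)) := inv_eq_of_mul_eq_one_right (by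
    obtain ⟨a, n, q | q⟩ := d.toHz.cE (mem_cent1.2 m) b <;> rw [q]
    · rw [← map_mul, (by decide +kernel : ∀ a ∈ lE, a * a = 1) a n, map_one]
    · rw [(show Commute t _ from (d.tc a).symm).mul_mul_mul_comm, ← map_mul, (by decide +kernel : ∀ a ∈ lE, a * a = 1) a n,
        map_one, d.it.sq, one_mul])
  obtain ⟨a, n, q⟩ := d.toHz.cE' d.yt d.cE (mem_cent1.2 m) b (by
    conv_lhs => rw [← sq, i]
    simp only [mul_assoc, d.yy, ← mul_assoc y y, one_mul, mul_one])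
  have p : ∀ l, ι l * (x * (y * (x * y))) * (ι l)⁻¹ = x * (y * (x * y)) → l * a * l⁻¹ = a := fun l p => d.inj (by
    rwa [map_mul, map_mul, map_inv, ← q])
  have r : x * y = ι a * (y * x) := by
    rw [← q]; simp only [mul_assoc, ← mul_assoc y y, ← mul_assoc x x, d.yy, x1, one_mul, mul_one]
  rcases (by decide +kernel : ∀ a ∈ lE, p5 * th * p5⁻¹ * a * (p5 * th * p5⁻¹)⁻¹ = a →
    p5 * (th * th * va * vb) * a * (p5 * (th * th * va * vb))⁻¹ = a → a = 1 ∨ a = rr) a n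
    (p _ (by simp only [← conj_mul, s0, s4])) (p _ (by rw [← conj_mul, ← conj_mul, ← conj_mul, u0, u4, ← i, sq])) with rfl | rfl
  exacts [.inl (by simpa using r), .inr r]

theorem cases : W8 ι t y ∨ W4 ι t y := by
  rcases d.com with c | c
  · exact .inl ⟨d, xk_cm d.cA4 c, d.toHz.prod d.yt d.cE (xk_cm d.cA4 c)⟩
  · have k : xk ι (t * y) 0 * (t * y) = t * y * xk ι (t * y) 0 := by
      rw [xk_mul, d.xt]
      calc _ = t * (xk ι y 0 * t * (xk ι y 0)⁻¹) * (xk ι y 0 * y) := by group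
        _ = t * t * ι (zk 0 * rr) * (y * xk ι y 0) := by rw [d.xkt d.yt, c, map_mul]; group
        _ = t * (y * t * y⁻¹) * (y * xk ι y 0) := by rw [d.yt, (by decide +kernel : zk 0 * rr = zc), mul_assoc t t]
        _ = _ := by group
    have a := xk_cm (fun s m => d.cxt (d.cA4 s m)) k
    exact .inr ⟨d, a, d.toHz.prod d.ti (fun s m => d.cxt (d.cE s m)) a⟩

end Dw

theorem Hz.d2 (H : Hz ι t) (a : II ι t) : ∃ y, Du ι t y ∨ W8 ι t y ∨ W4 ι t y :=
  (H.exd a).imp fun _ => Or.imp_right Dw.cases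

end CF.Gu
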