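import Cfsg.Agent.Comp.Word

/-!
Towers of index-two extensions with packed tables: the arithmetic of coded 2-groups.
-/

set_option autoImplicit false

namespace CF.Gu.Cd
open CF.Comp

noncomputable def lk (T b : ℕ) : ℕ := Nat.land (Nat.shiftRight T (Nat.mul b (nat_lit 16))) (nat_lit 65535)

/-- one level: `A b` is the code of `x b x⁻¹`, `B b` that of `x b x` -/
structure Lv where
  top : ℕ
  TA : ℕ
  TB : ℕ

noncomputable def Lv.A (L : Lv) : ℕ → ℕ := lk L.TA
noncomputable def Lv.B (L : Lv) : ℕ → ℕ := lk L.TB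

abbrev Op2 := ℕ → ℕ → ℕ

noncomputable def lvl (L : Lv) (m : Op2) (a b : ℕ) : ℕ :=
  Lv.rec (motive := fun _ => ℕ) (fun t A B => Bool.rec
    (Bool.rec (m a b) (force (Nat.sub b t) fun b0 => Nat.add (m a b0) t) (Nat.ble t b))
    (force (Nat.sub a t) fun a0 => Bool.rec (force (lk A b) fun c => Nat.add (m a0 c) t)
      (force (lk B (Nat.sub b t)) (m a0)) (Nat.ble t b)) (Nat.ble t a)) L

noncomputable def mulB (m : Op2) (W : List Lv) : Op2 :=
  List.rec (motive := fun _ => Op2) m (fun L _ ih => lvl L ih) W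

noncomputable def mul (W : List Lv) : Op2 := mulB (fun _ _ => nat_lit 0) W

/-- a full table for `2^k` codes -/
noncomputable def ft (k T : ℕ) : Op2 := fun a b =>
  Nat.land (Nat.shiftRight T (Nat.shiftLeft (Nat.add (Nat.shiftLeft a k) b) (nat_lit 3))) (nat_lit 255)

def sz : List Lv → ℕ
  | [] => 1
  | L :: _ => L.top + L.top

/-- product of the images along the bits of a code -/
noncomputable def cev (m : Op2) (W : List Lv) : List ℕ → ℕ → ℕ :=
  List.rec (motive := fun _ => List ℕ → ℕ → ℕ) (fun _ _ => nat_lit 0) (fun L _ ih es a =>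
    List.rec (motive := fun _ => ℕ) (nat_lit 0) (fun e r _ => Bool.rec (ih r a)
      (force (Nat.sub a L.top) fun a0 => force (ih r a0) fun c => m c e) (Nat.ble L.top a)) es) W

def ev {K : Type*} [Group K] : List Lv → List K → ℕ → K
  | L :: r, x :: xs, a => if L.top ≤ a then ev r xs (a - L.top) * x else ev r xs a
  | _, _, _ => 1

theorem ble_t {a b : ℕ} (h : a ≤ b) : Nat.ble a b = true := Nat.ble_eq_true_of_le h
theorem ble_f {a b : ℕ} (h : b < a) : Nat.ble a b = false := by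
  cases e : Nat.ble a b
  · rfl
  · exact absurd (Nat.le_of_ble_eq_true e) (not_le.2 h)

variable {L : Lv} {m m' : Op2} {a b : ℕ} {W r : List Lv} {N : ℕ}

theorem lvl00 (h : a < L.top) (k : b < L.top) : lvl L m a b = m a b := by
  cases L; simp only [lvl, ble_f h, ble_f k]
theorem lvl01 (h : a < L.top) (k : L.top ≤ b) : lvl L m a b = m a (b - L.top) + L.top := by
  cases L; simp only [lvl, ble_f h, ble_t k, force_eq]; rfl
theorem lvl10 (h : L.top ≤ a) (k : b < L.top) : lvl L m a b = m (a - L.top) (L.A b) + L.top := by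
  cases L; simp only [lvl, ble_t h, ble_f k, force_eq]; rfl
theorem lvl11 (h : L.top ≤ a) (k : L.top ≤ b) : lvl L m a b = m (a - L.top) (L.B (b - L.top)) := by
  cases L; simp only [lvl, ble_t h, ble_t k, force_eq]; rfl

theorem mul_cons : mul (L :: r) = lvl L (mul r) := rfl

theorem cev_cons (e : ℕ) (es : List ℕ) : cev m (L :: r) (e :: es) a =
    if L.top ≤ a then m (cev m r es (a - L.top)) e else cev m r es a := by
  show Bool.rec (motive := fun _ => ℕ) (cev m r es a)
    (force (Nat.sub a L.top) fun a0 => force (cev m r es a0) fun c => m c e) (Nat.ble L.top a) = _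
  split_ifs with h
  · rw [ble_t h]; simp only [force_eq]; rfl
  · rw [ble_f (not_le.1 h)]

/-- the tables stay in range -/
def Bd : List Lv → Prop
  | [] => True
  | L :: r => Bd r ∧ L.top = sz r ∧ ∀ b < L.top, L.A b < L.top ∧ L.B b < L.top

/-- the tables are built from the images of the generators -/
def Wf : List Lv → Prop
  | [] => True
  | L :: r => Wf r ∧ L.A 0 = 0 ∧ (∀ b < L.top, L.B b = mul r (L.A b) (L.B 0)) ∧
      ∀ L' ∈ r, ∀ b < L'.top, L.A (b + L'.top) = mul r (L.A b) (L.A L'.top)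

theorem Bd.pos : ∀ {W : List Lv}, Bd W → 0 < sz W
  | [], _ => Nat.one_pos
  | _ :: _, h => Nat.add_pos_left (h.2.1 ▸ h.1.pos) _

theorem Bd.top_le : ∀ {W : List Lv}, Bd W → L ∈ W → L.top + L.top ≤ sz W ∧ 0 < L.top
  | L' :: r, h, k => by
    rcases List.mem_cons.1 k with rfl | k
    · exact ⟨le_rfl, h.2.1 ▸ h.1.pos⟩
    · have := h.1.top_le k
      exact ⟨this.1.trans (h.2.1 ▸ Nat.le_add_right _ _), this.2⟩

theorem lvl_lt (hm : ∀ a < L.top, ∀ b < L.top, m a b < L.top) (h : ∀ b < L.top, L.A b < L.top ∧ L.B b < L.top)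
    (ha : a < L.top + L.top) (hb : b < L.top + L.top) : lvl L m a b < L.top + L.top := by
  rcases lt_or_ge a L.top with h1 | h1 <;> rcases lt_or_ge b L.top with h2 | h2
  · rw [lvl00 h1 h2]; exact (hm a h1 b h2).trans_le (Nat.le_add_right _ _)
  · rw [lvl01 h1 h2]; exact Nat.add_lt_add_right (hm a h1 _ (by omega)) _
  · rw [lvl10 h1 h2]; exact Nat.add_lt_add_right (hm _ (by omega) _ (h b h2).1) _
  · rw [lvl11 h1 h2]; exact (hm _ (by omega) _ (h _ (by omega)).2).trans_le (Nat.le_add_right _ _)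

theorem Bd.mul_lt : ∀ {W : List Lv}, Bd W → ∀ a < sz W, ∀ b < sz W, mul W a b < sz W
  | [], _ => fun _ _ _ _ => Nat.one_pos
  | _ :: _, h => fun _ ha _ hb => lvl_lt (h.2.1 ▸ h.1.mul_lt) h.2.2 ha hb

theorem lvl_congr (hm : ∀ a < L.top, ∀ b < L.top, m a b = m' a b) (h : ∀ b < L.top, L.A b < L.top ∧ L.B b < L.top)
    (ha : a < L.top + L.top) (hb : b < L.top + L.top) : lvl L m a b = lvl L m' a b := by
  rcases lt_or_ge a L.top with h1 | h1 <;> rcases lt_or_ge b L.top with h2 | h2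
  · rw [lvl00 h1 h2, lvl00 h1 h2, hm a h1 b h2]
  · rw [lvl01 h1 h2, lvl01 h1 h2, hm a h1 _ (by omega)]
  · rw [lvl10 h1 h2, lvl10 h1 h2, hm _ (by omega) _ (h b h2).1]
  · rw [lvl11 h1 h2, lvl11 h1 h2, hm _ (by omega) _ (h _ (by omega)).2]

theorem mulB_eq (hm : ∀ a < sz r, ∀ b < sz r, m a b = mul r a b) :
    ∀ {W : List Lv}, Bd (W ++ r) → ∀ a < sz (W ++ r), ∀ b < sz (W ++ r), mulB m W a b = mul (W ++ r) a b
  | [], _ => hm
  | _ :: _, h => fun _ ha _ hb => lvl_congr (h.2.1 ▸ mulB_eq hm h.1) h.2.2 ha hb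

theorem Bd.zero_mul : ∀ {W : List Lv}, Bd W → ∀ b < sz W, mul W 0 b = b
  | [], _ => fun _ hb => (Nat.lt_one_iff.1 hb).symm
  | L :: r, h => fun b hb => by
    have p : 0 < L.top := h.2.1 ▸ h.1.pos
    rcases lt_or_ge b L.top with h2 | h2
    · rw [mul_cons, lvl00 p h2, h.1.zero_mul b (h.2.1 ▸ h2)]
    · rw [mul_cons, lvl01 p h2, h.1.zero_mul _ (by rw [← h.2.1]; change b < L.top + L.top at hb; omega)]; omega

variable {K : Type*} [Group K] {φ : ℕ → K} {x : K} {xs : List K} {es : List ℕ}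

/-- `φ` is multiplicative on the codes below `N` -/
def Hm (N : ℕ) (m : Op2) (φ : ℕ → K) : Prop :=
  0 < N ∧ φ 0 = 1 ∧ ∀ a < N, ∀ b < N, m a b < N ∧ φ (m a b) = φ a * φ b

/-- the relations of the tower -/
def Rel : List Lv → List K → Prop
  | [], [] => True
  | L :: r, x :: xs => Rel r xs ∧ ev r xs (L.B 0) = x * x ∧ ∀ L' ∈ r, ev r xs (L.A L'.top) = x * ev r xs L'.top * x⁻¹
  | _, _ => False

theorem ev_lo (h : a < L.top) : ev (L :: r) (x :: xs) a = ev r xs a := if_neg (not_le.2 h)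
theorem ev_hi (h : L.top ≤ a) : ev (L :: r) (x :: xs) a = ev r xs (a - L.top) * x := if_pos h

theorem ev_zero : ∀ {W : List Lv} {xs : List K}, Bd W → ev W xs 0 = 1
  | [], _, _ => rfl
  | _ :: _, [], _ => rfl
  | _ :: _, _ :: _, h => (ev_lo (h.2.1 ▸ h.1.pos)).trans (ev_zero h.1)

theorem ev_add : ∀ {W : List Lv} {xs : List K}, Bd W → L ∈ W → b < L.top →
    ev W xs (b + L.top) = ev W xs b * ev W xs L.top
  | _ :: _, [], _, _, _ => (mul_one _).symm
  | L' :: r, x :: xs, h, k, hb => by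
    rcases List.mem_cons.1 k with rfl | k
    · rw [ev_hi (Nat.le_add_left _ _), ev_lo hb, ev_hi le_rfl, Nat.add_sub_cancel, Nat.sub_self, ev_zero h.1, one_mul]
    · have := h.1.top_le k
      rw [← h.2.1] at this
      rw [ev_lo (by omega), ev_lo (by omega), ev_lo (by omega), ev_add h.1 k hb]

/-- induction along the bits of a code -/
theorem Bd.ind {P : ℕ → Prop} (h0 : P 0) : ∀ {W : List Lv}, Bd W →
    (∀ L ∈ W, ∀ b < L.top, P b → P (b + L.top)) → ∀ a < sz W, P a
  | [], _, _ => fun a ha => (Nat.lt_one_iff.1 ha).symm ▸ h0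
  | L :: r, h, k => fun a ha => by
    have q := fun a ha => Bd.ind h0 h.1 (fun L' m => k L' (List.mem_cons_of_mem _ m)) a (h.2.1 ▸ ha)
    change a < L.top + L.top at ha
    rcases lt_or_ge a L.top with h1 | h1
    · exact q a h1
    · exact Nat.sub_add_cancel h1 ▸ k L List.mem_cons_self _ (by omega) (q _ (by omega))

theorem hm_of : ∀ {W : List Lv} {xs : List K}, Bd W → Wf W → Rel W xs → Hm (sz W) (mul W) (ev W xs)
  | [], [], _, _, _ => ⟨Nat.one_pos, rfl, fun _ _ _ _ => ⟨Nat.one_pos, (mul_one _).symm⟩⟩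
  | L :: r, x :: xs, h, w, k => by
    have H := (hm_of h.1 w.1 k.1).2.2
    rw [← h.2.1] at H
    have hA : ∀ b < L.top, ev r xs (L.A b) = x * ev r xs b * x⁻¹ := fun b hb =>
      Bd.ind (P := fun b => ev r xs (L.A b) = x * ev r xs b * x⁻¹) (by simp [w.2.1, ev_zero h.1]) h.1 (fun L' m b hb q => by
        have := h.1.top_le m
        rw [← h.2.1] at this
        rw [w.2.2.2 L' m b hb, (H _ (h.2.2 _ (by omega)).1 _ (h.2.2 _ (by omega)).1).2, q, k.2.2 L' m, ev_add h.1 m hb]
        group) b (h.2.1 ▸ hb)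
    have hB : ∀ b < L.top, ev r xs (L.B b) = x * ev r xs b * x := fun b hb => by
      rw [w.2.2.1 b hb, (H _ (h.2.2 _ hb).1 _ (h.2.2 _ (by omega)).2).2, hA b hb, k.2.1]; group
    refine ⟨h.pos, ev_zero h, fun a ha b hb => ⟨h.mul_lt a ha b hb, ?_⟩⟩
    change a < L.top + L.top at ha
    change b < L.top + L.top at hb
    rw [mul_cons]
    rcases lt_or_ge a L.top with h1 | h1 <;> rcases lt_or_ge b L.top with h2 | h2
    · rw [lvl00 h1 h2, ev_lo (H a h1 b h2).1, ev_lo h1, ev_lo h2, (H a h1 b h2).2]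
    · rw [lvl01 h1 h2, ev_hi (Nat.le_add_left _ _), Nat.add_sub_cancel, ev_lo h1, ev_hi h2,
        (H a h1 _ (by omega)).2, mul_assoc]
    · rw [lvl10 h1 h2, ev_hi (Nat.le_add_left _ _), Nat.add_sub_cancel, ev_hi h1, ev_lo h2,
        (H _ (by omega) _ (h.2.2 b h2).1).2, hA b h2]; group
    · rw [lvl11 h1 h2, ev_lo (H _ (by omega) _ (h.2.2 _ (by omega)).2).1, ev_hi h1, ev_hi h2,
        (H _ (by omega) _ (h.2.2 _ (by omega)).2).2, hB _ (by omega)]; group

theorem Hm.cev (h : Hm N m φ) : ∀ {W : List Lv} {es : List ℕ} (a : ℕ), (∀ e ∈ es, e < N) →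
    cev m W es a < N ∧ φ (cev m W es a) = ev W (es.map φ) a
  | [], _, _, _ => ⟨h.1, by cases ‹List ℕ› <;> exact h.2.1⟩
  | _ :: _, [], _, _ => ⟨h.1, h.2.1⟩
  | L :: r, e :: es, a, k => by
    have k' := fun e m => k e (List.mem_cons_of_mem _ m)
    rw [cev_cons, List.map_cons, ev]
    split_ifs
    · have := h.cev (W := r) (a - L.top) k'
      have q := h.2.2 _ this.1 e (k e List.mem_cons_self)
      exact ⟨q.1, by rw [q.2, this.2]⟩
    · exact h.cev a k'

/-- strict conjunction, disjunction, negation -/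
noncomputable abbrev an (a b : Bool) : Bool := Bool.rec false b a
noncomputable abbrev orr (a b : Bool) : Bool := Bool.rec b true a
noncomputable abbrev nt (a : Bool) : Bool := Bool.rec true false a
noncomputable def blt (a b : ℕ) : Bool := Nat.ble (Nat.succ a) b

theorem an_iff {a b : Bool} : an a b = true ↔ a = true ∧ b = true := brec_and
theorem orr_iff {a b : Bool} : orr a b = true ↔ a = true ∨ b = true := brec_or
theorem nt_iff {a : Bool} : nt a = true ↔ ¬ a = true := by cases a <;> simp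
theorem blt_iff {a b : ℕ} : blt a b = true ↔ a < b := ble_iff
theorem tb_iff {v i : ℕ} : tb v i = true ↔ v.testBit i = true := by rw [tb_eq]

/-! towers -/


theorem Bd.sz_eq : ∀ {W : List Lv}, Bd W → sz W = 2 ^ llen W
  | [], _ => rfl
  | L :: r, h => by
    show L.top + L.top = 2 ^ (llen r + 1)
    rw [h.2.1, h.1.sz_eq, pow_succ, mul_two]

def Tw (W : List Lv) : Prop := Bd W ∧ Wf W

/-- `m` is the product of the tower -/
def Meq (W : List Lv) (m : Op2) : Prop := ∀ a < sz W, ∀ b < sz W, m a b = mul W a b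

noncomputable def lvOK (m : Op2) (r : List Lv) (L : Lv) : Bool :=
  force L.top fun t => force (llen r) fun d => force (L.B (nat_lit 0)) fun q =>
  an (Nat.beq t (sz r)) (an (Nat.beq (L.A (nat_lit 0)) (nat_lit 0)) (an (blt q t)
    (an (allBin (fun b => force (L.A b) fun x => an (blt x t) (force (L.B b) fun y => an (blt y t) (Nat.beq y (m x q)))) t d (nat_lit 0))
      (lall (fun L' : Lv => force L'.top fun s => force (L.A s) fun e =>
        allBin (fun b => Nat.beq (L.A (Nat.add b s)) (force (L.A b) fun x => m x e)) s d (nat_lit 0)) r))))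

theorem Tw.cons (h : Tw r) (hm : Meq r m) (k : lvOK m r L = true) : Tw (L :: r) := by
  simp only [lvOK, force_eq, an_iff, beq_iff, blt_iff, lall_iff] at k
  obtain ⟨k1, k2, k3, k4, k5⟩ := k
  have s := h.1.sz_eq
  have q := fun b hb => by simpa only [an_iff, beq_iff, blt_iff] using allBin_spec k4 (k1.trans s).le b hb
  refine ⟨⟨h.1, k1, fun b hb => ⟨(q b hb).1, (q b hb).2.1⟩⟩, h.2, k2, fun b hb => ?_, fun L' hL b hb => ?_⟩
  · rw [← hm _ (k1 ▸ (q b hb).1) _ (k1 ▸ k3)]; exact (q b hb).2.2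
  · have := h.1.top_le hL
    rw [← hm _ (k1 ▸ (q b (by omega)).1) _ (k1 ▸ (q _ (by omega)).1)]
    exact beq_iff.1 (allBin_spec (k5 L' hL) (by omega) b hb)

theorem Meq.mul (W : List Lv) : Meq W (mul W) := fun _ _ _ _ => rfl

theorem Meq.cons (h : Bd (L :: r)) (hm : Meq r m) : Meq (L :: r) (lvl L m) :=
  fun _ ha _ hb => lvl_congr (h.2.1 ▸ hm) h.2.2 ha hb

theorem Meq.tab {T : ℕ} (h : Bd W) (hm : Meq W m) (k : allBin (fun a => allBin (fun b => Nat.beq (ft (llen W) T a b) (m a b))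
    (sz W) (llen W) (nat_lit 0)) (sz W) (llen W) (nat_lit 0) = true) : Meq W (ft (llen W) T) := fun a ha b hb =>
  (beq_iff.1 (allBin_spec (allBin_spec k h.sz_eq.le a ha) h.sz_eq.le b hb)).trans (hm a ha b hb)

/-- the relations of a tower hold for the codes `es` -/
noncomputable def relOK (m : Op2) (V : List Lv) : List ℕ → Bool :=
  List.rec (motive := fun _ => List ℕ → Bool) (fun es => List.rec true (fun _ _ _ => false) es) (fun L r ih es =>
    List.rec (motive := fun _ => Bool) false (fun e es' _ => an (ih es') (an (Nat.beq (cev m r es' (L.B (nat_lit 0))) (m e e))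
      (lall (fun L' : Lv => Nat.beq (force (cev m r es' (L.A L'.top)) fun x => m x e)
        (force (cev m r es' L'.top) fun x => m e x)) r))) es) V

theorem relOK_spec {K : Type*} [Group K] {φ : ℕ → K} (h : Hm N m φ) : ∀ {V : List Lv} {es : List ℕ},
    (∀ e ∈ es, e < N) → relOK m V es = true → Rel V (es.map φ)
  | [], [], _, _ => trivial
  | [], _ :: _, _, k => Bool.noConfusion k
  | _ :: _, [], _, k => Bool.noConfusion k
  | L :: r, e :: es, b, k => by
    have b' := fun x hx => b x (List.mem_cons_of_mem _ hx)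
    have be := b e List.mem_cons_self
    obtain ⟨k1, k2⟩ := an_iff.1 k
    obtain ⟨k2, k3⟩ := an_iff.1 k2
    refine ⟨relOK_spec h b' k1, ?_, fun L' hL => ?_⟩
    · rw [← (h.cev _ b').2, ← (h.2.2 e be e be).2]; exact congrArg φ (beq_iff.1 k2)
    · have := congrArg φ (beq_iff.1 (lall_iff.1 k3 L' hL))
      rw [force_eq, force_eq, (h.2.2 _ (h.cev _ b').1 e be).2, (h.2.2 e be _ (h.cev _ b').1).2, (h.cev _ b').2,
        (h.cev _ b').2] at this
      exact eq_mul_inv_of_mul_eq this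

end CF.Gu.Cd
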