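import Cfsg.Agent.Gu.E0

/-! Coded 2-groups as groups. -/

set_option autoImplicit false

namespace CF.Gu
open CF.Comp CF.Gu.Cd

namespace Cd

variable {K : Type*} [Group K] {W r : List Lv} {L : Lv} {m : Op2}

theorem ev_top (f : Lv → K) : ∀ {W : List Lv}, Bd W → L ∈ W → ev W (W.map f) L.top = f L
  | L' :: r, h, k => by
    rcases List.mem_cons.1 k with rfl | k
    · rw [List.map_cons, ev_hi le_rfl, Nat.sub_self, ev_zero h.1, one_mul]
    · have := h.1.top_le k
      rw [← h.2.1] at this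
      rw [List.map_cons, ev_lo (by omega), ev_top f h.1 k]

theorem Hm.tail {Φ : ℕ → K} (h : Bd (L :: r)) (k : Hm (sz (L :: r)) (mul (L :: r)) Φ) : Hm (sz r) (mul r) Φ :=
  ⟨h.1.pos, k.2.1, fun a ha b hb => ⟨h.1.mul_lt a ha b hb, by
    rw [← h.2.1] at ha hb
    rw [← lvl00 (m := mul r) ha hb, ← mul_cons]
    exact (k.2.2 a (ha.trans_le (Nat.le_add_right _ _)) b (hb.trans_le (Nat.le_add_right _ _))).2⟩⟩

theorem mul_top : ∀ {W : List Lv}, Bd W → Wf W → L ∈ W → ∀ b < L.top, mul W b L.top = b + L.top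
  | L' :: r, h, w, k => fun b hb => by
    rcases List.mem_cons.1 k with rfl | k
    · have z : ∀ {W : List Lv}, Bd W → Wf W → ∀ b < sz W, mul W b 0 = b := by
        intro W
        induction W with
        | nil => exact fun _ _ _ hb => (Nat.lt_one_iff.1 hb).symm
        | cons L r ih =>
          intro h w b hb
          have p : 0 < L.top := h.2.1 ▸ h.1.pos
          change b < L.top + L.top at hb
          rcases lt_or_ge b L.top with h2 | h2
          · rw [mul_cons, lvl00 h2 p, ih h.1 w.1 b (h.2.1 ▸ h2)]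
          · rw [mul_cons, lvl10 h2 p, w.2.1, ih h.1 w.1 _ (by rw [← h.2.1]; omega)]; omega
      rw [mul_cons, lvl01 hb le_rfl, Nat.sub_self, z h.1 w.1 b (h.2.1 ▸ hb)]
    · have := h.1.top_le k
      rw [← h.2.1] at this
      rw [mul_cons, lvl00 (by omega) (by omega), mul_top h.1 w.1 k b hb]

theorem Hm.ev_eq {Φ : ℕ → K} (h : Tw W) (k : Hm (sz W) (mul W) Φ) : ∀ a < sz W, ev W (W.map fun L => Φ L.top) a = Φ a :=
  h.1.ind (P := fun a => ev W (W.map fun L => Φ L.top) a = Φ a) (by rw [ev_zero h.1, k.2.1]) fun L l b hb q => by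
    have := h.1.top_le l
    rw [ev_add h.1 l hb, q, ev_top (fun L => Φ L.top) h.1 l, ← (k.2.2 b (by omega) _ (by omega)).2, mul_top h.1 h.2 l b hb]

theorem Hm.rel {Φ : ℕ → K} : ∀ {W : List Lv}, Tw W → Hm (sz W) (mul W) Φ → Rel W (W.map fun L => Φ L.top)
  | [], _, _ => trivial
  | L :: r, h, k => by
    have t : Tw r := ⟨h.1.1, h.2.1⟩
    have e := (k.tail h.1).ev_eq t
    have p : 0 < L.top := h.1.2.1 ▸ h.1.1.pos
    have s : L.top < sz (L :: r) := Nat.lt_add_of_pos_left p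
    rw [← h.1.2.1] at e
    refine ⟨(k.tail h.1).rel t, ?_, fun L' l => ?_⟩
    · rw [e _ (h.1.2.2 0 p).2, ← (k.2.2 _ s _ s).2, mul_cons, lvl11 le_rfl le_rfl, Nat.sub_self,
        h.1.1.zero_mul _ (h.1.2.1 ▸ (h.1.2.2 0 p).2)]
    · have := h.1.1.top_le l
      rw [← h.1.2.1] at this
      have a := (h.1.2.2 L'.top (by omega)).1
      rw [e _ a, e _ (by omega), eq_mul_inv_iff_mul_eq, ← (k.2.2 _ s _ (s.trans' (by omega))).2,
        ← (k.2.2 _ (s.trans' a) _ s).2, mul_top h.1 h.2 List.mem_cons_self _ a, mul_cons, lvl10 le_rfl (by omega),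
        Nat.sub_self, h.1.1.zero_mul _ (h.1.2.1 ▸ a)]

/-- the tower is realised by a group -/
def Rz (W : List Lv) : Prop := ∃ (K : Type) (_ : Group K) (Φ : ℕ → K), Hm (sz W) (mul W) Φ ∧
  ∀ a < sz W, ∀ b < sz W, Φ a = Φ b → a = b

theorem Rz.nil : Rz [] := ⟨Unit, inferInstance, fun _ => 1, ⟨Nat.one_pos, rfl, fun _ _ _ _ => ⟨Nat.one_pos, rfl⟩⟩,
  fun _ ha _ hb _ => (Nat.lt_one_iff.1 ha).trans (Nat.lt_one_iff.1 hb).symm⟩

noncomputable def rzOK (m : Op2) (r : List Lv) (L : Lv) : Bool := force (L.B (nat_lit 0)) fun q =>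
  an (relOK m r (lmap (fun L' => L.A L'.top) r)) (an (Nat.beq (L.A q) q)
    (lall (fun L' : Lv => Nat.beq (m (L.A (L.A L'.top)) q) (m q L'.top)) r))

theorem Rz.cons (h : Tw (L :: r)) (hm : Meq r m) (z : Rz r) (k : rzOK m r L = true) : Rz (L :: r) := by
  obtain ⟨K, _, φ, H, I⟩ := z
  simp only [rzOK, force_eq, an_iff, beq_iff, lall_iff, lmap_eq] at k
  obtain ⟨k1, k2, k3⟩ := k
  have t : Tw r := ⟨h.1.1, h.2.1⟩
  have n := h.1.2.1
  have bd := h.1.2.2
  rw [n] at bd
  have p := t.1.pos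
  have tl : ∀ L' ∈ r, L'.top < sz r := fun L' l => by have := t.1.top_le l; omega
  have H' : Hm (sz r) m φ := ⟨H.1, H.2.1, fun a ha b hb => hm a ha b hb ▸ H.2.2 a ha b hb⟩
  have R := relOK_spec H' (fun e he => by
    obtain ⟨L', l, rfl⟩ := List.mem_map.1 he
    exact (bd _ (tl L' l)).1) k1
  rw [List.map_map] at R
  have HA := hm_of t.1 t.2 R
  have eA : ∀ b < sz r, ev r (r.map (φ ∘ fun L' => L.A L'.top)) b = φ (L.A b) :=
    t.1.ind (P := fun b => ev r (r.map (φ ∘ fun L' => L.A L'.top)) b = φ (L.A b)) (by rw [ev_zero t.1, h.2.2.1, H.2.1])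
      fun L' l b hb q => by
        have := t.1.top_le l
        rw [ev_add t.1 l hb, q, ev_top _ t.1 l, h.2.2.2.2 L' l b hb, (H.2.2 _ (bd _ (by omega)).1 _ (bd _ (by omega)).1).2]; rfl
  have mA : ∀ a < sz r, ∀ b < sz r, φ (L.A (mul r a b)) = φ (L.A a) * φ (L.A b) := fun a ha b hb => by
    rw [← eA _ (H.2.2 a ha b hb).1, (HA.2.2 a ha b hb).2, eA a ha, eA b hb]
  let j : K × K →* Equiv.Perm (K ⊕ K) := (Equiv.Perm.sumCongrHom K K).comp
    ((MulAction.toPermHom K K).prodMap (MulAction.toPermHom K K))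
  let Φ : ℕ → Equiv.Perm (K ⊕ K) := fun b => j (φ b, φ (L.A b))
  have HΦ : Hm (sz r) (mul r) Φ := ⟨p, by simp only [Φ, h.2.2.1, H.2.1]; exact map_one j, fun a ha b hb =>
    ⟨(H.2.2 a ha b hb).1, by simp only [Φ, ← map_mul, Prod.mk_mul_mk, mA a ha b hb, (H.2.2 a ha b hb).2]⟩⟩
  have e := HΦ.ev_eq t
  let x : Equiv.Perm (K ⊕ K) := j (1, φ (L.B 0)) * Equiv.sumComm K K
  have sw : ∀ a b, (Equiv.sumComm K K : Equiv.Perm (K ⊕ K)) * j (a, b) = j (b, a) * Equiv.sumComm K K := fun a b =>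
    Equiv.ext fun u => by cases u <;> rfl
  have ss : (Equiv.sumComm K K : Equiv.Perm (K ⊕ K)) * Equiv.sumComm K K = 1 := Equiv.ext fun u => by cases u <;> rfl
  have R' : Rel (L :: r) (x :: r.map fun L' => Φ L'.top) := by
    refine ⟨HΦ.rel t, ?_, fun L' l => ?_⟩
    · rw [e _ (bd 0 p).2, mul_assoc, ← mul_assoc _ (j _), sw, mul_assoc, ss, mul_one, ← map_mul]
      simp only [Φ, k2, Prod.mk_mul_mk, one_mul, mul_one]
    · have := congrArg φ (k3 L' l)
      rw [(H'.2.2 _ (bd _ (bd _ (tl L' l)).1).1 _ (bd 0 p).2).2, (H'.2.2 _ (bd 0 p).2 _ (tl L' l)).2] at this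
      rw [e _ (bd _ (tl L' l)).1, e _ (tl L' l), eq_mul_inv_iff_mul_eq, mul_assoc, sw, ← mul_assoc, ← mul_assoc, ← map_mul,
        ← map_mul]
      simp only [Prod.mk_mul_mk, one_mul, mul_one, this]
  refine ⟨_, inferInstance, _, hm_of h.1 h.2 R', fun a ha b hb q => ?_⟩
  change a < L.top + L.top at ha
  change b < L.top + L.top at hb
  have q1 := DFunLike.congr_fun q (.inl 1)
  have q2 := DFunLike.congr_fun q (.inr (φ (L.B 0))⁻¹)
  have lo : ∀ a < L.top, ∀ u, Φ a (.inl u) = .inl (φ a * u) := fun _ _ _ => rfl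
  have hi : ∀ a, (Φ a * x) (.inl 1) = .inr (φ (L.A a) * (φ (L.B 0) * 1)) := fun _ => rfl
  have hi' : ∀ a u, (Φ a * x) (.inr u) = .inl (φ a * (1 * u)) := fun _ _ => rfl
  rcases lt_or_ge a L.top with h1 | h1 <;> rcases lt_or_ge b L.top with h2 | h2
  · rw [ev_lo h1, ev_lo h2, e a (n ▸ h1), e b (n ▸ h2), lo a h1, lo b h2] at q1
    exact I a (n ▸ h1) b (n ▸ h2) (by simpa using q1)
  · rw [ev_lo h1, ev_hi h2, e a (n ▸ h1), e _ (by omega), lo a h1, hi] at q1
    cases q1
  · rw [ev_hi h1, ev_lo h2, e b (n ▸ h2), e _ (by omega), lo b h2, hi] at q1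
    cases q1
  · rw [ev_hi h1, ev_hi h2, e _ (by omega), e _ (by omega), hi', hi'] at q2
    have := I _ (by omega) _ (by omega) (mul_right_cancel (Sum.inl.inj q2))
    omega

end Cd

/-- a tower with its product, size, height and table of inverses -/
structure TD where
  W : List Lv
  m : Op2
  n : ℕ
  d : ℕ
  iv : ℕ

class TD.OK (X : TD) : Prop where
  tw : Tw X.W
  rz : Rz X.W
  mq : Meq X.W X.m
  hn : X.n = sz X.W
  hd : X.d = llen X.W
  iv : ∀ a < X.n, lk X.iv a < X.n ∧ X.m (lk X.iv a) a = 0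

noncomputable def ivOK (m : Op2) (n d iv : ℕ) : Bool :=
  allBin (fun a => force (lk iv a) fun b => an (blt b n) (Nat.beq (m b a) (nat_lit 0))) n d (nat_lit 0)

/-- the trivial group -/
noncomputable def TD.nil : TD := ⟨[], mul [], 1, 0, 0⟩

instance : TD.nil.OK := ⟨⟨trivial, trivial⟩, Rz.nil, Meq.mul _, rfl, rfl, fun a ha => by
  obtain rfl := Nat.lt_one_iff.1 ha
  exact ⟨Nat.one_pos, rfl⟩⟩

theorem TD.cons (X : TD) [h : X.OK] (L : Lv) {n d iv : ℕ} (k : an (lvOK X.m X.W L) (an (rzOK X.m X.W L)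
    (an (Nat.beq n (Nat.add X.n X.n)) (an (Nat.beq d (Nat.succ X.d)) (ivOK (lvl L X.m) n d iv)))) = true) :
    TD.OK ⟨L :: X.W, lvl L X.m, n, d, iv⟩ := by
  simp only [an_iff, beq_iff] at k
  obtain ⟨k1, k2, k3, k4, k5⟩ := k
  have t := h.tw.cons h.mq k1
  have hn : n = sz (L :: X.W) := by rw [k3, h.hn, ← t.1.2.1]; rfl
  have hd : d = llen (L :: X.W) := by rw [k4, h.hd]; rfl
  exact ⟨t, h.rz.cons t h.mq k2, h.mq.cons t.1, hn, hd, fun a ha => by
    simpa only [force_eq, an_iff, blt_iff, beq_iff] using allBin_spec k5 (by rw [hn, hd, t.1.sz_eq]) a ha⟩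

theorem TD.tab (X : TD) [h : X.OK] {T : ℕ} (k : allBin (fun a => allBin (fun b => Nat.beq (ft X.d T a b) (X.m a b))
    X.n X.d (nat_lit 0)) X.n X.d (nat_lit 0) = true) : TD.OK ⟨X.W, ft X.d T, X.n, X.d, X.iv⟩ := by
  have q : Meq X.W (ft X.d T) := by
    rw [h.hn, h.hd] at k
    exact h.hd ▸ h.mq.tab h.tw.1 k
  exact ⟨h.tw, h.rz, q, h.hn, h.hd, fun a ha => ⟨(h.iv a ha).1, by
    change ft X.d T _ _ = 0
    rw [q _ (h.hn ▸ (h.iv a ha).1) _ (h.hn ▸ ha), ← h.mq _ (h.hn ▸ (h.iv a ha).1) _ (h.hn ▸ ha), (h.iv a ha).2]⟩⟩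

/-- the group of codes -/
@[ext] structure TG (X : TD) where
  v : ℕ
  lt : v < X.n

namespace TG
variable {X Y : TD} [h : X.OK]

theorem pos (X : TD) [h : X.OK] : 0 < X.n := h.hn ▸ h.tw.1.pos
theorem lt' (a : TG X) : a.v < sz X.W := h.hn ▸ a.lt

theorem m_lt (a b : TG X) : (force a.v fun a => force b.v fun b => X.m a b) < X.n := by
  rw [force_eq, force_eq, h.mq _ a.lt' _ b.lt', h.hn]
  exact h.tw.1.mul_lt _ a.lt' _ b.lt'

noncomputable instance instMul : Mul (TG X) := ⟨fun a b => ⟨force a.v fun a => force b.v fun b => X.m a b, m_lt a b⟩⟩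
noncomputable instance instOne : One (TG X) := ⟨⟨nat_lit 0, pos X⟩⟩
noncomputable instance instInv : Inv (TG X) := ⟨fun a => ⟨lk X.iv a.v, (h.iv _ a.lt).1⟩⟩

theorem v_mul (a b : TG X) : (a * b).v = mul X.W a.v b.v := by
  rw [← h.mq _ a.lt' _ b.lt']
  change (force a.v fun a => force b.v fun b => X.m a b) = _
  rw [force_eq, force_eq]

theorem assoc (a b c : TG X) : a * b * c = a * (b * c) := by
  obtain ⟨K, _, φ, H, I⟩ := h.rz
  have k : ∀ a b : TG X, φ (a * b).v = φ a.v * φ b.v := fun a b => by rw [v_mul, (H.2.2 _ a.lt' _ b.lt').2]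
  exact TG.ext (I _ (lt' _) _ (lt' _) (by simp only [k, mul_assoc]))

noncomputable instance instGroup : Group (TG X) := Group.ofLeftAxioms assoc
  (fun a => TG.ext ((v_mul _ _).trans (h.tw.1.zero_mul _ a.lt')))
  fun a => TG.ext (by rw [v_mul, ← h.mq _ (lt' _) _ (lt' _)]; exact (h.iv _ a.lt).2)

noncomputable instance instDecEq : DecidableEq (TG X) := fun a b =>
  decidable_of_iff (Nat.beq a.v b.v = true) (beq_iff.trans TG.ext_iff.symm)

noncomputable def allG (Q : TG X → Bool) : Bool :=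
  allBin (fun a => @dite _ (a < X.n) (Nat.decLt _ _) (fun k => Q ⟨a, k⟩) fun _ => true) X.n X.d (nat_lit 0)

theorem allBin_of {f : ℕ → Bool} {n : ℕ} (k : ∀ a, f a = true) : ∀ d a, allBin f n d a = true
  | 0, a => by
    show Bool.rec (motive := fun _ => Bool) (f a) true (Nat.ble n a) = true
    rw [k]; cases Nat.ble n a <;> rfl
  | d + 1, a => by
    show Bool.rec (motive := fun _ => Bool) (force (Nat.mul 2 a) fun b =>
      Bool.rec false (allBin f n d (Nat.succ b)) (allBin f n d b)) true (Nat.ble n (Nat.shiftLeft a (Nat.succ d))) = true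
    rw [force_eq, allBin_of k d, allBin_of k d]
    cases Nat.ble n _ <;> rfl

theorem allG_iff {Q : TG X → Prop} [DecidablePred Q] : allG (fun a => decide (Q a)) = true ↔ ∀ a, Q a :=
  ⟨fun k a => by simpa [a.lt] using allBin_spec k (by rw [h.hn, h.hd, h.tw.1.sz_eq]) a.v a.lt,
    fun k => allBin_of (fun a => by split_ifs <;> simp [k]) _ _⟩

noncomputable instance (priority := 50) instDecAll (Q : TG X → Prop) [DecidablePred Q] : Decidable (∀ c, Q c) :=
  decidable_of_iff _ allG_iff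

noncomputable instance (priority := 50) instDecEx (Q : TG X → Prop) [DecidablePred Q] : Decidable (∃ c, Q c) :=
  decidable_of_iff (¬ ∀ c, ¬ Q c) (by simp)

omit h in
theorem card : Nat.card (TG X) = X.n := by
  rw [Nat.card_congr (⟨fun a => ⟨a.v, a.lt⟩, fun a => ⟨a.1, a.2⟩, fun _ => rfl, fun _ => rfl⟩ : TG X ≃ Fin X.n), Nat.card_fin]

instance instFinite : Finite (TG X) := Nat.finite_of_card_ne_zero (by rw [card]; exact (pos X).ne')

theorem pgroup : IsPGroup 2 (TG X) := .of_card (n := X.d) (by rw [card, h.hn, h.hd, h.tw.1.sz_eq])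

/-- the element with a given code -/
noncomputable def e (X : TD) [X.OK] (a : ℕ) : TG X := ⟨Nat.mod a X.n, Nat.mod_lt _ (pos X)⟩

theorem v_e {a : ℕ} (k : a < X.n) : (e X a).v = a := Nat.mod_eq_of_lt k

theorem e_v (a : TG X) : e X a.v = a := TG.ext (v_e a.lt)

theorem ind {P : TG X → Prop} (h1 : P 1) (k : ∀ L ∈ X.W, ∀ a, P a → P (a * e X L.top)) (a : TG X) : P a := by
  have := h.tw.1.ind (P := fun a => P (e X a)) (by convert h1; exact TG.ext (v_e (pos X))) (fun L l b hb q => by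
    have := h.tw.1.top_le l
    rw [← h.hn] at this
    convert k L l _ q
    exact TG.ext (by rw [v_mul, v_e (by omega), v_e (by omega), v_e (by omega), mul_top h.tw.1 h.tw.2 l b hb])) a.v a.lt'
  rwa [e_v] at this

/-- a subgroup containing the generators of the tower is everything -/
theorem top {l : List (TG X)} (k : ∀ L ∈ X.W, e X L.top ∈ l) {M : Subgroup (TG X)} (hM : ∀ a ∈ l, a ∈ M) : M = ⊤ :=
  top_unique fun a _ => ind (P := (· ∈ M)) (one_mem M) (fun L m _ q => mul_mem q (hM _ (k L m))) a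

noncomputable def force' {α : Type*} (x : ℕ) (k : ℕ → α) : α :=
  Nat.rec (motive := fun _ => α) (k (nat_lit 0)) (fun m _ => k (Nat.succ m)) x

theorem force'_eq {α : Type*} (x : ℕ) (k : ℕ → α) : force' x k = k x := by cases x <;> rfl

variable {K : Type*} [Group K]

noncomputable instance decRel [DecidableEq K] : ∀ (W : List Lv) (xs : List K), Decidable (Rel W xs)
  | [], [] => isTrue trivial
  | L :: r, x :: xs => @instDecidableAnd _ _ (decRel r xs) (inferInstanceAs (Decidable (ev r xs (L.B 0) = x * x ∧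
      ∀ L' ∈ r, ev r xs (L.A L'.top) = x * ev r xs L'.top * x⁻¹)))
  | [], _ :: _ => isFalse id
  | _ :: _, [] => isFalse id

/-- the homomorphism with given images of the generators (highest first) -/
noncomputable def hom (xs : List K) (k : Rel X.W xs) : TG X →* K :=
  MonoidHom.mk' (fun a => force' a.v (ev X.W xs)) fun a b => by
    simp only [force'_eq]
    rw [v_mul, ((hm_of h.tw.1 h.tw.2 k).2.2 _ a.lt' _ b.lt').2]

theorem hom_apply (xs : List K) (k : Rel X.W xs) (a : TG X) : hom xs k a = ev X.W xs a.v := force'_eq _ _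

theorem hext {f g : TG X →* K} (k : ∀ L ∈ X.W, f (e X L.top) = g (e X L.top)) : f = g :=
  MonoidHom.ext (ind (P := fun a => f a = g a) (by simp) fun L l a q => by rw [map_mul, map_mul, q, k L l])

theorem mul_app : ∀ (V : List Lv) {W : List Lv}, Bd (V ++ W) → sz W ≤ sz (V ++ W) ∧
    ∀ a < sz W, ∀ b < sz W, mul (V ++ W) a b = mul W a b
  | [], _, _ => ⟨le_rfl, fun _ _ _ _ => rfl⟩
  | L :: V, W, k => by
    obtain ⟨p, q⟩ := mul_app V k.1
    replace p : sz W ≤ L.top := p.trans k.2.1.ge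
    exact ⟨p.trans (Nat.le_add_right _ _), fun a ha b hb => by
      rw [List.cons_append, mul_cons, lvl00 (by omega) (by omega), q a ha b hb]⟩

/-- the inclusion of an initial part of a tower -/
noncomputable def inc [hY : Y.OK] (V : List Lv) (k : Y.W = V ++ X.W) : TG X →* TG Y :=
  MonoidHom.mk' (fun a => ⟨a.v, a.lt'.trans_le (hY.hn ▸ k ▸ (mul_app V (k ▸ hY.tw.1)).1)⟩) fun a b =>
    TG.ext (by
      rw [v_mul, v_mul]
      change _ = mul Y.W a.v b.v
      rw [← (mul_app V (k ▸ hY.tw.1)).2 _ a.lt' _ b.lt', ← k])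

theorem inc_inj [Y.OK] (V : List Lv) (k : Y.W = V ++ X.W) : Function.Injective (inc V k) := fun _ _ q =>
  TG.ext (congrArg (TG.v (X := Y)) q)

end TG

variable {P P' G : Type*} [Group P] [Group P'] [Group G] [Finite P']

/-- extension of a homomorphism to a group containing the domain with index two -/
theorem ext2 (j : P →* P') (hj : Function.Injective j) (c : Nat.card P' = 2 * Nat.card P) (x' : P') (nx : ∀ p, j p ≠ x')
    (φ : P →* G) (x : G) (l : List (P × P)) (tp : ∀ {M : Subgroup P}, (∀ a ∈ l.map Prod.fst, a ∈ M) → M = ⊤)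
    (h1 : ∀ p ∈ l, x' * j p.1 * x'⁻¹ = j p.2) (h2 : ∀ p ∈ l, x * φ p.1 * x⁻¹ = φ p.2) (b : P) (h3 : x' * x' = j b)
    (h4 : x * x = φ b) : ∃ ψ : P' →* G, (∀ p, ψ (j p) = φ p) ∧ ψ x' = x ∧
      (Function.Injective φ → (∀ p, φ p ≠ x) → Function.Injective ψ) := by
  classical
  have i : j.range.index = 2 := by
    have := j.range.card_mul_index
    rw [← Nat.card_congr (MonoidHom.ofInjective hj).toEquiv, c, mul_comm] at this
    exact Nat.eq_of_mul_eq_mul_right (Nat.pos_of_ne_zero fun z => Nat.card_pos.ne' (by rw [c, z])) this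
  have nx' : x' ∉ j.range := fun ⟨p, q⟩ => nx p q
  let M : Subgroup P :=
    { carrier := {p | ∃ q, x' * j p * x'⁻¹ = j q ∧ x * φ p * x⁻¹ = φ q}
      one_mem' := ⟨1, by simp, by simp⟩
      mul_mem' := fun ⟨q, a, b⟩ ⟨q', a', b'⟩ => ⟨q * q', by simp only [map_mul, ← a, ← a']; group,
        by simp only [map_mul, ← b, ← b']; group⟩
      inv_mem' := fun ⟨q, a, b⟩ => ⟨q⁻¹, by simp only [map_inv, ← a]; group, by simp only [map_inv, ← b]; group⟩ }
  have k : ∀ p, p ∈ M := fun p => (tp fun a m => by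
    obtain ⟨q, m', rfl⟩ := List.mem_map.1 m
    exact ⟨q.2, h1 q m', h2 q m'⟩).ge (Subgroup.mem_top p)
  choose α a1 a2 using k
  have d : ∀ a : P', ∃ p, a = j p ∨ a = j p * x' := fun a => by
    by_cases m : a ∈ j.range
    · exact m.imp fun p q => .inl q.symm
    · obtain ⟨p, q⟩ := (Subgroup.mul_mem_iff_of_index_two i).2 (iff_of_false m (mt inv_mem_iff.1 nx'))
      exact ⟨p, .inr (by rw [q]; group)⟩
  let f : P' → G := fun a => if m : a ∈ j.range then φ m.choose else φ (d a).choose * x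
  have f1 : ∀ p, f (j p) = φ p := fun p => by
    have m : j p ∈ j.range := ⟨p, rfl⟩
    simp only [f, dif_pos m, hj m.choose_spec]
  have f2 : ∀ p, f (j p * x') = φ p * x := fun p => by
    have m : j p * x' ∉ j.range := fun m => nx' ((mul_mem_cancel_left (show j p ∈ j.range from ⟨p, rfl⟩)).1 m)
    simp only [f, dif_neg m]
    rcases (d (j p * x')).choose_spec with q | q
    · exact (m ⟨_, q.symm⟩).elim
    · rw [← hj (mul_right_cancel q)]
  refine ⟨MonoidHom.mk' f fun a a' => ?_, f1, by simpa using f2 1, fun hφ n => (injective_iff_map_eq_one _).2 fun a q => ?_⟩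
  · obtain ⟨p, rfl | rfl⟩ := d a <;> obtain ⟨q, rfl | rfl⟩ := d a'
    · rw [← map_mul, f1, f1, f1, map_mul]
    · rw [← mul_assoc, ← map_mul, f1, f2, f2, map_mul, mul_assoc]
    · rw [show j p * x' * j q = j (p * α q) * x' by rw [map_mul, ← a1]; group, f1, f2, f2, map_mul, ← a2]; group
    · rw [show j p * x' * (j q * x') = j (p * α q * b) by rw [map_mul, map_mul, ← a1, ← h3]; group, f1, f2, f2, map_mul,
        map_mul, ← a2, ← h4]; group
  · obtain ⟨p, rfl | rfl⟩ := d a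
    · rw [hφ (((f1 p).symm.trans q).trans (map_one φ).symm), map_one]
    · exact (n p⁻¹ (by rw [map_inv]; exact inv_eq_of_mul_eq_one_right ((f2 p).symm.trans q))).elim

end CF.Gu
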