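import Cfsg.Agent.Gu.E1

/-! Counting in coded 2-groups. -/

set_option autoImplicit false

namespace CF.Gu.TG
open CF.Comp CF.Gu.Cd

noncomputable def sumBin (f : ℕ → ℕ) (d : ℕ) : ℕ → ℕ :=
  Nat.rec (motive := fun _ => ℕ → ℕ) f (fun _ ih a => force (Nat.mul (nat_lit 2) a) fun b =>
    force (ih b) fun x => force (Nat.succ b) fun c => force (ih c) fun y => Nat.add x y) d

theorem sumBin_eq (f : ℕ → ℕ) : ∀ d a, sumBin f d a = ∑ i ∈ Finset.range (2 ^ d), f (a * 2 ^ d + i)
  | 0, a => by simp [sumBin]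
  | d + 1, a => by
    change (force (Nat.mul 2 a) fun b => force (sumBin f d b) fun x => force (Nat.succ b) fun c =>
      force (sumBin f d c) fun y => Nat.add x y) = _
    simp only [force_eq, sumBin_eq f d]
    rw [pow_succ, mul_two, Finset.sum_range_add, Nat.add_eq]
    congr 1 <;> refine Finset.sum_congr rfl fun i _ => congrArg f ?_ <;> simp only [Nat.mul_eq, Nat.succ_eq_add_one] <;> ring

variable {X : TD} [h : X.OK]

/-- the number of elements with a property -/
noncomputable def cnt (Q : TG X → Prop) [DecidablePred Q] : ℕ :=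
  sumBin (fun a => @dite _ (a < X.n) (Nat.decLt _ _) (fun k => Bool.rec (nat_lit 0) (nat_lit 1) (decide (Q ⟨a, k⟩)))
    fun _ => nat_lit 0) X.d (nat_lit 0)

theorem card_cnt (Q : TG X → Prop) [DecidablePred Q] : Nat.card {a // Q a} = cnt Q := by
  have n : 2 ^ X.d = X.n := by rw [h.hn, h.hd, h.tw.1.sz_eq]
  rw [cnt, sumBin_eq, n, Nat.card_congr (⟨fun a => ⟨⟨a.1.v, a.1.lt⟩, a.2⟩, fun a => ⟨⟨a.1.1, a.1.2⟩, a.2⟩, fun _ => rfl,
    fun _ => rfl⟩ : {a // Q a} ≃ {a : Fin X.n // Q ⟨a.1, a.2⟩}), Nat.card_eq_fintype_card, Fintype.card_subtype,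
    Finset.card_filter, Finset.sum_range]
  refine Finset.sum_congr rfl fun i _ => ?_
  simp only [show (nat_lit 0 : ℕ) = 0 from rfl, zero_mul, zero_add, dif_pos i.2]
  split_ifs with q <;> simp [q]

theorem card_sub (K : Subgroup (TG X)) (Q : TG X → Prop) [DecidablePred Q] (k : ∀ a, a ∈ K ↔ Q a) : Nat.card K = cnt Q := by
  rw [← card_cnt]; exact Nat.card_congr (Equiv.subtypeEquivRight k)

/-- counting in the image under an injective homomorphism -/
theorem card_img {G : Type*} [Group G] {φ : TG X →* G} (i : Function.Injective φ) (R : G → Prop) (Q : TG X → Prop)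
    [DecidablePred Q] (l : ∀ g, R g → g ∈ φ.range) (k : ∀ a, R (φ a) ↔ Q a) : Nat.card {g // R g} = cnt Q := by
  rw [← card_cnt]
  exact (Nat.card_congr (Equiv.ofBijective (fun a : {a // Q a} => (⟨φ a.1, (k _).2 a.2⟩ : {g // R g}))
    ⟨fun a b e => Subtype.ext (i (congrArg Subtype.val e)), fun g => by
      obtain ⟨a, e⟩ := l g.1 g.2
      exact ⟨⟨a, (k a).1 (e ▸ g.2)⟩, Subtype.ext e⟩⟩)).symm

end CF.Gu.TG
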