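import Cfsg.Agent.Gu.A1

/-! Standard subgroups isomorphic to `U₄(2)`: facts in the model for the front. -/

set_option autoImplicit false
set_option maxRecDepth 100000

namespace CF.Gu.F0
open Subgroup Cfsg CF.BG CF.Sig CF.GW CF.Ab2

/-- the elements of the diagonal subgroup -/
noncomputable def LE : List LL := [0, 1, 2, 3, 4, 5, 6, 7, 32, 33, 34, 35, 36, 37, 38, 39].map fun n => sL (TG.e XS n)

theorem le_ok : (∀ a ∈ LE, a * a = 1 ∧ ∀ b ∈ LE, a * b ∈ LE ∧ a * b = b * a) ∧ LE.Nodup ∧ 1 ∈ LE ∧ zc ∈ LE ∧ bt ∈ LE := by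
  decide +kernel

theorem cls : ∀ a : TG XS, a * a = 1 → ∃ c ∈ [1, om, om * om], c * sL a * c⁻¹ ∈ LE := by decide +kernel

/-- codes of a transversal -/
def LT : List ℕ := List.range 64 ++ (List.range 64).map (· + 128)

theorem lt_ok : ∀ a : TG XU, ∃ n ∈ LT, a = TG.e XU n ∨ a = TG.e XU n * TG.e XU 64 := by decide +kernel

theorem cnt : ∀ a : TG XU, (a * a = 1 ∨ a * a = TG.e XU 64) ∨ (LT.filter fun n => decide
    ((TG.e XU n * TG.e XU n = 1 ∨ TG.e XU n * TG.e XU n = TG.e XU 64) ∧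
      (a * TG.e XU n * (TG.e XU n * a)⁻¹ = 1 ∨ a * TG.e XU n * (TG.e XU n * a)⁻¹ = TG.e XU 64))).length < 16 := by
  decide +kernel

theorem u64 : uH (TG.e XU 64) = 1 := by decide +kernel

theorem len_le {K : Type*} [Group K] [Finite K] {B : Subgroup K} {l : List K} (n : l.Nodup) (h : ∀ x ∈ l, x ∈ B) :
    l.length ≤ ♯B := by
  classical
  rw [← List.toFinset_card_of_nodup n, ← Set.ncard_coe_finset]
  exact Set.ncard_le_ncard (t := (B : Set K)) (fun x m => h x (by simpa using m)) (Set.toFinite _)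

theorem le_len {K : Type*} [Group K] {B : Subgroup K} {l : List K} (h : ∀ x ∈ B, x ∈ l) : ♯B ≤ l.length := by
  classical
  refine le_trans ?_ l.toFinset_card_le
  rw [← Set.ncard_coe_finset]
  exact Set.ncard_le_ncard (s := (B : Set K)) (fun x m => by simpa using h x m) (Finset.finite_toSet _)

/-- the diagonal subgroup -/
noncomputable def E : Subgroup LL where
  carrier := {a | a ∈ LE}
  mul_mem' := fun p q => ((le_ok.1 _ p).2 _ q).1
  one_mem' := le_ok.2.2.1
  inv_mem' := fun p => (inv_eq_of_mul_eq_one_right (le_ok.1 _ p).1).symm ▸ p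

theorem card_E : 16 ≤ ♯E := len_le le_ok.2.1 fun _ m => m

theorem syl {K : Type*} [Group K] [Finite K] {S : Subgroup K} (p : P2 S) {n : ℕ} (e : Nat.card K = ♯S * n) (o : ¬ 2 ∣ n) :
    Syl 2 S ⊤ := syl_mk p2 le_top p (by
  have := S.card_mul_index
  rw [e] at this
  rwa [relIndex_top_right, Nat.eq_of_mul_eq_mul_left Nat.card_pos this])

theorem inv_E {l : LL} (h : l * l = 1) : ∃ c, c * l * c⁻¹ ∈ E := by
  obtain ⟨g, -, k⟩ := (syl (p2_range sL) (n := 405) (by rw [card_range sL_inj, TG.card, card_LL]; rfl) (by decide)).syl_cj_le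
    (le_top (a := zpowers l)) (e2_iff.2 ⟨1, by rw [pow_one, pow_two, h]⟩).zpowers
  obtain ⟨a, e⟩ := k (conj_mem_cj.2 (mem_zpowers l))
  obtain ⟨c, -, m⟩ := cls a (sL_inj (by rw [map_mul, e, conj_mul, h, map_one]; simp))
  exact ⟨c * g, show _ ∈ LE by rw [e] at m; simpa only [mul_assoc, mul_inv_rev] using m⟩

theorem card_uH : ♯uH.range = 128 := by
  have e := card_eq_card_quotient_mul_card_subgroup uH.ker
  have i : Iv (TG.e XU 64) := .mk' (by decide +kernel) (by decide +kernel)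
  rw [Nat.card_congr (QuotientGroup.quotientKerEquivRange uH).toEquiv, TG.card,
    show uH.ker = zpowers _ from Subgroup.ext fun a => ⟨fun m => i.mem_zpowers.2 (uH_ker a m), fun m => by
      rcases i.mem_zpowers.1 m with rfl | rfl
      exacts [one_mem _, u64]⟩, i.card] at e
  change 256 = _ at e
  omega

/-- elementary abelian subgroups of order 16 are not centralised by elements of order 4 -/
theorem e16 {B : Subgroup HH} {h : HH} (q : ∀ b ∈ B, b * b = 1) (c : h ∈ 𝐂 B) (n : 16 ≤ ♯B) (e : E2 h) : h * h = 1 := by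
  obtain ⟨g, -, k⟩ := (syl (p2_range uH) (n := 405) (by rw [card_uH, card_HH]) (by decide)).syl_cj_le
    (le_top (a := B ⊔ zpowers h)) ((piGrp_of_forall_elt fun b m => e2_iff.2 ⟨1, by rw [pow_one, pow_two, q b m]⟩).sup e.zpowers
      (.inr (zpowers_le.2 (cent_le_norm _ c))))
  obtain ⟨a, r⟩ := k (conj_mem_cj.2 (mem_sup_right (mem_zpowers h)))
  rcases cnt a with s | s
  · have : uH (a * a) = 1 := by rcases s with s | s <;> rw [s] <;> simp [u64]
    rw [map_mul, r, conj_mul] at this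
    simpa using this
  refine absurd (n.trans ((card_cj g B).ge.trans (le_len (l := List.map (fun n => uH (TG.e XU n)) _) fun x m => ?_)))
    (not_le.2 (by rwa [List.length_map]))
  obtain ⟨b, rfl⟩ := k (cj_mono g le_sup_left m)
  obtain ⟨y, i, w⟩ := mem_cj_iff.1 m
  obtain ⟨j, l, v⟩ := lt_ok b
  have v' : uH (TG.e XU j) = uH b := by rcases v with v | v <;> rw [v] <;> simp [u64]
  refine List.mem_map.2 ⟨j, List.mem_filter.2 ⟨l, decide_eq_true ⟨uH_ker _ ?_, uH_ker _ ?_⟩⟩, v'⟩
  · rw [map_mul, v', ← w, conj_mul, q y i]; simp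
  · rw [map_mul, map_inv, map_mul, map_mul, v', ← w, r, conj_mul, conj_mul, mem_cent.1 c y i, mul_inv_cancel]

end CF.Gu.F0
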