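import Cfsg.Agent.Gu.I0

/-! Case I1: the tower of order `2⁹` embeds when the odd core is trivial. -/

set_option autoImplicit false
set_option linter.unusedSectionVars false
set_option maxRecDepth 100000
set_option synthInstance.maxSize 4000

namespace CF.Gu.Ix
open Subgroup Cfsg CF.BG CF.Sig CF.GW CF.Ab2

variable {G : Type*} [Group G] [Finite G] {ι : LL →* G} {t g x : G} {h : HH}

theorem qe : qL (TG.e XQ 1) = zc ∧ qL (TG.e XQ 2) = bt ∧ qL (TG.e XQ 4) = b2 ∧ qL (TG.e XQ 8) = va ∧ qL (TG.e XQ 16) = vb := by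
  decide +kernel

theorem cQ' (c : ∀ q, h * iL (qL q) = iL (qL q) * h) : h = 1 ∨ h = iL zc :=
  cQ h (qe.2.1 ▸ c _) (qe.2.2.2.1 ▸ c _) (qe.2.2.1 ▸ c _) (qe.2.2.2.2 ▸ c _)

theorem inv1 (H : Hz ι t) (b : I1 ι t) :
    ∃ x, x * x = 1 ∧ (∀ q, x * ι (qL q) * x⁻¹ = ι (qL (dl q))) ∧ x * t * x⁻¹ = t * ι zc := by
  obtain ⟨x, a, b⟩ := b
  have z : x * ι zc * x⁻¹ = ι zc := by
    have := a (TG.e XQ 1)
    rwa [(by decide +kernel : dl (TG.e XQ 1) = TG.e XQ 1), qe.1] at this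
  have zz : ι zc * ι zc = 1 := by rw [← map_mul, (by decide +kernel : zc * zc = 1), map_one]
  have z1 : t * ι zc ≠ t := fun q => (by decide +kernel : zc ≠ 1) (H.inj (by simpa using q))
  have m : x * x ∈ 𝐂₁ t := mem_cent1.2 (mul_inv_eq_iff_eq_mul.1 (by
    rw [show x * x * t * (x * x)⁻¹ = x * (x * t * x⁻¹) * x⁻¹ by group, b, ← conj_mul, b, z, mul_assoc, zz, mul_one]))
  obtain ⟨h, k⟩ := H.ac _ m
  have f : x * (x * x) * x⁻¹ = x * x := by group
  rcases cQ' fun q => H.toHy.ap k (by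
    rw [show ∀ a, x * x * a * (x * x)⁻¹ = x * (x * a * x⁻¹) * x⁻¹ from fun a => by group, a, a,
      (by decide +kernel : ∀ q, dl (dl q) = q)]) with rfl | rfl
  · exact ⟨x, (H.z1 _ m k).resolve_right fun q => z1 (by rw [← b, ← q, f]), a, b⟩
  · have := (H.z1 _ (mul_mem (H.toHy.mem zc) m) (by
      simpa only [← map_mul, (by decide +kernel : zc * zc = 1), map_one] using (ac_iL zc).mul k)).resolve_right fun q =>
        z1 (by rw [← b, ← q, ← conj_mul, z, f])
    refine ⟨t * x, ?_, fun q => ?_, ?_⟩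
    · rw [show t * x * (t * x) = t * (x * t * x⁻¹) * (x * x) by group, b, ← mul_assoc t, H.it.sq, one_mul, this]
    · rw [show ∀ a, t * x * a * (t * x)⁻¹ = t * (x * a * x⁻¹) * t⁻¹ from fun a => by group, a, ← H.tc, mul_inv_cancel_right]
    · rw [show ∀ a, t * x * a * (t * x)⁻¹ = t * (x * a * x⁻¹) * t⁻¹ from fun a => by group, b, ← H.tc, ← mul_assoc, mul_assoc _ t,
        mul_inv_cancel, mul_one, H.tc]

theorem tow (H : Hz ι t) (b : I1 ι t) : ∃ φ : TG X1 →* G, Em ι t φ := by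
  obtain ⟨x, xx, a, b⟩ := inv1 H b
  obtain ⟨τ, E⟩ := H.toHy.em
  have xi : x⁻¹ = x := inv_eq_of_mul_eq_one_right xx
  have r2 : ι rr * ι rr = 1 := by rw [← map_mul, (by decide +kernel : rr * rr = 1), map_one]
  have ri : (ι rr)⁻¹ = ι rr := inv_eq_of_mul_eq_one_right r2
  have cq : ∀ q, ι rr * ι (qL q) * (ι rr)⁻¹ = ι (qL (cr q)) := fun q => by
    rw [← map_inv, ← map_mul, ← map_mul, (by decide +kernel : ∀ q, rr * qL q * rr⁻¹ = qL (cr q))]
  generalize hg : x * ι rr * x⁻¹ * ι rr = g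
  have gq : ∀ q, g * ι (qL q) * g⁻¹ = ι (qL (dl (cr (dl (cr q))))) := fun q => by
    rw [← a, ← cq, ← a, ← cq, ← hg, xi]
    simp only [mul_inv_rev, xi, mul_assoc]
  have m : g ∈ 𝐂₁ t := hg ▸ mul_mem (mem_cent1.2 (by
    have : t = x * (t * ι zc) * x⁻¹ := by rw [← b, xi]; simp only [← mul_assoc, xx, one_mul]; rw [mul_assoc, xx, mul_one]
    rw [this, conj_mul, conj_mul, ← H.tc, ← mul_assoc (ι rr), mul_assoc (ι zc), ← H.tc, ← mul_assoc (ι zc), ← map_mul, ← map_mul,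
      (by decide +kernel : rr * zc = zc * rr)])) (H.toHy.mem rr)
  obtain ⟨h, k⟩ := H.ac g m
  have hh : h * h = 1 := by
    have := cQ' (h := (uH (TG.e XU 170))⁻¹ * h) fun q => by
      rw [mul_assoc, H.toHy.ap k (gq q), ← mul_assoc, ← mul_assoc, (by decide +kernel : ∀ q,
        (uH (TG.e XU 170))⁻¹ * iL (qL (dl (cr (dl (cr q))))) = iL (qL q) * (uH (TG.e XU 170))⁻¹)]
    rcases this with q | q <;> rw [inv_mul_eq_iff_eq_mul.1 q] <;> decide +kernel
  have xg : x * g * x⁻¹ = g⁻¹ := by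
    rw [← hg]; simp only [mul_inv_rev, xi, ri, ← mul_assoc, xx, one_mul]
  have gg : g * g = 1 := (H.z1 _ (mul_mem m m) (hh ▸ k.mul k)).resolve_right fun q =>
    (by decide +kernel : zc ≠ 1) (H.inj (by
      have : t * ι zc = t⁻¹ := by rw [← b, ← q, ← conj_mul, xg, mul_inv_rev]
      rw [inv_eq_of_mul_eq_one_right H.it.sq] at this
      simpa using this))
  have gi : g⁻¹ = g := inv_eq_of_mul_eq_one_right gg
  have xr : x * ι rr * x⁻¹ = ι rr * g := by
    rw [← gi, ← hg]; simp only [mul_inv_rev, xi, ri, ← mul_assoc, r2, one_mul]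
  have gr : g * ι rr * g⁻¹ = ι rr := by
    rw [mul_inv_eq_iff_eq_mul, ← xr, ← hg, mul_assoc, r2, mul_one]
  have lq : ∀ {f : TG XQ → TG XQ} {y : G}, (∀ q, y * ι (qL q) * y⁻¹ = ι (qL (f q))) → ∀ q,
      y * τ (iQT q) * y⁻¹ = τ (iQT (f q)) := fun k q => by rw [E.q, E.q, k]
  obtain ⟨σ, s1, s2, s3⟩ := ext2 jT (TG.inc_inj _ _) (by rw [TG.card, TG.card]; rfl) (TG.e XV 128) (by decide +kernel) τ g
    ([1, 2, 4, 8, 16].map (fun a => (iQT (TG.e XQ a), iQT (dl (cr (dl (cr (TG.e XQ a))))))) ++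
      [(TG.e XT 32, TG.e XT 32), (TG.e XT 64, TG.e XT 64)]) (TG.top (by decide +kernel)) (by decide +kernel)
    (List.forall_mem_append.2 ⟨List.forall_mem_map.2 fun a _ => lq gq _, by
      simp only [List.forall_mem_cons, E.er, E.et, gr, mul_inv_eq_iff_eq_mul.2 (mem_cent1.1 m), List.not_mem_nil, false_imp_iff,
        implies_true, and_self]⟩) 1 (by decide +kernel) (by rw [gg, map_one])
  replace s3 := s3 E.inj fun p q => (by decide +kernel : ∀ p : TG XT, ¬ ∀ a ∈ [4, 16],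
    p * iQT (TG.e XQ a) * p⁻¹ = iQT (dl (cr (dl (cr (TG.e XQ a)))))) p fun a _ => E.inj (by
      rw [map_mul, map_mul, map_inv, q, lq gq])
  have v : ∀ {c : ℕ}, TG.e XV c = jT (TG.e XT c) → σ (TG.e XV c) = τ (TG.e XT c) := fun q => by rw [q, s1]
  have vr := (v (c := 32) (by decide +kernel)).trans E.er
  have vt := (v (c := 64) (by decide +kernel)).trans E.et
  obtain ⟨φ, f1, f2, f3⟩ := ext2 jV (TG.inc_inj _ _) (by rw [TG.card, TG.card]; rfl) (e 256) (by decide +kernel) σ x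
    ([1, 2, 4, 8, 16].map (fun a => (jT (iQT (TG.e XQ a)), jT (iQT (dl (TG.e XQ a))))) ++
      [(TG.e XV 32, TG.e XV 32 * TG.e XV 128), (TG.e XV 64, TG.e XV 64 * jT (TG.e XT 1)), (TG.e XV 128, TG.e XV 128)])
    (TG.top (by decide +kernel)) (by decide +kernel)
    (List.forall_mem_append.2 ⟨List.forall_mem_map.2 fun c _ => by simp only [s1, lq a], by
      simp only [List.forall_mem_cons, map_mul, s1, s2, vr, vt, E.ez, xr, b, xg, gi, List.not_mem_nil, false_imp_iff,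
        implies_true, and_self]⟩) 1 (by decide +kernel) (by rw [xx, map_one])
  replace f3 := f3 s3 fun p q => (by decide +kernel : zc ≠ 1) (H.inj (by
    have := congrArg σ ((by decide +kernel : ∀ p : TG XV, p * TG.e XV 64 * p⁻¹ = TG.e XV 64) p)
    rw [map_mul, map_mul, map_inv, q, vt, b] at this
    simpa using this))
  have u : ∀ {c : ℕ}, e c = jV (jT (TG.e XT c)) → φ (e c) = τ (TG.e XT c) := fun q => by rw [q, f1, s1]
  exact ⟨φ, f3, (u (by decide +kernel)).trans E.ez, (u (by decide +kernel)).trans E.eb, (u (by decide +kernel)).trans E.e2,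
    (u (by decide +kernel)).trans E.ea, (u (by decide +kernel)).trans E.ev, (u (by decide +kernel)).trans E.er,
    (u (by decide +kernel)).trans E.et⟩

end CF.Gu.Ix
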