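import Cfsg.Agent.Gu.I0

/-! Case I1: Sylow subgroups and transfer over the tower of order `2⁹`. -/

set_option autoImplicit false
set_option linter.unusedSectionVars false
set_option maxRecDepth 100000

namespace CF.Gu.Ix
open Subgroup Cfsg CF.BG CF.Sig CF.GW CF.Ab2
open scoped commutatorElement

variable {G : Type*} [Group G] [Finite G] {ι : LL →* G} {t g n u w a p : G} {R S P : Subgroup G} {φ ψ : TG X1 →* G}

theorem ch_eq (f : TG X1 →* ℤˣ) : f = ch (f (e 256)) (f (e 64)) (f (e 32)) (f (e 16)) := TG.hext fun L m => by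
  have k := ch_e (f (e 256)) (f (e 64)) (f (e 32)) (f (e 16))
  rcases tops L m with ⟨p, -, q⟩ | q | q | q | q
  · change f (e L.top) = ch _ _ _ _ (e L.top)
    simp only [q, map_mul, map_inv, mul_inv_cancel_comm, mul_inv_cancel]
  all_goals rw [q]
  exacts [k.1.symm, k.2.1.symm, k.2.2.1.symm, k.2.2.2.symm]

/-- `R` has index at most two in `S` -/
def Ix2 (R S : Subgroup G) : Prop := R ≤ S ∧ ∀ a ∈ S, ∀ b ∈ S, a ∉ R → b ∉ R → a * b ∈ R

theorem ix2_of (l : R ≤ S) (c : ♯S ≤ 2 * ♯R) : Ix2 R S := ⟨l, fun a ha b hb na nb => by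
  have k := card_mul_relIndex l
  have p : 0 < ♯R := Nat.card_pos
  have p' : 0 < ♯S := Nat.card_pos
  have i : R.relIndex S = 2 := by
    have : R.relIndex S ≠ 1 := fun q => na (relIndex_eq_one.1 q ha)
    have : R.relIndex S ≠ 0 := fun q => by rw [q] at k; omega
    have : R.relIndex S ≤ 2 := by nlinarith
    omega
  exact (mul_mem_iff_of_index_two (H := R.subgroupOf S) i (a := ⟨a, ha⟩) (b := ⟨b, hb⟩)).2 (iff_of_false na nb)⟩

theorem Ix2.sq (i : Ix2 R S) (m : a ∈ S) : a * a ∈ R := (em (a ∈ R)).elim (fun k => mul_mem k k) fun k => i.2 a m a m k k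

theorem Ix2.cj (i : Ix2 R S) (m : a ∈ S) (k : p ∈ R) : a * p * a⁻¹ ∈ R := (em (a ∈ R)).elim
  (fun q => mul_mem (mul_mem q k) (inv_mem q)) fun q => i.2 _ (mul_mem m (i.1 k)) _ (inv_mem m)
    (fun r => q ((mul_mem_cancel_right k).1 r)) fun r => q (inv_mem_iff.1 r)

theorem zz (j : Function.Injective φ) {y : TG X1} (c : ∀ p, φ y * φ p = φ p * φ y) (n : φ y ≠ 1) : y = e 1 :=
  have k : ∀ p, y * p = p * y := fun p => j (by rw [map_mul, map_mul, c])
  (cen y (k _) (k _) (k _)).resolve_left fun q => n (by rw [q, map_one])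

theorem z_ne (j : Function.Injective φ) : φ (e 1) ≠ 1 := fun q =>
  (by decide +kernel : e 1 ≠ 1) (j (q.trans (map_one φ).symm))

theorem Ix2.zc (i : Ix2 φ.range S) (j : Function.Injective φ) (m : a ∈ S) : a * φ (e 1) * a⁻¹ = φ (e 1) := by
  obtain ⟨y, hy⟩ := i.cj m ⟨e 1, rfl⟩
  rw [← hy, zz j (y := y) (fun p => ?_) (by rw [hy]; simpa using z_ne j)]
  obtain ⟨q, hq⟩ := i.cj (inv_mem m) ⟨p, rfl⟩
  rw [hy, show φ p = a * φ q * a⁻¹ by rw [hq]; group, conj_mul, conj_mul, ← map_mul, ← map_mul, cz]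

theorem Ix2.ze (i : Ix2 φ.range S) (j : Function.Injective φ) (i' : Ix2 ψ.range S) (j' : Function.Injective ψ) :
    ψ (e 1) = φ (e 1) := by
  obtain ⟨y, hy⟩ := i'.sq (i.1 ⟨e 12, rfl⟩)
  rw [← map_mul, (by decide +kernel : e 12 * e 12 = e 1)] at hy
  rw [← hy, zz j' (y := y) (fun p => by rw [hy]; exact (mul_inv_eq_iff_eq_mul.1 (i.zc j (i'.1 ⟨p, rfl⟩))).symm) (hy ▸ z_ne j)]

theorem uc (m : p ∈ ψ.range) : ψ (e 64) * p * (ψ (e 64))⁻¹ = p ∨ ψ (e 64) * p * (ψ (e 64))⁻¹ = p * ψ (e 1) := by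
  obtain ⟨y, rfl⟩ := m
  simp only [← map_inv, ← map_mul]
  exact (ct y).imp (congrArg ψ) (congrArg ψ)

theorem inner (i : Ix2 φ.range S) (j : Function.Injective φ) (i' : Ix2 ψ.range S) (j' : Function.Injective ψ)
    (n : ψ (e 64) ≠ φ (e 1)) (m : ψ (e 64) ∈ φ.range) : ∃ k ∈ [64, 65, 66, 67], ψ (e 64) = φ (e k) := by
  obtain ⟨y, hy⟩ := m
  have s : ∀ a, φ (a * a) ∈ ψ.range := fun a => map_mul φ a a ▸ i'.sq (i.1 ⟨a, rfl⟩)
  rcases small y (j (by rw [map_mul, hy, ← map_mul, (by decide +kernel : e 64 * e 64 = 1), map_one, map_one])) (fun k _ =>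
    (uc (s (e k))).imp (fun q => j (by rw [map_mul, map_mul, map_inv, hy, q])) fun q => j (by
      rw [map_mul, map_mul, map_inv, hy, q, i.ze j i' j', ← map_mul])) with q | q | ⟨k, -, q⟩ | ⟨k, m, q⟩
  · exact ((by decide +kernel : e 64 ≠ 1) (j' (by rw [← hy, q, map_one, map_one]))).elim
  · exact (n (by rw [← hy, q])).elim
  · obtain ⟨a, ha⟩ := s (e 48)
    obtain ⟨b, hb⟩ := s (e k)
    have := congrArg (ch 1 (-1) 1 1) (j' (show ψ (e 64) = ψ (a * b * a⁻¹ * b⁻¹) by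
      rw [← hy, q, map_mul, map_mul, map_mul, map_inv, map_inv, ← ha, ← hb]; simp only [map_mul, map_inv]))
    simp only [map_mul, map_inv, mul_inv_cancel_comm, mul_inv_cancel, (ch_e _ _ _ _).2.1] at this
    exact absurd this (by decide)
  · exact ⟨k, m, by rw [← hy, q]⟩

/-- the conjugate embedding -/
noncomputable abbrev cφ (g : G) (φ : TG X1 →* G) : TG X1 →* G := (MulAut.conj g).toMonoidHom.comp φ

/-- a `2`-subgroup over the tower, of index at most two -/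
structure Cx (ι : LL →* G) (t : G) (φ : TG X1 →* G) (S : Subgroup G) : Prop where
  hy : Hy ι t
  em : Em ι t φ
  p2 : P2 S
  le : φ.range ≤ S
  cd : ♯S ≤ 1024

theorem cdT (E : Em ι t φ) : ♯(φ.comp jV).range = 256 :=
  (card_range (φ := φ.comp jV) (E.inj.comp (TG.inc_inj _ _))).trans TG.card

theorem mxT (H : Hy ι t) (E : Em ι t φ) (p : P2 P) (l : φ.range ≤ P) (m : g ∈ P) (c : g * t * g⁻¹ = t) : g ∈ φ.range := by
  obtain ⟨a, rfl⟩ := H.mx (T := (φ.comp jV).range) p (by rintro _ ⟨a, rfl⟩; exact l ⟨_, rfl⟩) (by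
    rintro _ ⟨a, rfl⟩
    rw [mem_cent1, ← E.et, MonoidHom.comp_apply, ← map_mul, ← map_mul, cV])
    (.inl (cdT E)) m (mem_cent1.2 (mul_inv_eq_iff_eq_mul.1 c))
  exact ⟨_, rfl⟩

namespace Cx
variable (C : Cx ι t φ S)
include C

theorem ci (g : G) : Function.Injective (cφ g φ) := (MulAut.conj g).injective.comp C.em.inj

theorem ix (l : ∀ p, g * φ p * g⁻¹ ∈ S) : Ix2 (cφ g φ).range S :=
  ix2_of (by rintro _ ⟨p, rfl⟩; exact l p) (by rw [card_range (C.ci g), TG.card]; exact C.cd)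

theorem ix0 : Ix2 φ.range S := ix2_of C.le (by rw [card_range C.em.inj, TG.card]; exact C.cd)

theorem inn (H : ∀ g, g * t * g⁻¹ ≠ ι zc) (l : ∀ p, g * φ p * g⁻¹ ∈ S) (m : g * t * g⁻¹ ∈ φ.range) :
    ∃ k ∈ [64, 65, 66, 67], g * t * g⁻¹ = φ (e k) := by
  have q : cφ g φ (e 64) = g * t * g⁻¹ := by rw [← C.em.et]; rfl
  rw [← q] at m ⊢
  exact inner C.ix0 C.em.inj (C.ix l) (C.ci g) (by rw [q, C.em.ez]; exact H g) m

theorem out (H : ∀ g, g * t * g⁻¹ ≠ ι zc) (m : n ∈ S) (k : n ∉ φ.range) : ∃ k ∈ [66, 67], n * t * n⁻¹ = φ (e k) := by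
  obtain ⟨k, q, r⟩ := C.inn H (g := n) (fun p => C.le (C.ix0.cj m ⟨p, rfl⟩)) (C.ix0.cj m ⟨_, C.em.et⟩)
  simp only [List.mem_cons, List.not_mem_nil, or_false] at q ⊢
  rcases q with rfl | rfl | q
  · exact (k (mxT C.hy C.em C.p2 C.le m (r.trans C.em.et))).elim
  · refine (k ((mul_mem_cancel_left (show φ (e 256) ∈ φ.range from ⟨_, rfl⟩)).1 (mxT C.hy C.em C.p2 C.le
      (mul_mem (C.le ⟨_, rfl⟩) m) ?_))).elim
    rw [show ∀ a, a * n * t * (a * n)⁻¹ = a * (n * t * n⁻¹) * a⁻¹ from fun a => by group, r, ← map_inv, ← map_mul, ← map_mul,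
      (by decide +kernel : e 256 * e 65 * (e 256)⁻¹ = e 64), C.em.et]
  · exact ⟨k, q, r⟩

theorem clA (H : ∀ g, g * t * g⁻¹ ≠ ι zc) (l : ∀ p, g * φ p * g⁻¹ ∈ S) : ∃ k ∈ [64, 65, 66, 67], g * t * g⁻¹ = φ (e k) := by
  refine C.inn H l (by_contra fun m => ?_)
  have q : cφ g φ (e 64) = g * t * g⁻¹ := by rw [← C.em.et]; rfl
  have i := C.ix l
  have z := C.ix0.ze C.em.inj i (C.ci g)
  obtain ⟨k, hk, r⟩ := C.out H (C.em.et ▸ l (e 64)) m
  rw [← q] at r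
  have f : ∀ y, y * e 64 = e 64 * y → φ y ∈ (cφ g φ).range → y * e k = e k * y ∨ y * e 1 * e k = e k * (y * e 1) := fun y c m => by
    have c' : φ y * t = t * φ y := by rw [← C.em.et, ← map_mul, ← map_mul, c]
    refine (uc m).imp (fun s => C.em.inj ?_) fun s => C.em.inj ?_
    · rw [map_mul, map_mul, ← r, ← s, conj_mul, conj_mul, c']
    · rw [map_mul _ _ (e k), map_mul _ (e k), map_mul, ← z, ← r, ← s, conj_mul, conj_mul, c']
  have nt : φ (e 64) ∉ (cφ g φ).range := fun m => by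
    have := uc m
    rw [C.em.et, r, z, ← C.em.et, ← map_mul] at this
    exact (by decide +kernel : ∀ k ∈ [66, 67], ¬ (e k = e 64 ∨ e k = e 64 * e 1)) k hk (this.imp (C.em.inj ·) (C.em.inj ·))
  have d := (by decide +kernel : ∀ k ∈ [66, 67], ∀ y ∈ [e 16, e 16 * e 64], y * e 64 = e 64 * y ∧
    ¬ (y * e k = e k * y ∨ y * e 1 * e k = e k * (y * e 1))) k hk
  simp only [List.forall_mem_cons] at d
  by_cases s : φ (e 16) ∈ (cφ g φ).range
  · exact d.1.2 (f _ d.1.1 s)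
  · exact d.2.1.2 (f _ d.2.1.1 (map_mul φ _ _ ▸ i.2 _ (C.le ⟨_, rfl⟩) _ (C.le ⟨_, rfl⟩) s nt))

theorem fin (H : ∀ g, g * t * g⁻¹ ≠ ι zc) (o : ¬ 2 ∣ S.index) (d : ℤˣ) (c : ⁅S, S⁆ ≤ (ch 1 (-1) 1 d).ker.map φ) :
    t ∉ commutator G := fun m => by
  have tc : ∀ a : TG XV, φ (jV a) * t = t * φ (jV a) := fun a => by rw [← C.em.et, ← map_mul, ← map_mul, cV]
  have l : (φ.comp jV).range ≤ φ.range := by rintro _ ⟨a, rfl⟩; exact ⟨_, rfl⟩
  have i := ix2_of l (by rw [cdT C.em, card_range C.em.inj, TG.card]; rfl)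
  obtain ⟨y, a, b⟩ := tr_sub (T := (φ.comp jV).range) (P := φ.range) o c C.hy.it.sq (p2_range φ).isPGroup
    ⟨TG.e XV 64, ((congrArg φ (by decide +kernel)).trans C.em.et)⟩ (by rintro _ ⟨a, rfl⟩; exact mem_cent1.2 (tc a)) l
    (fun x k => mem_norm_of_cj_le (by rintro _ ⟨y, m, rfl⟩; exact i.cj k m)) (by
      rintro _ ⟨x, rfl⟩
      rw [← C.em.et, ← map_inv φ x, ← map_mul, ← map_mul, ← inv_inv x]
      rcases ct2 x⁻¹ with q | q <;> rw [inv_inv, ← inv_inv x, inv_inv x⁻¹, q]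
      · simp [one_mem]
      · rw [map_mul, inv_mul_cancel_left, (by decide +kernel : e 1 = jV (TG.e XV 2) * jV (TG.e XV 16) * (jV (TG.e XV 2))⁻¹ *
          (jV (TG.e XV 16))⁻¹), map_mul, map_mul, map_mul, map_inv, map_inv]
        exact commutator_mem_commutator ⟨_, rfl⟩ ⟨_, rfl⟩) (C.le ⟨_, C.em.et⟩) (fun g l => by
      obtain ⟨k, q, r⟩ := C.clA H (g := g⁻¹) fun p => l ⟨_, ⟨p, rfl⟩, rfl⟩
      rw [inv_inv] at r
      exact ⟨(e 64)⁻¹ * e k, (by decide +kernel : ∀ d, ∀ k ∈ [64, 65, 66, 67], ch 1 (-1) 1 d ((e 64)⁻¹ * e k) = 1) d k q,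
        by rw [map_mul, map_inv, C.em.et, r]⟩) m
  rw [C.em.inj (b.trans C.em.et.symm)] at a
  exact absurd ((ch_e _ _ _ _).2.1.symm.trans a) (by decide)

end Cx

theorem cm_le {χ : TG X1 →* ℤˣ} {α : TG X1 →* TG X1} (hα : ∀ p, φ (α p) = w * φ p * w⁻¹) (hχ : ∀ p, χ (α p) = χ p)
    (hS : ∀ a ∈ S, a ∈ φ.range ∨ a * w⁻¹ ∈ φ.range) : ⁅S, S⁆ ≤ χ.ker.map φ := commutator_le.2 fun a ha b hb => by
  have k : ∀ a ∈ S, ∃ p, a = φ p ∨ a = φ p * w := fun a m => (hS a m).elim (fun ⟨p, q⟩ => ⟨p, .inl q.symm⟩)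
    fun ⟨p, q⟩ => ⟨p, .inr (by rw [q]; group)⟩
  obtain ⟨p, rfl | rfl⟩ := k a ha <;> obtain ⟨q, rfl | rfl⟩ := k b hb <;>
    [refine ⟨p * q * p⁻¹ * q⁻¹, ?_, ?_⟩; refine ⟨p * q * α p⁻¹ * q⁻¹, ?_, ?_⟩; refine ⟨p * α q * p⁻¹ * q⁻¹, ?_, ?_⟩;
      refine ⟨p * (α q * α p⁻¹) * q⁻¹, ?_, ?_⟩] <;> first
    | (change χ _ = 1; simp only [map_mul, map_inv, hχ, mul_inv_cancel_comm, mul_inv_cancel, mul_inv_cancel_comm_assoc,
        ← mul_assoc])
    | simp only [map_mul, map_inv, hα, commutatorElement_def, mul_inv_rev, inv_inv, mul_assoc, inv_mul_cancel_left, mul_inv_cancel_left]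

theorem chi (H : Hy ι t) (E : Em ι t φ) (nz : ¬ IsConj t (ι z0)) {α : TG X1 →* TG X1} (hα : ∀ p, φ (α p) = w * φ p * w⁻¹)
    (s : w * w ∈ φ.range) {k : ℕ} (hk : k ∈ [66, 67]) (r : w * t * w⁻¹ = φ (e k)) :
    ∃ d, ∀ p, ch 1 (-1) 1 d (α p) = ch 1 (-1) 1 d p := by
  obtain ⟨s, hs⟩ := s
  have aa : ∀ p, α (α p) = s * p * s⁻¹ := fun p => E.inj (by rw [hα, hα, map_mul, map_mul, map_inv, hs]; group)
  have ai : Function.Injective α := fun a b q => by simpa [aa] using congrArg α q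
  have at' : α (e 64) = e k := E.inj (by rw [hα, E.et, r])
  have nc : α (e 256) * e k ≠ e k * α (e 256) := by
    rw [← at', ← map_mul, ← map_mul, ai.ne_iff]
    decide +kernel
  generalize hd : ch 1 (-1) 1 1 (α (e 256)) = d
  have h1 : ch 1 (-1) 1 d (α (e 256)) = 1 := hd ▸ sgn2 _ k hk nc
  have ff : ∀ p, ch 1 (-1) 1 d (α (α p)) = ch 1 (-1) 1 d p := fun p => by
    simp only [aa, map_mul, map_inv, mul_inv_cancel_comm]
  have q := DFunLike.congr_fun (ch_eq ((ch 1 (-1) 1 d).comp α))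
  simp only [MonoidHom.comp_apply, h1, at', (ch33 _ _ _ _).2 k hk] at q
  generalize ch 1 (-1) 1 d (α (e 32)) = c at q
  generalize ch 1 (-1) 1 d (α (e 16)) = d' at q
  have c0 : e 33 * e k = e k * e 33 ∧ e 33 * e 64 = e 64 * e 33 ∧ e 33 * e 33 = 1 := by
    revert hk
    generalize k = k
    revert k
    decide +kernel
  rcases fus (α (e 33)) (by rw [← map_mul, c0.2.2, map_one]) (by
    have := congrArg α c0.1
    rw [map_mul, map_mul, ← at', aa] at this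
    rcases ct2 s with a | a <;> rw [a] at this
    exacts [.inl this, .inr this]) k hk (by rw [← at', ← map_mul, ← map_mul, c0.2.1]) d c d'
    ((q _).trans (ch33 _ _ _ _).1) ((q _).symm.trans ((ff _).trans (ch33 _ _ _ _).1)) with rfl | ⟨u, f⟩
  · obtain rfl := sgn _ k hk nc d d' h1 ((q _).symm.trans ((ff _).trans (ch_e _ _ _ _).1))
    exact ⟨d, q⟩
  · have m : ∀ {a b c : ℕ}, e a = e b * e c → φ (e a) = φ (e b) * φ (e c) := fun q => by rw [q, map_mul]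
    have cj : ∀ {a b c : ℕ}, e a * e b * (e a)⁻¹ = e c → IsConj (φ (e b)) (φ (e c)) := fun q =>
      φ.map_isConj (isConj_iff.2 ⟨_, q⟩)
    have cl : ∀ {a b : LL}, p5 * a * p5⁻¹ = b → IsConj (ι a * t) (ι b * t) := fun q => isConj_iff.2 ⟨ι p5, by
      rw [← q, map_mul, map_mul, map_inv, ← conj_mul, H.tc, mul_inv_cancel_right]⟩
    have z : φ (e 33) = ι z0 := by
      rw [m (b := 32) (c := 1) (by decide +kernel), E.er, E.ez, relL.1, map_mul]
    have t6 : IsConj t (φ (e 66)) := by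
      simp only [List.mem_cons, List.not_mem_nil, or_false] at hk
      rcases hk with rfl | rfl
      exacts [isConj_iff.2 ⟨w, r⟩, (isConj_iff.2 ⟨w, r⟩).trans (cj (a := 16) (by decide +kernel))]
    have t5 : IsConj t (φ (e 65)) := E.et ▸ cj (a := 256) (by decide +kernel)
    rw [m (b := 2) (c := 64) (by decide +kernel), E.eb, E.et] at t6
    rw [m (b := 1) (c := 64) (by decide +kernel), E.ez, E.et] at t5
    have b : IsConj (φ (α (e 33))) (ι z0) := (isConj_iff.2 ⟨w, by rw [hα, z]⟩ : IsConj (ι z0) _).symm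
    rcases f with f | f <;> refine (nz (.trans ?_ ((φ.map_isConj (isConj_iff.2 ⟨u, f⟩)).trans b))).elim
    · rw [m (b := 32) (c := 64) (by decide +kernel), E.er, E.et]
      exact t6.trans (cl (by decide +kernel)).symm
    · rw [m (b := 33) (c := 64) (by decide +kernel), z, E.et]
      exact t5.trans (cl (by decide +kernel))

theorem main (H : Hy ι t) (E : Em ι t φ) (nz : ∀ g, g * t * g⁻¹ ≠ ι zc) (nz' : ¬ IsConj t (ι z0)) : t ∉ commutator G := by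
  have c : ♯φ.range = 512 := (card_range E.inj).trans TG.card
  rcases two_step (p2_range φ) with o | ⟨w, n, m, s⟩
  · exact Cx.fin ⟨H, E, p2_range φ, le_rfl, by omega⟩ nz o 1 (cm_le (w := 1) (α := .id _) (by simp) (fun _ => rfl) fun _ => .inl)
  obtain ⟨p, q, r⟩ := two_sup (p2_range φ) n m s
  have C : Cx ι t φ (φ.range ⊔ zpowers w) := ⟨H, E, p, le_sup_left, by omega⟩
  have mw : w ∈ φ.range ⊔ zpowers w := mem_sup_right (mem_zpowers w)
  obtain ⟨k, hk, a⟩ := C.out nz mw m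
  choose α hα using fun p => conj_mem_of_norm n (⟨p, rfl⟩ : φ p ∈ φ.range)
  obtain ⟨d, hd⟩ := chi (α := MonoidHom.mk' α fun a b => E.inj (by simp only [map_mul, hα, conj_mul])) H E nz' hα s hk a
  refine C.fin nz ((two_step p).resolve_right ?_) d (cm_le hα hd r)
  rintro ⟨v, n', m', s'⟩
  obtain ⟨j, hj, b⟩ := C.clA nz (g := v) fun p => conj_mem_of_norm n' (C.le ⟨p, rfl⟩)
  obtain ⟨y, my, f⟩ : ∃ y ∈ φ.range ⊔ zpowers w, y * t * y⁻¹ = φ (e j) := by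
    obtain ⟨x, f | f⟩ := (by decide +kernel : ∀ k ∈ [66, 67], ∀ j ∈ [64, 65, 66, 67], ∃ x ∈ [0, 16, 256],
      e x * e 64 * (e x)⁻¹ = e j ∨ e x * e k * (e x)⁻¹ = e j) k hk j hj |>.imp fun _ => And.right
    · exact ⟨φ (e x), C.le ⟨_, rfl⟩, by rw [← f, map_mul, map_mul, map_inv, E.et]⟩
    · exact ⟨φ (e x) * w, mul_mem (C.le ⟨_, rfl⟩) mw, by rw [← f, map_mul, map_mul, map_inv, ← a]; group⟩
  exact m' ((mul_mem_cancel_left (inv_mem my)).1 (C.le (mxT H E (two_sup p n' m' s').1 (le_sup_left.trans le_sup_left)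
    (mul_mem (mem_sup_left (inv_mem my)) (mem_sup_right (mem_zpowers v))) (by
      rw [show y⁻¹ * v * t * (y⁻¹ * v)⁻¹ = y⁻¹ * (v * t * v⁻¹) * y by group, b, ← f]; group))))

end CF.Gu.Ix
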