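import Cfsg.Agent.Gu.A2
import Cfsg.Agent.Gu.I1
import Cfsg.Agent.Gu.I2

/-! Case I1: the involution `t` is not in the derived group. -/

set_option autoImplicit false

namespace CF.Gu
open Subgroup Cfsg CF.BG CF.Sig CF.GW CF.Ab2

universe u
variable {G : Type u} [Group G] [Finite G] {ι : LL →* G} {t : G}

theorem Hy.caseI1 (H : Hy ι t) (b : I1 ι t) : t ∉ commutator G := by
  obtain ⟨Γ, _, _, f, ι', t', L⟩ := H.lf
  obtain ⟨φ', E'⟩ := Ix.tow L.hz (L.i1 b)
  obtain ⟨φ, E, -⟩ := L.lift E'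
  exact Ix.main H E H.nz (H.nz' (isConj_iff.2 ⟨p5, by decide +kernel⟩))

end CF.Gu
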