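import Cfsg.Agent.Gu.A1
import Cfsg.Agent.Gu.E2

/-! Standard subgroups isomorphic to `U₄(2)`: the automorphisms of `Q`. -/

set_option autoImplicit false
set_option maxRecDepth 100000
set_option synthInstance.maxSize 4000
set_option synthInstance.maxHeartbeats 400000

namespace CF.Gu.J0
open Subgroup

/-- `Q` inside the model -/
noncomputable def jq : TG XQ →* HH := iL.comp qL

/-- elements of `Q` by their codes -/
noncomputable abbrev qc (a : ℕ) : TG XQ := TG.e XQ a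

theorem jq_inj : Function.Injective jq := iL_inj.comp qL_inj

/-- `h` normalises `Q` -/
abbrev NQ (h : HH) : Prop := ∀ q, ∃ q', h * jq q = jq q' * h

theorem qc_v : qL (qc 1) = zc ∧ qL (qc 2) = bt ∧ qL (qc 4) = b2 ∧ qL (qc 8) = va ∧ qL (qc 16) = vb := by decide +kernel
theorem n1 : ∀ a ∈ [1, iL th, iL th * iL th], ∀ b ∈ [1, iL om, iL om * iL om], NQ (a * b) := by decide +kernel
theorem n2 : ∀ a ∈ [1, iL vb], ∀ b ∈ [1, iL va], ∀ c ∈ [1, s0], NQ (a * b * c) := by decide +kernel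
theorem f1 : ∀ q : TG XQ, q * q = 1 → q ≠ 1 → q ≠ qc 1 → ∃ a ∈ [1, iL th, iL th * iL th], ∃ b ∈ [1, iL om, iL om * iL om],
    a * b * jq (qc 1) = jq (qc 1) * (a * b) ∧ ∃ p ∈ [qc 2, qc 3], a * b * jq q = jq p * (a * b) := by decide +kernel
theorem fd : ∀ p ∈ [qc 2, qc 3], ∀ a b : TG XQ, a * a = 1 → b * b = 1 → a * p = p * a → b * p = p * b → a * b ≠ b * a →
    a ∈ [qc 4, qc 5, qc 6, qc 7] ∨ b ∈ [qc 4, qc 5, qc 6, qc 7] := by decide +kernel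
theorem f2 : ∀ p ∈ [qc 2, qc 3], ∀ q ∈ [qc 4, qc 5, qc 6, qc 7], ∃ a ∈ [1, iL vb], ∃ b ∈ [1, iL va], ∃ c ∈ [1, s0],
    a * b * c * jq (qc 1) = jq (qc 1) * (a * b * c) ∧ a * b * c * jq p = jq (qc 2) * (a * b * c) ∧
      a * b * c * jq q = jq (qc 4) * (a * b * c) := by decide +kernel
theorem f3 : ∀ p : TG XQ, p * p = 1 → p * qc 2 = qc 2 * p → p * qc 4 ≠ qc 4 * p → ∀ q : TG XQ, q * q = 1 → q * qc 4 = qc 4 * q →
    q * qc 2 ≠ qc 2 * q → p * q = q * p → ∃ a ∈ [1, iL bt], ∃ b ∈ [1, iL b2], ∃ c ∈ [1, iL rr],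
      ∀ r ∈ [(qc 16, q), (qc 8, p), (qc 4, qc 4), (qc 2, qc 2), (qc 1, qc 1)], a * b * c * jq r.1 = jq r.2 * (a * b * c) := by
  decide +kernel
theorem rq : qc 2 * qc 2 = 1 ∧ qc 2 ≠ 1 ∧ qc 2 ≠ qc 1 ∧ qc 4 * qc 4 = 1 ∧ qc 8 * qc 8 = 1 ∧ qc 16 * qc 16 = 1 ∧ qc 4 * qc 2 = qc 2 * qc 4 ∧
    qc 8 * qc 2 = qc 2 * qc 8 ∧ qc 4 * qc 8 ≠ qc 8 * qc 4 ∧ qc 16 * qc 4 = qc 4 * qc 16 ∧ qc 16 * qc 2 ≠ qc 2 * qc 16 ∧
    qc 8 * qc 16 = qc 16 * qc 8 ∧ dl (qc 1) = qc 1 ∧ dl (qc 2) = qc 2 * qc 1 ∧ dl (qc 4) = qc 8 ∧ qc 2 * qc 1 = qc 3 ∧ qc 3 * qc 1 = qc 2 ∧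
    ∀ q, dl (dl q) = q := by decide +kernel
/-- the action on the line `F / z` decides whether an element is inner -/
theorem fi : ∀ h : HH, h * iL zc = iL zc * h → h * iL bt = iL bt * h ∨ h * iL bt = iL (bt * zc) * h →
    (inn h ↔ h * iL b2 = iL b2 * h ∨ h * iL b2 = iL (b2 * zc) * h) := by decide +kernel
theorem rd : (∀ p ∈ [(qc 1, qc 1), (qc 2, qc 2), (qc 4, qc 7)], rr * qL (dl p.1) = qL (dl p.2) * rr) ∧ jq (qc 7) ≠ iL b2 ∧
    jq (qc 7) ≠ iL (b2 * zc) ∧ zc ≠ 1 ∧ zc * zc = 1 ∧ ∀ q, qL q ≠ rr := by decide +kernel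

/-- elements of `S × ⟨t⟩` by their codes -/
noncomputable abbrev te (a : ℕ) : TG XT := TG.e XT a

/-- the codes of `A` -/
abbrev inA (a : TG XT) : Prop := a.v % 32 < 8

theorem a1 : ∀ a : TG XT, inA a → a * a = 1 ∧ ∀ b : TG XT, inA b → inA (a * b) ∧ a * b = b * a := by decide +kernel
theorem a2 : ∀ a : TG XT, a * te 1 = te 1 * a ∧ (a.v < 32 → ∃ q, a = iQT q) ∧ (∀ b, (a * b * a⁻¹ * b⁻¹).v < 32) ∧
    (∀ q, (a * iQT q * a⁻¹).v < 32) ∧ ((∀ b ∈ [te 8, te 16, te 32], a * b * a⁻¹ = b ∨ a * b * a⁻¹ = b * te 1) → inA a) ∧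
    (inA a → (a.v < 32 ∨ (a * (te 32)⁻¹).v < 32 ∨ ∃ s, a = iST s * te 64) ∧
      (a.v < 32 → ∀ b, b * a * b⁻¹ = a ∨ b * a * b⁻¹ = a * te 1)) := by decide +kernel
theorem a3 : (∀ L ∈ XT.W, te L.top = te 64 ∨ te L.top = te 32 ∨ ∃ q, te L.top = iQT q) ∧ (∀ q, (iQT q).v < 32) ∧
    te 8 * te 4 * (te 8)⁻¹ * (te 4)⁻¹ = te 1 ∧ te 32 * te 8 * (te 32)⁻¹ * (te 8)⁻¹ = te 2 ∧ te 32 * te 16 * (te 32)⁻¹ * (te 16)⁻¹ = te 4 ∧
    inA (te 2) ∧ inA (te 4) ∧ inA (te 32) ∧ rr = z0 * (z0 * z1 * z2 * z3) := by decide +kernel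

/-- the subgroup `A` -/
noncomputable def XA : Subgroup (TG XT) where
  carrier := {a | inA a}
  one_mem' := (by decide +kernel : inA 1)
  mul_mem' p q := ((a1 _ p).2 _ q).1
  inv_mem' p := (inv_eq_of_mul_eq_one_right (a1 _ p).1).symm ▸ p

theorem card_XA : Nat.card XA = 32 := (TG.card_sub XA inA fun _ => Iff.rfl).trans (by decide +kernel)

theorem ex_al {Γ : Type*} [Group Γ] {j a : TG XQ →* Γ} (i : Function.Injective j) (i' : Function.Injective a) (h : ∀ q, ∃ q', a q = j q') :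
    ∃ α : TG XQ →* TG XQ, Function.Injective α ∧ ∀ q, a q = j (α q) := by
  choose α e using h
  exact ⟨MonoidHom.mk' α fun p q => i (by rw [← e, map_mul, map_mul, e, e]), fun p q k => i' (by rw [e, e]; exact congrArg j k), e⟩

/-- `h` induces `α` on `Q` -/
def Iq (α : TG XQ → TG XQ) (h : HH) : Prop := ∀ q, h * jq q = jq (α q) * h

variable {α : TG XQ →* TG XQ} {h : HH}

theorem red (i : Function.Injective α) (n : NQ h) : ∃ β : TG XQ →* TG XQ, Function.Injective β ∧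
    (∀ {p q}, h * jq (α p) = jq q * h → β p = q) ∧ ∀ δ : TG XQ → TG XQ, (∃ k, Iq (β ∘ δ) k) → ∃ k, Iq (α ∘ δ) k := by
  obtain ⟨β, j, e⟩ := ex_al (a := (MulAut.conj h).toMonoidHom.comp (jq.comp α)) jq_inj ((MulAut.conj h).injective.comp (jq_inj.comp i))
    fun q => (n (α q)).imp fun _ => mul_inv_eq_iff_eq_mul.2
  refine ⟨β, j, fun r => jq_inj ((e _).symm.trans (mul_inv_eq_iff_eq_mul.2 r)), fun δ ⟨k, a⟩ => ⟨h⁻¹ * k, fun q => ?_⟩⟩
  rw [mul_assoc, a, Function.comp, ← e]; simp [mul_assoc]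

theorem aq (i : Function.Injective α) (e : α (qc 1) = qc 1) : (∃ h, Iq α h) ∨ ∃ h, Iq (α ∘ dl) h := by
  obtain ⟨r1, r2, r3, r4, r5, r6, r7, r8, r9, r10, r11, r12, d1, d2, d3, d4, d5, d⟩ := rq
  have c : ∀ {α : TG XQ →* TG XQ}, Function.Injective α → ∀ a b, α a * α b = α b * α a ↔ a * b = b * a := fun i a b => by
    rw [← map_mul, ← map_mul, i.eq_iff]
  have s : ∀ (α : TG XQ →* TG XQ) {a}, a * a = 1 → α a * α a = 1 := fun α a e => by rw [← map_mul, e, map_one]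
  have s3 : ∀ {α : TG XQ →* TG XQ}, Function.Injective α → α (qc 1) = qc 1 → α (qc 2) = qc 2 → α (qc 4) = qc 4 → ∃ h, Iq α h :=
    fun {α} i e1 e2 e4 => by
      obtain ⟨a, -, b, -, c, -, k⟩ := f3 _ (s α r5) (by simpa only [e2] using (c i _ _).2 r8)
        (by simpa only [e4] using mt (c i (qc 8) (qc 4)).1 r9.symm) _ (s α r6) (by simpa only [e4] using (c i _ _).2 r10)
        (by simpa only [e2] using mt (c i _ _).1 r11) ((c i _ _).2 r12)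
      simp only [List.forall_mem_cons] at k
      have := TG.top (l := [qc 16, qc 8, qc 4, qc 2, qc 1]) (by decide +kernel)
        (M := ((MulAut.conj (a * b * c)).toMonoidHom.comp jq).eqLocus (jq.comp α)) (by
          simp only [List.forall_mem_cons]
          exact ⟨mul_inv_eq_iff_eq_mul.2 k.1, mul_inv_eq_iff_eq_mul.2 k.2.1, mul_inv_eq_iff_eq_mul.2 (k.2.2.1.trans (by simp [e4])),
            mul_inv_eq_iff_eq_mul.2 (k.2.2.2.1.trans (by simp [e2])), mul_inv_eq_iff_eq_mul.2 (k.2.2.2.2.1.trans (by simp [e1])), by simp⟩)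
      exact ⟨_, fun q => mul_inv_eq_iff_eq_mul.1 (this.ge (mem_top q))⟩
  have s2 : ∀ {α : TG XQ →* TG XQ}, Function.Injective α → α (qc 1) = qc 1 → α (qc 2) ∈ [qc 2, qc 3] →
      α (qc 4) ∈ [qc 4, qc 5, qc 6, qc 7] → ∃ h, Iq α h := fun {α} i e1 e2 e4 => by
    obtain ⟨a, p, b, q, c, r, k1, k2, k4⟩ := f2 _ e2 _ e4
    obtain ⟨β, j, u, v⟩ := red i (n2 a p b q c r)
    exact v id (s3 j (u (e1.symm ▸ k1)) (u k2) (u k4))
  obtain ⟨a, p, b, q, k1, r, m, k2⟩ := f1 _ (s α r1) (fun z => r2 (i (z.trans (map_one α).symm))) fun z => r3 (i (z.trans e.symm))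
  obtain ⟨β, j, u, v⟩ := red i (n1 a p b q)
  have e1 : β (qc 1) = qc 1 := u (by rw [e]; exact k1)
  have e2 := u k2
  rcases fd r m _ _ (s β r4) (s β r5) (e2 ▸ (c j _ _).2 r7) (e2 ▸ (c j _ _).2 r8) (mt (c j _ _).1 r9) with k | k
  · exact .inl (v id (s2 j e1 (e2 ▸ m) k))
  · refine .inr (v dl (s2 (α := β.comp dl) (j.comp (Function.Involutive.injective d)) ?_ ?_ ?_)) <;> rw [MonoidHom.comp_apply]
    · rw [d1, e1]
    · rw [d2, map_mul, e1, e2]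
      simp only [List.mem_cons, List.not_mem_nil, or_false] at m ⊢
      rcases m with rfl | rfl
      exacts [.inr d4, .inl d5]
    · rwa [d3]

end CF.Gu.J0
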