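import Cfsg.Agent.Gu.A2
import Cfsg.Agent.Gu.E2

/-! Standard subgroups isomorphic to `U₄(2)`: the normaliser of `A = ⟨t⟩ × E`. -/

set_option autoImplicit false
set_option linter.unusedSectionVars false
set_option maxRecDepth 100000
set_option synthInstance.maxSize 4000

namespace CF.Gu
open Subgroup Cfsg CF.BG CF.Sig CF.GW CF.Ab2

variable {G : Type*} [Group G] [Finite G] {ι : LL →* G} {t g n : G} {e : LL} {P : Subgroup G}

namespace O0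

/-- the five elements `z_k` of `E` -/
noncomputable def ZL : List LL := [z0, z1, z2, z3, zc]
/-- the ten elements `b_ij` of `E` -/
noncomputable def BL : List LL :=
  [z0 * z1, z0 * z2, z0 * z3, z0 * zc, z1 * z2, z1 * z3, z1 * zc, z2 * z3, z2 * zc, z3 * zc]
/-- the elements of `E` -/
noncomputable def EL : List LL := 1 :: (ZL ++ BL)
/-- ten elements of `M` -/
noncomputable def ML : List LL :=
  [1, p5, p5 * p5, (p5 * p5)⁻¹, p5⁻¹, th⁻¹, p5 * th⁻¹, p5 * p5 * th⁻¹, (p5 * p5)⁻¹ * th⁻¹, p5⁻¹ * th⁻¹]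

theorem el : e ∈ EL ↔ e = 1 ∨ e ∈ ZL ∨ e ∈ BL := by rw [EL, List.mem_cons, List.mem_append]

theorem mem_EE : e ∈ EE ↔ e ∈ EL := by
  let K : Subgroup LL :=
    { carrier := {e | e ∈ EL}
      one_mem' := List.mem_cons_self
      mul_mem' := fun {a b} p q => (by decide +kernel : ∀ a ∈ EL, ∀ b ∈ EL, a * b ∈ EL) a p b q
      inv_mem' := fun {a} p => (by decide +kernel : ∀ a ∈ EL, a⁻¹ ∈ EL) a p }
  refine ⟨fun m => (closure_le K).2 ?_ m, fun m => ?_⟩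
  · rintro _ (rfl | rfl | rfl | rfl) <;> change _ ∈ EL <;> simp [EL, ZL]
  have a : z0 ∈ EE ∧ z1 ∈ EE ∧ z2 ∈ EE ∧ z3 ∈ EE := by refine ⟨?_, ?_, ?_, ?_⟩ <;> exact subset_closure (by simp)
  have z : ∀ e ∈ ZL, e ∈ EE := by
    simp only [ZL, List.forall_mem_cons, a, true_and]
    exact ⟨(by decide +kernel : z0 * z1 * z2 * z3 = zc) ▸ mul_mem (mul_mem (mul_mem a.1 a.2.1) a.2.2.1) a.2.2.2, by simp⟩
  rcases el.1 m with rfl | m | m
  exacts [one_mem _, z e m, by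
    obtain ⟨a, p, b, q, rfl⟩ := (by decide +kernel : ∀ e ∈ BL, ∃ a ∈ ZL, ∃ b ∈ ZL, e = a * b) e m
    exact mul_mem (z a p) (z b q)]

theorem nM {m : LL} (k : m ∈ ML) : m ∈ 𝐍 EE := mem_norm_of_cj_le (by
  rintro _ ⟨e, p, rfl⟩
  exact mem_EE.2 ((by decide +kernel : ∀ m ∈ ML, ∀ e ∈ EL, m * e * m⁻¹ ∈ EL) m k e (mem_EE.1 p)))

theorem cZ : ∀ e ∈ ZL, ∃ m ∈ ML, m * zc * m⁻¹ = e := by decide +kernel
theorem cB : ∀ e ∈ BL, ∃ m ∈ ML, m * bt * m⁻¹ = e := by decide +kernel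

theorem mE (m : e ∈ EE) : ι e ∈ AA ι t := mem_sup_left (mem_map_of_mem _ m)
theorem mt : t ∈ AA ι t := mem_sup_right (mem_zpowers t)

theorem mem_AA (H : Hy ι t) : g ∈ AA ι t ↔ ∃ e ∈ EE, g = ι e ∨ g = ι e * t := by
  refine ⟨fun m => ?_, by rintro ⟨e, m, rfl | rfl⟩; exacts [mE m, mul_mem (mE m) mt]⟩
  obtain ⟨_, ⟨e, p, rfl⟩, b, q, rfl⟩ := (mem_sup_norm' (norm_of_cent (zp_le_cent.2 (by
    rintro _ ⟨l, -, rfl⟩; exact H.mem l)))).1 m
  rcases H.it.mem_zpowers.1 q with rfl | rfl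
  exacts [⟨e, p, .inl (mul_one _)⟩, ⟨e, p, .inr rfl⟩]

theorem nA (H : Hy ι t) {m : LL} (k : m ∈ 𝐍 EE) : ι m ∈ 𝐍 (AA ι t) :=
  zpowers_le.1 (norm_sup (by rw [← MonoidHom.map_zpowers]; exact map_norm (zpowers_le.2 k) ι)
    (norm_of_cent (by rw [cent_zpowers]; exact zpowers_le.2 (H.mem m))))

/-- the conjugates of `t` under `N(A)` -/
def Om (ι : LL →* G) (t g : G) : Prop := ∃ n ∈ 𝐍 (AA ι t), n * t * n⁻¹ = g

theorem Om.cj (o : Om ι t g) (m : n ∈ 𝐍 (AA ι t)) : Om ι t (n * g * n⁻¹) := by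
  obtain ⟨k, p, rfl⟩ := o
  exact ⟨n * k, mul_mem m p, by group⟩

theorem om_cj (m : n ∈ 𝐍 (AA ι t)) : Om ι t (n * g * n⁻¹) ↔ Om ι t g :=
  ⟨fun o => by simpa [mul_assoc] using o.cj (inv_mem m), fun o => o.cj m⟩

theorem om_cj' (m : n ∈ 𝐍 (AA ι t)) : Om ι t (n⁻¹ * g * n) ↔ Om ι t g := by simpa using om_cj (g := g) (inv_mem m)

section
variable (H : Hy ι t)
include H

theorem om_M {m : LL} (k : m ∈ ML) :
    (Om ι t (ι (m * e * m⁻¹)) ↔ Om ι t (ι e)) ∧ (Om ι t (ι (m * e * m⁻¹) * t) ↔ Om ι t (ι e * t)) := by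
  rw [← om_cj (g := ι e) (nA H (nM k)), ← om_cj (g := ι e * t) (nA H (nM k)), map_mul, map_mul, map_inv, mul_assoc _ _ t,
    ← map_inv, H.tc, map_inv]
  simp only [mul_assoc, and_self]

theorem n1 : ¬ Om ι t (ι 1) := fun ⟨n, _, q⟩ => (H.it.conj n).ne_one (q.trans (map_one ι))

theorem omZ (m : e ∈ ZL) : ¬ Om ι t (ι e) ∧ (Om ι t (ι e * t) ↔ Om ι t (ι zc * t)) := by
  obtain ⟨k, p, rfl⟩ := cZ e m
  exact ⟨fun o => ((om_M H p).1.1 o).elim fun n q => H.nz n q.2, (om_M H p).2⟩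

theorem omB (m : e ∈ BL) : (Om ι t (ι e) ↔ Om ι t (ι bt)) ∧ (Om ι t (ι e * t) ↔ Om ι t (ι bt * t)) := by
  obtain ⟨k, p, rfl⟩ := cB e m
  exact om_M H p

theorem cls (m : g ∈ AA ι t) : ∃ e, (e = 1 ∨ e ∈ ZL ∨ e ∈ BL) ∧ (g = ι e ∧ g * t = ι e * t ∨ g = ι e * t ∧ g * t = ι e) := by
  obtain ⟨e, p, rfl | rfl⟩ := (mem_AA H).1 m
  exacts [⟨e, el.1 (mem_EE.1 p), .inl ⟨rfl, rfl⟩⟩, ⟨e, el.1 (mem_EE.1 p), .inr ⟨rfl, by rw [mul_assoc, H.it.sq, mul_one]⟩⟩]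

theorem nb : ¬ Om ι t (ι bt) := by
  intro o
  obtain ⟨n, m, q⟩ := id o
  have k : ∀ e ∈ EL, n⁻¹ * ι e * n ∈ AA ι t ∧ n⁻¹ * ι e * n * t = n⁻¹ * ι (e * bt) * n := fun e p =>
    ⟨conj_mem_of_norm' m (mE (mem_EE.2 p)), by rw [map_mul, ← q]; group⟩
  have ot : Om ι t (ι 1 * t) := ⟨1, one_mem _, by simp⟩
  have tb : Om ι t (ι bt * t) := by
    obtain ⟨a, b⟩ := k b2 (by decide +kernel)
    have c := (om_cj' m).2 ((omB H (e := b2) (by decide +kernel)).1.2 o)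
    have d := (om_cj' m).2 ((omB H (e := b2 * bt) (by decide +kernel)).1.2 o)
    rw [← b] at d
    obtain ⟨e, p, r | r⟩ := cls H a <;> rw [r.2] at d <;> rw [r.1] at c <;> rcases p with rfl | p | p
    exacts [(n1 H c).elim, ((omZ H p).1 c).elim, (omB H p).2.1 d, (n1 H d).elim, ((omZ H p).1 d).elim, (omB H p).2.1 c]
  by_cases tz : Om ι t (ι zc * t)
  · obtain ⟨a, b⟩ := k z0 (by decide +kernel)
    have c := mt' (om_cj' m).1 (omZ H (e := z0) (by decide +kernel)).1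
    have d := mt' (om_cj' m).1 (omZ H (e := z0 * bt) (by decide +kernel)).1
    rw [← b] at d
    obtain ⟨e, p, r | r⟩ := cls H a <;> rw [r.2] at d <;> rw [r.1] at c <;> rcases p with rfl | p | p
    exacts [d ot, d ((omZ H p).2.2 tz), c ((omB H p).1.2 o), c ot, c ((omZ H p).2.2 tz), d ((omB H p).1.2 o)]
  · obtain ⟨a, b⟩ := k (zc * bt) (by decide +kernel)
    have c := (om_cj' m).2 ((omB H (e := zc * bt) (by decide +kernel)).1.2 o)
    have d := mt' (om_cj' m).1 (omZ H (e := zc * bt * bt) (by decide +kernel)).1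
    obtain ⟨e, p, r | r⟩ := cls H a <;> rw [r.1] at c <;> rcases p with rfl | p | p
    · exact n1 H c
    · exact (omZ H p).1 c
    · exact d (b ▸ r.2 ▸ (omB H p).2.2 tb)
    · have := b.symm.trans (r.2.trans (map_one ι))
      rw [mul_assoc, inv_mul_eq_one, eq_comm, mul_eq_right, map_eq_one_iff _ H.inj] at this
      exact (by decide +kernel : zc * bt * bt ≠ 1) this
    · exact tz ((omZ H p).2.1 c)
    · exact d (b ▸ r.2 ▸ (omB H p).1.2 o)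
where mt' {a b : Prop} (f : a → b) (k : ¬ b) : ¬ a := fun x => k (f x)

theorem Om.tE (o : Om ι t g) : ∃ e ∈ EE, g = ι e * t := by
  obtain ⟨e, p, rfl | q⟩ := (mem_AA H).1 (show g ∈ _ from o.elim fun n q => q.2 ▸ conj_mem_of_norm q.1 mt)
  · rcases el.1 (mem_EE.1 p) with rfl | p | p
    exacts [(n1 H o).elim, ((omZ H p).1 o).elim, (nb H ((omB H p).1.1 o)).elim]
  · exact ⟨e, p, q⟩

end

end O0
open O0

theorem Hy.orb (H : Hy ι t) (m : n ∈ 𝐍 (AA ι t)) : (∃ e ∈ EE, n * t * n⁻¹ = t * ι e) ∧ n ∈ 𝐍 (EE.map ι) := by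
  have o : Om ι t (n * t * n⁻¹) := ⟨n, m, rfl⟩
  obtain ⟨e, p, q⟩ := o.tE H
  refine ⟨⟨e, p, q.trans (H.tc e)⟩, mem_norm_of_cj_le ?_⟩
  refine map_le_iff_le_comap.2 (map_le_iff_le_comap.2 (show EE ≤ ((EE.map ι).comap (MulAut.conj n).toMonoidHom).comap ι from ?_))
  have k : ∀ l, Om ι t (ι l * t) → l ∈ ((EE.map ι).comap (MulAut.conj n).toMonoidHom).comap ι := fun l c => by
    obtain ⟨e', p', q'⟩ := (c.cj m).tE H
    refine ⟨e' * e⁻¹, mul_mem p' (inv_mem p), ?_⟩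
    change _ = n * ι l * n⁻¹
    rw [map_mul, map_inv, eq_mul_inv_of_mul_eq q'.symm, eq_mul_inv_of_mul_eq q.symm]
    group
  have z : (∀ l ∈ ZL, l ∈ ((EE.map ι).comap (MulAut.conj n).toMonoidHom).comap ι) →
      EE ≤ ((EE.map ι).comap (MulAut.conj n).toMonoidHom).comap ι := fun z => (closure_le _).2 (by
    rintro _ (rfl | rfl | rfl | rfl) <;> exact z _ (by simp [ZL]))
  rw [q] at o
  rcases el.1 (mem_EE.1 p) with rfl | r | r
  · intro l c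
    obtain ⟨h, a⟩ := H.ac n (mem_cent1.2 (by rw [← mul_inv_eq_iff_eq_mul, q, map_one, one_mul]))
    obtain ⟨e, p, q | q⟩ := (mem_AA H).1 (conj_mem_of_norm m (mE c))
    · exact ⟨e, p, q.symm⟩
    · exact (H.tn (e⁻¹ * aut h l) (by rw [map_mul, ← a, q, map_inv, inv_mul_cancel_left])).elim
  · exact z fun l c => k l ((omZ H c).2.2 ((omZ H r).2.1 o))
  · refine z fun l c => ?_
    obtain ⟨a, p, b, q, rfl⟩ := (by decide +kernel : ∀ e ∈ ZL, ∃ a ∈ BL, ∃ b ∈ BL, e = a * b) l c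
    exact mul_mem (k a ((omB H p).2.2 ((omB H r).2.1 o))) (k b ((omB H q).2.2 ((omB H r).2.1 o)))

/-- `A` inside `S × ⟨t⟩` -/
theorem Em.aa {τ : TG XT →* G} (e : Em ι t τ) : AA ι t = (EE.comap tL).map τ := by
  refine le_antisymm (sup_le ?_ (zpowers_le.2 ⟨_, mem_EE.2 (by decide +kernel : tL (TG.e XT 64) ∈ EL), e.et⟩)) ?_
  · rintro _ ⟨l, m, rfl⟩
    obtain ⟨s, rfl⟩ := (by decide +kernel : ∀ l ∈ EL, ∃ s, sL s = l) l (mem_EE.1 m)
    exact ⟨iST s, by rwa [SetLike.mem_coe, mem_comap, tL_iST], e.s s⟩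
  · rintro _ ⟨a, m, rfl⟩
    rcases e.or a with q | q <;> rw [q]
    exacts [mE m, mul_mem (mE m) O0.mt]

theorem Em.cA {τ : TG XT →* G} (e : Em ι t τ) : ♯(AA ι t) = 32 := by
  rw [e.aa, card_map e.inj, TG.card_sub _ (fun a => tL a ∈ EL) fun a => mem_EE]
  decide +kernel

/-- `A` is the only elementary abelian subgroup of order 32 of `S × ⟨t⟩` -/
theorem Em.uA {τ : TG XT →* G} (e : Em ι t τ) (l : P ≤ τ.range) (c : ♯P = 32) (q : ∀ a ∈ P, a * a = 1) : P = AA ι t := by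
  refine eq_of_card_le (fun g m => ?_) (by rw [e.cA, c])
  obtain ⟨a, rfl⟩ := l m
  rw [e.aa]
  refine mem_map_of_mem _ (mem_EE.2 (((by decide +kernel : ∀ a : TG XT, a * a = 1 → tL a ∈ EL ∨
    TG.cnt (fun x => x * x = 1 ∧ x * a = a * x) < 32) a (e.inj (by rw [map_mul, q _ m, map_one]))).resolve_right ?_))
  rw [← TG.card_img e.inj (fun g => g ∈ τ.range ∧ g * g = 1 ∧ g * τ a = τ a * g) _ (fun _ => And.left) fun x => by
    simp only [← map_mul, e.inj.eq_iff, MonoidHom.mem_range, exists_apply_eq_apply, true_and, map_eq_one_iff _ e.inj], not_lt, ← c]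
  refine Nat.card_le_card_of_injective (fun g => ⟨g.1, l g.2, q _ g.2, ?_⟩) fun a b k => Subtype.ext (Subtype.mk.inj k)
  have := q _ (mul_mem g.2 m)
  rw [← inv_eq_iff_mul_eq_one, mul_inv_rev, inv_eq_of_mul_eq_one_left (q _ m), inv_eq_of_mul_eq_one_left (q _ g.2)] at this
  exact this.symm

end CF.Gu
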