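import Cfsg.Agent.Gu.J0
import Cfsg.Agent.Gu.O

/-! Standard subgroups isomorphic to `U₄(2)`: the case `I0`. -/

set_option autoImplicit false
set_option linter.unusedSectionVars false

namespace CF.Gu
open Subgroup Cfsg CF.BG CF.Sig CF.GW CF.Ab2 CF.Gu.J0

variable {G : Type*} [Group G] [Finite G] {ι : LL →* G} {t g x y : G} {h : HH} {τ : TG XT →* G} {α : TG XQ →* TG XQ}

theorem J0.der_le {N T : Subgroup G} (n : T ⊔ zpowers x ≤ 𝐍 N) (c : ∀ y ∈ T ⊔ zpowers x, y ∈ T ∨ y * x⁻¹ ∈ T)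
    (a : ∀ a ∈ T, ∀ b ∈ T, a * b * a⁻¹ * b⁻¹ ∈ N) (b : ∀ a ∈ T, x * a * x⁻¹ * a⁻¹ ∈ N) : ⁅T ⊔ zpowers x, T ⊔ zpowers x⁆ ≤ N := by
  have k : ∀ p, (∀ a ∈ T, p * a * p⁻¹ * a⁻¹ ∈ N) → p * x * p⁻¹ * x⁻¹ ∈ N → ∀ y ∈ T ⊔ zpowers x, p * y * p⁻¹ * y⁻¹ ∈ N :=
    fun p u v y m => (c y m).elim (u y) fun q => by
      convert mul_mem (u _ q) (conj_mem_of_norm (n (mem_sup_left q)) v) using 1; group
  have k' : ∀ p ∈ T, ∀ y ∈ T ⊔ zpowers x, p * y * p⁻¹ * y⁻¹ ∈ N := fun p m => k p (a p m) (by simpa [mul_assoc] using inv_mem (b p m))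
  refine commutator_le.2 fun p m y o => (c p m).elim (fun q => k' p q y o) fun q => ?_
  convert mul_mem (conj_mem_of_norm (n (mem_sup_left q)) (k x b (by simp [one_mem]) y o)) (k' _ q y o) using 1
  rw [commutatorElement_def]; group

/-- the case `I0` -/
structure J0.Z0 (ι : LL →* G) (t x : G) (τ : TG XT →* G) (α : TG XQ →* TG XQ) (h : HH) : Prop where
  hy : Hy ι t
  em : Em ι t τ
  ng : ¬ Gam ι t
  xn : x ∈ 𝐍 τ.range
  xx : x * x ∈ τ.range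
  xt : x * t * x⁻¹ = t * ι zc
  xz : x * ι zc * x⁻¹ = ι zc
  al : ∀ q, x * ι (qL q) * x⁻¹ = ι (qL (α q))
  iq : Iq α h
  out : ¬ inn h

namespace J0.Z0
variable (Z : Z0 ι t x τ α h)
include Z

theorem zn : ι zc ≠ 1 := fun e => rd.2.2.2.1 (Z.hy.inj (e.trans (map_one ι).symm))
theorem ct (m : y ∈ τ.range) : y * t * y⁻¹ = t := by
  obtain ⟨a, rfl⟩ := m
  exact mul_inv_eq_iff_eq_mul.2 (mem_cent1.1 (Z.em.ac Z.hy a).1)
theorem xm : x ∉ τ.range := fun m => Z.zn (by simpa [Z.xt] using Z.ct m)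
theorem cs (m : y ∈ τ.range ⊔ zpowers x) : y ∈ τ.range ∨ ∃ a, y = τ a * x :=
  ((two_sup (p2_range τ) Z.xn Z.xm Z.xx).2.2 y m).imp_right fun ⟨a, e⟩ => ⟨a, by rw [e]; group⟩
theorem zT (m : y ∈ τ.range ⊔ zpowers x) : y * ι zc * y⁻¹ = ι zc := by
  have k : ∀ a, τ a * ι zc * (τ a)⁻¹ = ι zc := fun a => by rw [← Z.em.ez, ← map_mul, (a2 a).1, map_mul, mul_inv_cancel_right]
  rcases Z.cs m with ⟨a, rfl⟩ | ⟨a, rfl⟩
  · exact k a
  · rw [show τ a * x * ι zc * (τ a * x)⁻¹ = τ a * (x * ι zc * x⁻¹) * (τ a)⁻¹ by group, Z.xz, k]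
theorem tT (m : y ∈ τ.range ⊔ zpowers x) : y ∈ τ.range ∨ y * t * y⁻¹ = t * ι zc := (Z.cs m).imp_right fun ⟨a, e⟩ => by
  rw [← Z.ct ⟨a, rfl⟩, ← Z.zT (mem_sup_left ⟨a, rfl⟩), conj_mul, ← Z.xt, e]; nth_rw 1 [Z.ct ⟨a, rfl⟩]; group
theorem cT (m : y ∈ τ.range ⊔ zpowers x) (e : y * t * y⁻¹ = t) : y ∈ τ.range :=
  (Z.tT m).resolve_right fun q => Z.zn (by simpa [e] using q)
theorem tT' (m : y ∈ τ.range ⊔ zpowers x) : t * y * t⁻¹ = y ∨ t * y * t⁻¹ = y * ι zc := (Z.tT m).imp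
  (fun q => by rw [← mul_inv_eq_iff_eq_mul.1 (Z.ct q), mul_inv_cancel_right]) fun q => by
    rw [mul_inv_eq_iff_eq_mul.1 (Z.zT m), Z.hy.it.inv_eq, mul_assoc, mul_inv_eq_iff_eq_mul.1 q, ← mul_assoc, ← mul_assoc, Z.hy.it.sq, one_mul]
theorem nF (m : y ∈ τ.range ⊔ zpowers x) (k : ∀ f ∈ [bt, b2], y * ι f * y⁻¹ = ι f ∨ y * ι f * y⁻¹ = ι f * ι zc) : y ∈ τ.range := by
  refine (Z.cs m).resolve_right fun ⟨a, e⟩ => Z.out ?_
  have c : ∀ {q f l}, qL q = f → y * ι f * y⁻¹ = ι l → iL (tL a) * h * iL f = iL l * (iL (tL a) * h) := fun {q f l} r s => by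
    have := Z.hy.ap (Z.em.ac Z.hy a).2 (l := qL (α q)) (l' := l) (by rw [← Z.al, r, ← s, e]; group)
    rw [← r, mul_assoc, show h * iL (qL q) = _ from Z.iq q, ← mul_assoc, ← mul_assoc, ← this]; rfl
  simp only [List.forall_mem_cons, ← map_mul] at k
  exact (inn_mul.1 ((fi _ (c qc_v.1 (Z.zT m)) (k.1.imp (c qc_v.2.1) (c qc_v.2.1))).2 (k.2.1.imp (c qc_v.2.2.1) (c qc_v.2.2.1)))).1 (inn_iL _)
theorem mQ {a : TG XT} (k : a.v < 32) : τ a ∈ (τ.comp iQT).range := by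
  obtain ⟨q, rfl⟩ := (a2 a).2.1 k; exact ⟨q, rfl⟩
theorem hA : XA.map τ = AA ι t := Z.em.uA (map_le_range _ _) (by rw [card_map Z.em.inj, card_XA]) (by
  rintro _ ⟨a, m, rfl⟩; rw [← map_mul, (a1 a m).1, map_one])
theorem nA (l : cj g (XA.map τ) ≤ τ.range) : g ∈ 𝐍 (XA.map τ) := by
  refine cj_eq_self.1 ((Z.em.uA l (by rw [card_cj, card_map Z.em.inj, card_XA]) ?_).trans Z.hA.symm)
  rintro _ ⟨_, ⟨a, m, rfl⟩, rfl⟩
  rw [← map_mul, ← map_mul, (a1 a m).1, map_one, map_one]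
theorem xQ (m : y ∈ (τ.comp iQT).range) : x * y * x⁻¹ ∈ (τ.comp iQT).range := by
  obtain ⟨q, rfl⟩ := m
  exact ⟨α q, by simp only [MonoidHom.comp_apply, Z.em.q, Z.al]⟩
theorem nQ : τ.range ⊔ zpowers x ≤ 𝐍 (τ.comp iQT).range := by
  refine sup_le ?_ (zpowers_le.2 (mem_norm_of_cj_le fun _ ⟨_, m, e⟩ => e ▸ Z.xQ m))
  rintro _ ⟨a, rfl⟩
  refine mem_norm_of_cj_le ?_
  rintro _ ⟨_, ⟨q, rfl⟩, rfl⟩
  simpa using Z.mQ ((a2 a).2.2.2.1 q)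
theorem der : ⁅τ.range ⊔ zpowers x, τ.range ⊔ zpowers x⁆ ≤ (τ.comp iQT).range := by
  refine der_le Z.nQ (two_sup (p2_range τ) Z.xn Z.xm Z.xx).2.2 ?_ ?_
  · rintro _ ⟨a, rfl⟩ _ ⟨b, rfl⟩
    simpa using Z.mQ ((a2 a).2.2.1 b)
  rintro _ ⟨a, rfl⟩
  refine TG.ind (P := fun a => x * τ a * x⁻¹ * (τ a)⁻¹ ∈ (τ.comp iQT).range) (by simp [one_mem]) (fun L m a p => ?_) a
  suffices k : x * τ (te L.top) * x⁻¹ * (τ (te L.top))⁻¹ ∈ (τ.comp iQT).range by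
    convert mul_mem p (conj_mem_of_norm (Z.nQ (mem_sup_left ⟨a, rfl⟩)) k) using 1
    rw [map_mul]; group
  rcases a3.1 L m with e | e | ⟨q, e⟩ <;> rw [e]
  · rw [Z.em.et, Z.xt, ← Z.hy.tc, mul_inv_cancel_right, ← qc_v.1, ← Z.em.q]; exact ⟨_, rfl⟩
  · have n := Z.nA (cj_le_of_norm Z.xn (map_le_range _ _))
    obtain ⟨b, m, e⟩ := conj_mem_of_norm n (mem_map_of_mem τ (show te 32 ∈ XA from a3.2.2.2.2.2.2.2.1))
    rcases ((a2 b).2.2.2.2.2 m).1 with k | k | ⟨s, rfl⟩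
    · obtain ⟨q, k⟩ := conj_mem_of_norm' (Z.nQ (mem_sup_right (mem_zpowers x))) (e ▸ Z.mQ k)
      rw [MonoidHom.comp_apply, Z.em.q, Z.em.er] at k
      exact (rd.2.2.2.2.2 q (Z.hy.inj (by rw [k]; group))).elim
    · simpa [e] using Z.mQ k
    · have r : rr ∈ EE := by
        have z : ∀ a ∈ ({z0, z1, z2, z3} : Set LL), a ∈ EE := fun a m => subset_closure m
        rw [a3.2.2.2.2.2.2.2.2]
        exact mul_mem (z _ (by simp)) (mul_mem (mul_mem (mul_mem (z _ (by simp)) (z _ (by simp))) (z _ (by simp))) (z _ (by simp)))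
      obtain ⟨l, -, k⟩ := conj_mem_of_norm (Z.hy.orb (Z.hA ▸ n)).2 (mem_map_of_mem ι r)
      rw [map_mul, Z.em.s, Z.em.et, Z.em.er, ← k] at e
      exact (Z.hy.tn ((sL s)⁻¹ * l) (by rw [map_mul, ← e]; simp)).elim
  · exact mul_mem (Z.xQ ⟨q, rfl⟩) (inv_mem ⟨q, rfl⟩)
theorem gz (n : g ∈ 𝐍 (τ.range ⊔ zpowers x)) : g * ι zc * g⁻¹ = ι zc := by
  have c : ∀ w ∈ τ.range ⊔ zpowers x, g * ι zc * g⁻¹ * w * (g * ι zc * g⁻¹)⁻¹ = w := fun w m => by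
    have := mul_inv_eq_iff_eq_mul.1 (Z.zT (conj_mem_of_norm' n m))
    calc _ = g * (ι zc * (g⁻¹ * w * g)) * (ι zc)⁻¹ * g⁻¹ := by group
      _ = w := by rw [← this]; group
  have m := Z.nF (conj_mem_of_norm n (mem_sup_left ⟨_, Z.em.ez⟩)) (by
    simp only [List.forall_mem_cons]
    exact ⟨.inl (c _ (mem_sup_left ⟨_, Z.em.eb⟩)), .inl (c _ (mem_sup_left ⟨_, Z.em.e2⟩)), by simp⟩)
  rcases Z.hy.zw (mem_cent1.2 (mul_inv_eq_iff_eq_mul.1 (Z.ct m))) ((p2_range τ).elt m)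
    (fun q => mul_inv_eq_iff_eq_mul.1 (c _ (mem_sup_left ⟨_, Z.em.q q⟩))) with e | e | e | e
  · exact (Z.zn (by simpa using e)).elim
  · exact (Z.hy.nz g⁻¹ (by rw [← e]; group)).elim
  · exact e
  · exact (Z.hy.nz (g⁻¹ * x) (by rw [← Z.xt] at e; rw [← mul_left_inj g⁻¹, ← mul_right_inj g, ← mul_assoc g (ι zc), e]; group)).elim
theorem tr (n : g ∈ 𝐍 (τ.range ⊔ zpowers x)) {u w : G} (k : u * (g⁻¹ * w * g) * u⁻¹ = g⁻¹ * w * g ∨ u * (g⁻¹ * w * g) * u⁻¹ = g⁻¹ * w * g * ι zc) :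
    g * u * g⁻¹ * w * (g * u * g⁻¹)⁻¹ = w ∨ g * u * g⁻¹ * w * (g * u * g⁻¹)⁻¹ = w * ι zc := by
  rw [show g * u * g⁻¹ * w * (g * u * g⁻¹)⁻¹ = g * (u * (g⁻¹ * w * g) * u⁻¹) * g⁻¹ by group, ← Z.gz n]
  refine k.imp (fun e => ?_) fun e => ?_ <;> rw [e] <;> group
theorem gA (n : g ∈ 𝐍 (τ.range ⊔ zpowers x)) : g⁻¹ ∈ 𝐍 (XA.map τ) := by
  have c : ∀ a, g * t * g⁻¹ * τ a * (g * t * g⁻¹)⁻¹ = τ a ∨ g * t * g⁻¹ * τ a * (g * t * g⁻¹)⁻¹ = τ a * ι zc := fun a =>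
    Z.tr n (Z.tT' (conj_mem_of_norm' n (mem_sup_left ⟨a, rfl⟩)))
  obtain ⟨a, e⟩ := Z.nF (conj_mem_of_norm n (mem_sup_left ⟨_, Z.em.et⟩)) (by
    simp only [List.forall_mem_cons]
    rw [← Z.em.eb, ← Z.em.e2]
    exact ⟨c _, c _, by simp⟩)
  have m : inA a := (a2 a).2.2.2.2.1 fun b _ => by
    simpa only [← e, ← Z.em.ez, ← map_mul, ← map_inv, Z.em.inj.eq_iff] using c b
  refine Z.nA ?_
  rintro _ ⟨_, ⟨b, k, rfl⟩, rfl⟩
  refine Z.cT (conj_mem_of_norm (inv_mem n) (mem_sup_left ⟨b, rfl⟩)) ?_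
  have := congrArg τ ((a1 a m).2 b k).2
  rw [map_mul, map_mul, e] at this
  calc _ = g⁻¹ * (τ b * (g * t * g⁻¹)) * (τ b)⁻¹ * g := by simp [mul_assoc]
    _ = t := by rw [← this]; group
theorem g0 (n : g ∈ 𝐍 (τ.range ⊔ zpowers x)) (m : y ∈ τ.range) : g * y * g⁻¹ ∈ τ.range := by
  obtain ⟨a, rfl⟩ := m
  have c : ∀ b p q, inA b → p * q * p⁻¹ * q⁻¹ = b → g * τ a * g⁻¹ * τ b * (g * τ a * g⁻¹)⁻¹ = τ b ∨
      g * τ a * g⁻¹ * τ b * (g * τ a * g⁻¹)⁻¹ = τ b * ι zc := fun b p q m e => by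
    obtain ⟨c, k, r⟩ := conj_mem_of_norm (Z.gA n) (mem_map_of_mem τ (show b ∈ XA from m))
    obtain ⟨d, s⟩ := Z.der (commutator_mem_commutator (conj_mem_of_norm' n (mem_sup_left ⟨p, rfl⟩))
      (conj_mem_of_norm' n (mem_sup_left ⟨q, rfl⟩)))
    obtain rfl : iQT d = c := Z.em.inj (s.trans (by rw [r, ← e, commutatorElement_def]; simp [mul_assoc]))
    rw [inv_inv] at r
    refine Z.tr n ?_
    simpa only [← r, ← Z.em.ez, ← map_mul, ← map_inv, Z.em.inj.eq_iff] using ((a2 _).2.2.2.2.2 k).2 (a3.2.1 d) a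
  refine Z.nF (conj_mem_of_norm n (mem_sup_left ⟨a, rfl⟩)) ?_
  simp only [List.forall_mem_cons]
  rw [← Z.em.eb, ← Z.em.e2]
  exact ⟨c _ _ _ a3.2.2.2.2.2.1 a3.2.2.2.1, c _ _ _ a3.2.2.2.2.2.2.1 a3.2.2.2.2.1, by simp⟩
theorem gt (n : g ∈ 𝐍 (τ.range ⊔ zpowers x)) : g * t * g⁻¹ = t ∨ g * t * g⁻¹ = t * ι zc := by
  have m := Z.g0 n ⟨_, Z.em.et⟩
  rcases Z.hy.zw (mem_cent1.2 (mul_inv_eq_iff_eq_mul.1 (Z.ct m))) ((p2_range τ).elt m) (fun q => by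
    have := mul_inv_eq_iff_eq_mul.1 (Z.ct (Z.g0 (inv_mem n) ⟨_, Z.em.q q⟩))
    calc _ = g * (t * (g⁻¹ * ι (qL q) * g⁻¹⁻¹)) * g⁻¹ := by group
      _ = _ := by rw [← this]; group) with e | e | e | e
  exacts [(Z.hy.it.ne_one (by simpa using e)).elim, .inl e, (Z.hy.nz g e).elim, .inr e]
theorem fin : t ∉ commutator G := fun k => by
  have p := (two_sup (p2_range τ) Z.xn Z.xm Z.xx).1
  have c : τ.range ≤ 𝐂₁ t := fun y m => mem_cent1.2 (mul_inv_eq_iff_eq_mul.1 (Z.ct m))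
  rcases two_step p with s | ⟨w, n, m, q⟩
  · refine (tr_sub (M := ι.range) s (Z.der.trans (by rintro _ ⟨q, rfl⟩; exact ⟨_, (Z.em.q q).symm⟩)) Z.hy.it.sq p.isPGroup
      (T := τ.range) ⟨_, Z.em.et⟩ c le_sup_left (sup_le (le_norm_self _) (zpowers_le.2 Z.xn)) (fun y m => ?_) (mem_sup_left ⟨_, Z.em.et⟩)
      (fun g l => ?_) k).elim Z.hy.tn
    · have := Z.gt (le_norm_self _ (inv_mem m))
      rw [inv_inv] at this
      rcases this with e | e <;> rw [e]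
      · simp [one_mem]
      · rw [inv_mul_cancel_left, ← Z.em.ez]
        simpa [← a3.2.2.1, commutatorElement_def] using commutator_mem_commutator (H₁ := τ.range) (H₂ := τ.range) ⟨te 8, rfl⟩ ⟨te 4, rfl⟩
    · have := Z.gt (mem_norm_of_cj_le l)
      rw [inv_inv] at this
      rcases this with e | e <;> rw [e]
      · simp [one_mem]
      · exact ⟨zc, by simp⟩
  have f : ∀ g ∈ τ.range ⊔ zpowers x ⊔ zpowers w, g * t * g⁻¹ = t → g ∈ τ.range := fun g a e =>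
    Z.hy.mx (two_sup p n m q).1 (le_sup_left.trans le_sup_left) c (.inr ⟨Z.ng, by rw [card_range Z.em.inj, TG.card]; rfl⟩) a
      (mem_cent1.2 (mul_inv_eq_iff_eq_mul.1 e))
  have x1 : x ∈ τ.range ⊔ zpowers x := mem_sup_right (mem_zpowers x)
  rcases Z.gt n with e | e
  · exact m (mem_sup_left (f w (mem_sup_right (mem_zpowers w)) e))
  · refine m ((mul_mem_cancel_left (inv_mem x1)).1 (mem_sup_left (f _ (mul_mem_sup (inv_mem x1) (mem_zpowers w)) ?_)))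
    calc _ = x⁻¹ * (w * t * w⁻¹) * x := by group
      _ = t := by rw [e, ← Z.xt]; group
end J0.Z0

theorem Hy.caseI0 (H : Hy ι t) (F : Fus ι t) (a : ¬ II ι t) (b : ¬ I1 ι t) : t ∉ commutator G := by
  obtain ⟨τ, e⟩ := H.em
  have c : τ.range ≤ 𝐂₁ t := by rintro _ ⟨a, rfl⟩; exact (e.ac H a).1
  obtain ⟨T, s, l⟩ := exists_syl_le c (p2_range τ)
  obtain ⟨x, xn, xx, xt, xz⟩ := H.sw F s fun s => l ⟨_, e.s s⟩
  obtain ⟨α, i, k⟩ := ex_al (j := ι.comp qL) (a := (MulAut.conj x).toMonoidHom.comp (ι.comp qL)) (H.inj.comp qL_inj)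
    ((MulAut.conj x).injective.comp (H.inj.comp qL_inj)) (H.nQ xt xz)
  replace k : ∀ q, x * ι (qL q) * x⁻¹ = ι (qL (α q)) := k
  have α1 : α (qc 1) = qc 1 := qL_inj (H.inj (by rw [← k, qc_v.1, xz]))
  obtain ⟨-, -, -, -, -, -, -, -, -, -, -, -, d1, -, -, -, -, dd⟩ := rq
  obtain ⟨δ, h, d, o⟩ : ∃ δ : TG XQ → TG XQ, ∃ h, Iq (α ∘ δ) h ∧ (δ = id ∨ δ = dl) :=
    (aq i α1).elim (fun ⟨h, d⟩ => ⟨id, h, d, .inl rfl⟩) fun ⟨h, d⟩ => ⟨dl, h, d, .inr rfl⟩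
  have nc : ∀ c ∈ 𝐂₁ t, ¬ Ac ι c h := fun c m ac => by
    have u : ∀ q, c⁻¹ * x * ι (qL (δ q)) * (c⁻¹ * x)⁻¹ = ι (qL q) := fun q => by
      have := (ac.ap (d q)).trans (k _).symm
      calc _ = c⁻¹ * (x * ι (qL (δ q)) * x⁻¹) * c := by group
        _ = _ := by rw [← this]; group
    have z : c * ι zc * c⁻¹ = ι zc := by
      have := ac.ap (d (qc 1))
      rcases o with rfl | rfl <;> simpa only [Function.comp, id, d1, α1, qc_v.1] using this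
    have v : c⁻¹ * x * t * (c⁻¹ * x)⁻¹ = t * ι zc :=
      calc _ = c⁻¹ * (x * t * x⁻¹) * c := by group
        _ = _ := by rw [xt, mul_assoc, mul_assoc, ← mul_inv_eq_iff_eq_mul.1 z, ← mul_assoc t, ← mem_cent1.1 m]; group
    rcases o with rfl | rfl
    · exact a ⟨_, fun q => mul_inv_eq_iff_eq_mul.1 (u q), v⟩
    · exact b ⟨_, fun q => by simpa only [dd] using u (dl q), v⟩
  have out : ¬ inn h := fun p => by
    obtain ⟨l, rfl⟩ := inn_iff.1 p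
    exact nc _ (H.mem l) (ac_iL l)
  have ng : ¬ Gam ι t := fun p => (H.ex p h).elim fun c q => nc c q.1 q.2
  obtain rfl : T = τ.range := le_antisymm (fun y m => H.mx s.pi l c (.inr ⟨ng, by rw [card_range e.inj, TG.card]; rfl⟩) m (s.le m)) l
  rcases o with rfl | rfl
  · exact Z0.fin ⟨H, e, ng, xn, xx, xt, xz, k, d, out⟩
  obtain ⟨y, r⟩ := conj_mem_of_norm xn ⟨_, e.er⟩
  have u : ∀ p ∈ [(qc 1, qc 1), (qc 2, qc 2), (qc 4, qc 7)], h⁻¹ * iL (tL y) * h * jq p.1 = jq p.2 * (h⁻¹ * iL (tL y) * h) := fun p m => by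
    have := H.ap (e.ac H y).2 (l := qL (α (dl p.1))) (l' := qL (α (dl p.2))) (by
      rw [r, ← k, ← k, conj_mul, ← map_mul, rd.1 p m, map_mul]; group)
    have d2 : h * jq p.2 = iL (qL (α (dl p.2))) * h := d p.2
    rw [mul_assoc, show h * jq p.1 = iL (qL (α (dl p.1))) * h from d p.1, mul_assoc, ← mul_assoc (iL _), this,
      ← mul_inv_eq_iff_eq_mul.2 d2]
    group
  simp only [List.forall_mem_cons] at u
  have w : inn (h⁻¹ * iL (tL y) * h) := by simpa only [inv_inv] using (inn_cj (a := h⁻¹)).2 (inn_iL (tL y))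
  generalize h⁻¹ * iL (tL y) * h = c at u w
  obtain ⟨u1, u2, u4, -⟩ := u
  simp only [jq, MonoidHom.comp_apply, qc_v.1, qc_v.2.1, qc_v.2.2.1] at u1 u2 u4
  have := (fi c u1 (.inl u2)).1 w
  rw [u4, mul_left_inj, mul_left_inj] at this
  exact (this.elim rd.2.1 rd.2.2.1).elim

end CF.Gu
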