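import Cfsg.Agent.Gu.K2
import Cfsg.Agent.Phan.Emb
import Cfsg.Agent.Geom.Perfect
import Cfsg.Agent.Classical.Linear

/-! Identification of `U₅(3)` among the groups `L₅(q)` and `U₅(q)`. -/

set_option autoImplicit false

namespace CF.Gu

open Subgroup Cfsg CF.BG Matrix CF.Phan CF.Geom
open scoped commutatorElement

universe u

namespace K5

variable {K Y : Type*} [Field K] [Fintype K] [Group Y] [Finite Y] {ι : LL →* Y} {σ : K →+* K} {q : ℕ}

theorem two (h : Odd (Fintype.card K)) : (2 : K) ≠ 0 :=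
  Ring.two_ne_zero fun e => by have := FiniteField.even_card_iff_char_two.1 e; have := Nat.odd_iff.1 h; omega

theorem dvd4 (S : Subgroup Kˣ) (h : ∀ a ∈ S, a.1 ^ 4 = 1) : Nat.card S ∣ 4 :=
  IsCyclic.exponent_eq_card (α := S) ▸ Monoid.exponent_dvd_of_forall_pow_eq_one fun a => Subtype.ext (Units.ext (h a.1 a.2))

theorem lin (i : Function.Injective ι) (o : Odd (Fintype.card K)) (e : Y ≃* ProjectiveSpecialLinearGroup (Fin 5) K) (c : 2 ^ 11 ∣ Nat.card Y)
    (k : Abel (𝐂 (EE.map ι)) → 𝐂 (MM.map ι) = ⊥ → ∀ h ∈ 𝐂 (EE.map ι), ι va * h * (ι va)⁻¹ = h⁻¹ → h ^ 4 = 1) : False := by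
  obtain ⟨π, s⟩ := Rp.st (μ := SpecialLinearGroup.coeMonoidHom) (π := e.symm.toMonoidHom.comp (QuotientGroup.mk' _))
    ⟨two o, SpecialLinearGroup.coeMonoidHom_injective, fun g => g.2, e.symm.surjective.comp (QuotientGroup.mk'_surjective _), fun g => by
      refine (e.symm.map_eq_one_iff.trans ((QuotientGroup.eq_one_iff g).trans Matrix.SpecialLinearGroup.mem_center_iff)).trans
        ⟨fun ⟨r, _, h⟩ => ⟨r, by rw [smul_one_eq_diagonal]; exact h.symm⟩, fun ⟨r, h⟩ => ⟨r, ?_, by rw [smul_one_eq_diagonal] at h; exact h.symm⟩⟩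
      simpa using (congrArg det h).symm.trans g.2⟩ i
    fun z B B0 _ => ⟨![B.det⁻¹, 1, 1, 1, 1], ⟨B * diagonal ![B.det⁻¹, 1, 1, 1, 1], by simp [Fin.prod_univ_five, B0]⟩, rfl⟩
  have d := dvd4 (⊤ : Subgroup Kˣ) fun a _ => s.four (g := ⟨diagonal ![a.1, a⁻¹.1, 1, 1, 1], by simp [Fin.prod_univ_five]⟩)
    (k s.abel s.bot) a.mul_inv rfl
  have n := Classical.card_SL_fin (F := K) 5 (by omega)
  have y := card_dvd_of_surjective π s.sur
  have l := card_dvd_of_injective ι i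
  rw [card_top, Nat.card_units, Nat.card_eq_fintype_card] at d
  rw [card_LL] at l
  have := Nat.le_of_dvd four_pos d
  have := Nat.odd_iff.1 o
  have := Fintype.one_lt_card (α := K)
  obtain h | h : Fintype.card K = 3 ∨ Fintype.card K = 5 := by omega
  all_goals simp only [h, Fin.prod_univ_five] at n; norm_num at n
  · have := c.trans y; omega
  · have := l.trans y; omega

/-- unitary matrices -/
abbrev mU (K : Type*) [Field K] (q : ℕ) : SU 5 K q →* Matrix (Fin 5) (Fin 5) K := SpecialLinearGroup.coeMonoidHom.comp (SU 5 K q).subtype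

theorem ct_dg (d : Fin 5 → K) : ct σ (diagonal d) = diagonal fun i => σ (d i) := by
  rw [ct, diagonal_map (map_zero σ), diagonal_transpose]

theorem uni (h : QF σ q) (i : Function.Injective ι) (o : Odd q) (e : Y ≃* PSU 5 K q) : ∃ π : SU 5 K q →* Y, St (mU K q) π ι := by
  have t : (2 : K) ≠ 0 := two (h.card ▸ o.pow)
  refine Rp.st (π := e.symm.toMonoidHom.comp (QuotientGroup.mk' _))
    ⟨t, fun a b e => Subtype.ext (Subtype.ext e), fun g => g.1.2, e.symm.surjective.comp (QuotientGroup.mk'_surjective _), fun g =>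
      (e.symm.map_eq_one_iff.trans (QuotientGroup.eq_one_iff g)).trans ⟨fun m => ?_, fun ⟨r, h⟩ => mem_center_iff.2 fun x =>
        Subtype.ext (Subtype.ext (show mU K q x * mU K q g = mU K q g * mU K q x by simp [h]))⟩⟩ i fun z B B0 p => ?_
  · obtain ⟨c, m⟩ := center_su_scalar (h.hs (Fin 5)).1 (h.hs (Fin 5)).2 (by simp) (suToUG_range 5 h.pow).ge g m
    exact ⟨c, ext_iff_mulVec.2 fun v => (m v).trans (by simp [smul_mulVec])⟩
  have D : ∀ j, ct σ (Dk K j) = Dk K j := fun j => by rw [Dk, ct_dg]; congr; funext i; split_ifs <;> simp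
  have G := dg (M := ct σ B * B) t fun j => by
    have a : ct σ (mU K q (z j) * B) * (mU K q (z j) * B) = ct σ (B * Dk K j) * (B * Dk K j) := by rw [p]
    rw [ct_mul, ct_mul, D, mul_assoc, ← mul_assoc (ct σ (mU K q _)), show ct σ (mU K q (z j)) * mU K q (z j) = 1 from h.ct_mul_self _, one_mul] at a
    exact (congrArg (· * Dk K j) a).trans (by simp only [mul_assoc, Dk_sq, mul_one])
  have G0 : ∀ j, (ct σ B * B) j j ≠ 0 := fun j => (Finset.prod_ne_zero_iff (f := fun i => (ct σ B * B) i i)).1 (by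
    rw [← det_diagonal, ← G, det_mul, det_ct]; simpa using B0) j (Finset.mem_univ j)
  choose c hc using fun j => exists_norm_eq h.ne h.ss (c := ((ct σ B * B) j j)⁻¹) (by
    rw [map_inv₀, ← ct_apply, ct_mul, h.ct_ct])
  have u : ct σ (B * diagonal c) * (B * diagonal c) = 1 := by
    rw [ct_mul, mul_assoc, ← mul_assoc _ B, G, ct_dg, diagonal_mul_diagonal, diagonal_mul_diagonal, ← diagonal_one]
    congr; funext j; rw [mul_left_comm, hc, mul_inv_cancel₀ (G0 j)]
  have n := congrArg det u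
  rw [det_mul, det_ct, det_one] at n
  generalize hA : B * diagonal c = A at u n
  refine ⟨_, h.mku (A * diagonal ![σ A.det, 1, 1, 1, 1]) (by simp [Fin.prod_univ_five, mul_comm A.det, n]) ?_, by
    rw [← diagonal_mul_diagonal, ← mul_assoc, hA]; rfl⟩
  rw [ct_mul, mul_assoc, ← mul_assoc _ A, u, one_mul]
  exact QF.ct_diag fun i => by fin_cases i <;> simp [h.ss, mul_comm A.det, n]

theorem three (h : QF σ q) {π : SU 5 K q →* Y} (s : St (mU K q) π ι) (k : ∀ h ∈ 𝐂 (EE.map ι), ι va * h * (ι va)⁻¹ = h⁻¹ → h ^ 4 = 1) : q = 3 := by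
  have d := dvd4 (normOne σ) fun a m => s.four (g := h.mku (diagonal ![a.1, σ a, 1, 1, 1]) (by simp [Fin.prod_univ_five, mul_comm a.1, mem_normOne.1 m])
    (QF.ct_diag fun i => by fin_cases i <;> simp [h.ss, mul_comm a.1, mem_normOne.1 m])) k ((mul_comm ..).trans (mem_normOne.1 m)) rfl
  rw [card_normOne h.card h.pow] at d
  have := two_le_of_card_eq_sq h.card
  have := Nat.le_of_dvd four_pos d
  obtain rfl | rfl : q = 2 ∨ q = 3 := by omega
  exacts [absurd d (by decide), rfl]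

theorem su4 (h : QF σ 3) {π : SU 5 K 3 →* Y} (s : St (mU K 3) π ι) :
    Nonempty (↥⁅𝐂₁ (ι zc), 𝐂₁ (ι zc)⁆ ≃* SU 4 K 3) ∧ ι zc ∈ ⁅𝐂₁ (ι zc), 𝐂₁ (ι zc)⁆ := by
  have n : Function.Injective π := fun g g' e => by
    obtain ⟨c, c5, e⟩ := s.toRp.eq e
    have := FiniteField.pow_card_sub_one_eq_one c (by rintro rfl; simp at c5)
    rw [h.card] at this
    exact s.inj (by rw [e, show c = 1 by grind, one_smul])
  let b : SU 4 K 3 →* SU 5 K 3 := h.bl Fin.castSucc (Fin.castSucc_injective 4)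
  have x : ∀ g : SU 5 K 3, g • ev K (4 : Fin 5) = ev K (4 : Fin 5) → ∃ A, b A = g := fun g e => h.exists_bl _ (s := Finset.univ.erase 4) (by decide)
    fun k m => by obtain rfl : k = 4 := by simpa using m
                  exact e
  obtain ⟨z, p, r⟩ := s.zk 4
  obtain ⟨A, rfl⟩ := x z (funext fun j => by rw [smul_ev, ev_apply]; exact (congrFun₂ r j 4).trans (by rw [Dk, diagonal_apply]; split_ifs <;> rfl))
  have a : A.1.1 = -1 := Matrix.ext fun i j => (h.bl_apply (Fin.castSucc_injective 4) A i j).symm.trans ((congrFun₂ r _ _).trans (by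
    by_cases c : i = j <;> simp [Dk, c, show j.castSucc ≠ (4 : Fin 5) from (Fin.castSucc_lt_last j).ne]))
  have e : ⁅𝐂₁ (ι zc), 𝐂₁ (ι zc)⁆ = (π.comp b).range := by
    refine le_antisymm (commutator_le.2 fun y i y' j => ?_) ?_
    · obtain ⟨g, rfl⟩ := s.sur y
      obtain ⟨g', rfl⟩ := s.sur y'
      have k : ∀ g, π g ∈ 𝐂₁ (ι zc) → ∃ c : K, g⁻¹ • ev K (4 : Fin 5) = c • ev K (4 : Fin 5) := fun g m => ⟨g⁻¹.1.1 4 4, funext fun j => by
        rw [smul_ev, Pi.smul_apply, ev_apply]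
        split_ifs with c
        · simp [c]
        · exact ((mon s.two (s.act (g := g⁻¹) (i := 4) (j := 4) (mul_inv_eq_iff_eq_mul.2 (mem_cent1.1 (by
            rw [map_inv]; exact inv_mem m))))).1 j c).trans (smul_zero _).symm⟩
      obtain ⟨c, hc⟩ := k g i
      obtain ⟨c', hc'⟩ := k g' j
      have m : g⁻¹ • g'⁻¹ • ev K (4 : Fin 5) = g'⁻¹ • g⁻¹ • ev K (4 : Fin 5) := by rw [hc', hc, smul_smul', smul_smul', hc, hc', smul_comm]
      obtain ⟨C, e⟩ := x ⁅g, g'⁆ (by rw [commutatorElement_def, mul_smul, mul_smul, mul_smul, m, smul_inv_smul, smul_inv_smul])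
      exact ⟨C, by rw [MonoidHom.comp_apply, e, map_commutatorElement]⟩
    · rw [MonoidHom.range_eq_map, ← commutator_SU_eq_top h.card 4 (by omega) (by omega), commutator_def, map_commutator]
      have : (⊤ : Subgroup (SU 4 K 3)).map (π.comp b) ≤ 𝐂₁ (ι zc) := by
        rintro _ ⟨C, -, rfl⟩
        rw [mem_cent1, show ι zc = π.comp b A from p.symm, ← map_mul, ← map_mul]
        congr 1
        exact Subtype.ext (Subtype.ext (show C.1.1 * A.1.1 = A.1.1 * C.1.1 by simp [a]))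
      exact commutator_mono this this
  rw [e]
  exact ⟨⟨(MonoidHom.ofInjective (f := π.comp b) (n.comp (h.bl_injective _))).symm⟩, A, p⟩

end K5

theorem id5 {Y : Type u} [Group Y] [Finite Y] (ι : LL →* Y) (i : Function.Injective ι)
    (e : (∃ (K : Type) (_ : Field K) (_ : Fintype K), Odd (Fintype.card K) ∧
        Nonempty (Y ≃* Matrix.ProjectiveSpecialLinearGroup (Fin 5) K)) ∨
      ∃ (K : Type) (_ : Field K) (_ : Fintype K) (r : ℕ), Fintype.card K = r ^ 2 ∧ Odd r ∧ Nonempty (Y ≃* PSU 5 K r))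
    (c : 2 ^ 11 ∣ Nat.card Y)
    (k : Abel (𝐂 (EE.map ι)) → 𝐂 (MM.map ι) = ⊥ → ∀ h ∈ 𝐂 (EE.map ι), ι va * h * (ι va)⁻¹ = h⁻¹ → h ^ 4 = 1) :
    (∃ (E : Type) (_ : Field E) (_ : Fintype E), Fintype.card E = 9 ∧ Nonempty (Y ≃* PSU 5 E 3)) ∧ KK (ι zc) := by
  obtain ⟨K, _, _, o, ⟨e⟩⟩ | ⟨K, _, _, r, h, o, ⟨e⟩⟩ := e
  · exact (K5.lin i o e c k).elim
  obtain ⟨σ, f⟩ := exists_QF h
  obtain ⟨π, s⟩ := K5.uni f i o e
  obtain rfl := K5.three f s (k s.abel s.bot)
  exact ⟨⟨K, _, _, h, ⟨e⟩⟩, K, _, _, h, K5.su4 f s⟩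

end CF.Gu
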