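import Cfsg.Agent.Classical.Wt

/-! Five commuting involutions permuted by `A₅` in dimension five: the frame. -/

set_option autoImplicit false

namespace CF.Gu.K5

open Matrix CF.Classical

variable {K : Type*} [Field K]

/-- the diagonal matrix with `1` at `k` and `-1` elsewhere -/
def Dk (K : Type*) [Field K] (k : Fin 5) : Matrix (Fin 5) (Fin 5) K := diagonal fun i => if i = k then 1 else -1

/-- signs -/
def sg (K : Type*) [Field K] (b : Bool) : K := if b then -1 else 1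

/-- inverse of the 3-cycle -/
def t3 : Fin 5 → Fin 5 := ![2, 0, 1, 3, 4]

/-- inverse of the 5-cycle -/
def t5 : Fin 5 → Fin 5 := ![4, 0, 1, 2, 3]

theorem n1 (h2 : (2 : K) ≠ 0) : (-1 : K) ≠ 1 := fun e => h2 (by linear_combination -e)

theorem sg_inj (h2 : (2 : K) ≠ 0) : Function.Injective (sg K) := fun a b e => by
  have := n1 h2
  cases a <;> cases b <;> simp_all [sg, this.symm]

theorem orb : ∀ e : Fin 5 → Bool, e 0 = true → (e 0 ^^ e 1 ^^ e 2 ^^ e 3 ^^ e 4) = false →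
    5 < (Finset.univ.image fun p : Fin 5 × Fin 5 => ((e ∘ t5^[p.1]) ∘ t3) ∘ t5^[p.2]).card ∨
    ∀ k, ∃ p : Fin 5 × Fin 5, ((e ∘ t5^[p.1]) ∘ t3) ∘ t5^[p.2] = fun i => decide (i ≠ k) := by decide +kernel

theorem frame (h2 : (2 : K) ≠ 0) (A : Fin 5 → Matrix (Fin 5) (Fin 5) K) (sq : ∀ j, A j * A j = 1)
    (cm : ∀ i j, A i * A j = A j * A i) (pr : A 0 * A 1 * A 2 * A 3 * A 4 = 1) (ne : A 0 ≠ 1) {T U : Matrix (Fin 5) (Fin 5) K}
    (T0 : T.det ≠ 0) (U0 : U.det ≠ 0) (hT : ∀ j, T * A (t3 j) = A j * T) (hU : ∀ j, U * A (t5 j) = A j * U) :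
    ∃ B : Matrix (Fin 5) (Fin 5) K, B.det ≠ 0 ∧ ∀ j, A j * B = B * Dk K j := by
  let O : (Fin 5 → Bool) → Prop := fun e => ∃ v ≠ 0, ∀ j, A j *ᵥ v = sg K (e j) • v
  have mv : ∀ {T : Matrix (Fin 5) (Fin 5) K} {s : Fin 5 → Fin 5}, T.det ≠ 0 → (∀ j, T * A (s j) = A j * T) → ∀ e, O e → O (e ∘ s) :=
    fun {T s} T0 h e ⟨v, v0, p⟩ => ⟨T *ᵥ v, fun z => T0 (exists_mulVec_eq_zero_iff.1 ⟨v, v0, z⟩), fun j => by
      rw [mulVec_mulVec, ← h, ← mulVec_mulVec, p, mulVec_smul]; rfl⟩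
  have it : ∀ n e, O e → O (e ∘ t5^[n]) := fun n => by
    induction n with
    | zero => exact fun _ => id
    | succ n ih => exact fun e o => mv U0 hU _ (ih e o)
  obtain ⟨v, v0, a, p⟩ : ∃ v ≠ 0, A 0 *ᵥ v = -v ∧ ∀ j ∈ (Finset.univ : Finset (Fin 5)), ∃ b, A j *ᵥ v = sg K b • v := by
    induction (Finset.univ : Finset (Fin 5)) using Finset.induction_on with
    | empty =>
      obtain ⟨w, n⟩ : ∃ w, A 0 *ᵥ w ≠ w := by
        by_contra! c
        exact ne (ext_iff_mulVec.2 fun w => by rw [c, one_mulVec])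
      exact ⟨A 0 *ᵥ w - w, sub_ne_zero.2 n, by rw [mulVec_sub, mulVec_mulVec, sq, one_mulVec, neg_sub], by simp⟩
    | insert k s _ ih =>
      obtain ⟨v, v0, a, p⟩ := ih
      by_cases c : A k *ᵥ v + v = 0
      · exact ⟨v, v0, a, Finset.forall_mem_insert _ _ _ |>.2 ⟨⟨true, by simpa [sg, add_eq_zero_iff_eq_neg] using c⟩, p⟩⟩
      have e : ∀ j (x : K), A j *ᵥ v = x • v → A j *ᵥ (A k *ᵥ v + v) = x • (A k *ᵥ v + v) := fun j x e => by
        rw [mulVec_add, mulVec_mulVec, cm, ← mulVec_mulVec, e, mulVec_smul, smul_add]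
      refine ⟨_, c, (e 0 (-1) (by simpa using a)).trans (neg_one_smul _ _), Finset.forall_mem_insert _ _ _ |>.2 ⟨⟨false, ?_⟩, fun j i => (p j i).imp fun b => e j _⟩⟩
      simp [sg, mulVec_add, sq, add_comm]
  choose e p using fun j => p j (Finset.mem_univ j)
  have e0 : e 0 = true := sg_inj h2 (eq_of_smul_eq v0 (by rw [← p, a]; simp [sg]))
  have ev : (e 0 ^^ e 1 ^^ e 2 ^^ e 3 ^^ e 4) = false := sg_inj h2 (eq_of_smul_eq v0 (by
    have := congrArg (· *ᵥ v) pr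
    simp only [← mulVec_mulVec, p, mulVec_smul, smul_smul, one_mulVec] at this
    refine .trans ?_ (this.trans (by simp [sg]))
    generalize e 0 = a, e 1 = b, e 2 = c, e 3 = d, e 4 = f
    cases a <;> cases b <;> cases c <;> cases d <;> cases f <;> simp [sg]))
  have o : ∀ q : Fin 5 × Fin 5, O (((e ∘ t5^[q.1]) ∘ t3) ∘ t5^[q.2]) := fun q => it _ _ (mv T0 hT _ (it _ _ ⟨v, v0, p⟩))
  obtain h | h := orb e e0 ev
  · refine absurd h (not_lt.2 ?_)
    generalize hS : (Finset.univ.image fun p : Fin 5 × Fin 5 => ((e ∘ t5^[p.1]) ∘ t3) ∘ t5^[p.2]) = S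
    have o' : ∀ s : S, O s := fun ⟨s, i⟩ => by subst hS; obtain ⟨q, -, rfl⟩ := Finset.mem_image.1 i; exact o q
    have := card_mul_le_of_wsp (fun j => (A j).mulVecLin) (fun s : S => fun j => sg K (s.1 j)) (d := 1) (c := 1)
      (fun s => let ⟨v, v0, p⟩ := o' s; one_le_finrank_wsp v0 p) fun s => Finite.card_le_one_iff_subsingleton.2 ⟨fun a b =>
        Subtype.ext (Subtype.ext (funext fun j => sg_inj h2 (congrFun (a.2.trans b.2.symm) j)))⟩
    simpa using this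
  choose w w0 p using fun k => let ⟨q, e⟩ := h k; (e ▸ o q : O fun i => decide (i ≠ k))
  have k : ∀ j, A j * (of w)ᵀ = (of w)ᵀ * Dk K j := fun j => Matrix.ext fun a k => by
    rw [Dk, mul_diagonal]
    refine (congrFun (p k j) a).trans ?_
    by_cases c : k = j <;> simp [sg, c, eq_comm (a := j)]
  refine ⟨_, fun z => ?_, k⟩
  obtain ⟨x, x0, z⟩ := exists_mulVec_eq_zero_iff.2 z
  refine x0 (funext fun j => by_contra fun n => w0 j ?_)
  have : (of w)ᵀ *ᵥ (Dk K j *ᵥ x + x) = 0 := by rw [mulVec_add, mulVec_mulVec, ← k, ← mulVec_mulVec, z, mulVec_zero, add_zero]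
  rw [show Dk K j *ᵥ x + x = Pi.single j (2 * x j) from funext fun i => by
    rw [Dk, Pi.add_apply, mulVec_diagonal, Pi.single_apply]; split_ifs with c <;> simp [c, two_mul]] at this
  funext a
  simpa [h2, show x j ≠ 0 from n] using congrFun this a

end CF.Gu.K5
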