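import Cfsg.Agent.Gu.K1
import Cfsg.Agent.Gu.A

/-! The monomial subgroup `2⁴ : A₅` in a projective group of degree five. -/

set_option autoImplicit false

namespace CF.Gu.K5

open Subgroup Cfsg CF.BG Matrix

/-- the five involutions of the frame -/
noncomputable def zz : Fin 5 → LL := ![z0, z1, z2, z3, zc]

/-- the permutation `(0 1)(2 3)` -/
def tv : Fin 5 → Fin 5 := ![1, 0, 3, 2, 4]

theorem zz_f : (∀ k, zz k * zz k = 1) ∧ (∀ i j, zz i * zz j * (zz i)⁻¹ = zz j) ∧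
    zz 0 * zz 1 * zz 2 * zz 3 = zz 4 ∧ zz 0 ≠ 1 ∧ (∀ j, th * zz (t3 j) * th⁻¹ = zz j) ∧ (∀ j, p5 * zz (t5 j) * p5⁻¹ = zz j) ∧
    ∀ j, va * zz (tv j) * va⁻¹ = zz j := by decide +kernel

theorem zz_E (k : Fin 5) : zz k ∈ EE := by
  have : ∀ k : Fin 5, k ≠ 4 → zz k ∈ EE := fun k n => subset_closure (by fin_cases k <;> simp_all [zz])
  by_cases e : k = 4
  · rw [e, ← zz_f.2.2.1]
    exact mul_mem (mul_mem (mul_mem (this _ (by decide)) (this _ (by decide))) (this _ (by decide))) (this _ (by decide))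
  · exact this k e

theorem zz_M (k : Fin 5) : zz k ∈ MM := by
  have p : p5 ∈ MM := subset_closure (by simp)
  have s : ∀ j, zz (t5 j) ∈ MM → zz j ∈ MM := fun j m => zz_f.2.2.2.2.2.1 j ▸ mul_mem (mul_mem p m) (inv_mem p)
  have a : zz 0 ∈ MM := subset_closure (by simp [zz])
  fin_cases k
  exacts [a, s 1 a, s 2 (s 1 a), s 3 (s 2 (s 1 a)), s 4 (s 3 (s 2 (s 1 a)))]

variable {K Γ Y : Type*} [Field K] [Group Γ] [Group Y] {μ : Γ →* Matrix (Fin 5) (Fin 5) K} {π : Γ →* Y} {ι : LL →* Y} {g g' : Γ}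
  {M : Matrix (Fin 5) (Fin 5) K} {d : Fin 5 → K} {s : Fin 5 → Fin 5} {l : LL} {i j : Fin 5}

theorem mon (h2 : (2 : K) ≠ 0) (h : M * Dk K i = Dk K j * M) : (∀ a ≠ j, M a i = 0) ∧ ∀ b ≠ i, M j b = 0 := by
  have z : ∀ x : K, x = -x → x = 0 := fun x e => (mul_eq_zero.1 (show 2 * x = 0 by linear_combination e)).resolve_left h2
  refine ⟨fun a n => z _ ?_, fun b n => z _ ?_⟩
  · simpa [Dk, n] using congrFun₂ h a i
  · simpa [Dk, n] using (congrFun₂ h j b).symm

theorem mon_diag (h2 : (2 : K) ≠ 0) (h : ∀ j, M * Dk K (s j) = Dk K j * M) (d : Fin 5 → K) : M * diagonal d = diagonal (d ∘ s) * M :=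
  Matrix.ext fun a b => by
    rw [mul_diagonal, diagonal_mul, mul_comm]
    by_cases e : b = s a
    · rw [e]; rfl
    · rw [(mon h2 (h a)).2 b e, mul_zero, mul_zero]

theorem dg (h2 : (2 : K) ≠ 0) (h : ∀ j, M * Dk K j = Dk K j * M) : M = diagonal fun i => M i i := Matrix.ext fun a b => by
  by_cases e : a = b
  · rw [e, diagonal_apply_eq]
  · rw [diagonal_apply_ne _ e, (mon h2 (h b)).1 a e]

/-- `Y` is the quotient by the scalars of a group of matrices of determinant one -/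
structure Rp (μ : Γ →* Matrix (Fin 5) (Fin 5) K) (π : Γ →* Y) : Prop where
  two : (2 : K) ≠ 0
  inj : Function.Injective μ
  det : ∀ g, (μ g).det = 1
  sur : Function.Surjective π
  ker : ∀ g, π g = 1 ↔ ∃ c : K, μ g = c • (1 : Matrix (Fin 5) (Fin 5) K)

/-- the frame is the standard one -/
structure St (μ : Γ →* Matrix (Fin 5) (Fin 5) K) (π : Γ →* Y) (ι : LL →* Y) : Prop extends Rp μ π where
  zk : ∀ k, ∃ z, π z = ι (zz k) ∧ μ z = Dk K k

theorem Dk_sq (k : Fin 5) : Dk K k * Dk K k = 1 := by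
  rw [Dk, diagonal_mul_diagonal, ← diagonal_one]; congr; funext i; split_ifs <;> simp

namespace Rp
variable (r : Rp μ π)
include r

theorem eq (h : π g = π g') : ∃ c : K, c ^ 5 = 1 ∧ μ g = c • μ g' := by
  obtain ⟨c, e⟩ := (r.ker (g * g'⁻¹)).1 (by simp [h])
  have k : μ g = c • μ g' := by rw [← one_mul (μ g'), ← smul_mul_assoc, ← e, ← map_mul, inv_mul_cancel_right]
  exact ⟨c, by simpa [r.det] using (congrArg Matrix.det k).symm, k⟩

theorem uq (h : π g = π g') (a : g * g = 1) (b : g' * g' = 1) : g = g' := by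
  obtain ⟨c, c5, e⟩ := r.eq h
  have := congrArg μ a
  rw [map_mul, e, smul_mul_smul_comm, ← map_mul, b, map_one] at this
  have k : c * c = 1 := by simpa using congrFun₂ this 0 0
  exact r.inj (by rw [e, show c = 1 by grind, one_smul])

theorem lift {y : Y} (h : y * y = 1) : ∃ g, π g = y ∧ g * g = 1 := by
  obtain ⟨g, rfl⟩ := r.sur y
  obtain ⟨c, c5, e⟩ := r.eq (g := g * g) (g' := 1) (by simpa using h)
  refine ⟨g ^ 5, ?_, r.inj ?_⟩
  · rw [map_pow, show π g ^ 5 = π g * π g * (π g * π g) * π g by simp [pow_succ, mul_assoc], h]; simp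
  · rw [← (Commute.refl g).mul_pow, map_pow, e, map_one, smul_pow, c5, one_pow, one_smul]

theorem act {x y : Γ} (a : x * x = 1) (b : y * y = 1) (h : π g * π x * (π g)⁻¹ = π y) : μ g * μ x = μ y * μ g := by
  rw [← map_mul, ← map_mul, ← r.uq (g := g * x * g⁻¹) (by simpa using h) (by simp [conj_mul, a]) b, inv_mul_cancel_right]

theorem st (n : Function.Injective ι) (adj : ∀ (z : Fin 5 → Γ) (B : Matrix (Fin 5) (Fin 5) K), B.det ≠ 0 →
    (∀ j, μ (z j) * B = B * Dk K j) → ∃ d b, μ b = B * diagonal d) : ∃ π' : Γ →* Y, St μ π' ι := by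
  obtain ⟨f1, f2, f3, f4, f5, f6, -⟩ := zz_f
  choose z p q using fun k => r.lift (y := ι (zz k)) (by rw [← map_mul, f1, map_one])
  have a : ∀ g l i j, π g = ι l → l * zz i * l⁻¹ = zz j → μ g * μ (z i) = μ (z j) * μ g := fun g l i j e k =>
    r.act (q i) (q j) (by simp [e, p, ← k])
  have c : ∀ i j, μ (z i) * μ (z j) = μ (z j) * μ (z i) := fun i j => a _ _ _ _ (p i) (f2 i j)
  have s : ∀ j, μ (z j) * μ (z j) = 1 := fun j => by rw [← map_mul, q, map_one]
  obtain ⟨T, hT⟩ := r.sur (ι th)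
  obtain ⟨U, hU⟩ := r.sur (ι p5)
  obtain ⟨B, B0, h⟩ := frame r.two (fun j => μ (z j)) s c (by
      rw [← s 4, ← r.uq (g := z 0 * z 1 * z 2 * z 3) (g' := z 4) (by simp [p, ← f3]) (r.inj ?_) (q 4)]
      · simp
      · have c' : ∀ i j x, μ (z i) * (μ (z j) * x) = μ (z j) * (μ (z i) * x) := fun i j x => by rw [← mul_assoc, c, mul_assoc]
        have s' : ∀ j x, μ (z j) * (μ (z j) * x) = x := fun j x => by rw [← mul_assoc, s, one_mul]
        simp only [map_mul, mul_assoc, map_one]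
        rw [c' 3 0, c' 2 0, c' 1 0, s', c' 3 1, c' 2 1, s', c' 3 2, s', s])
    (fun e => f4 (n (by rw [← p, r.inj (e.trans μ.map_one.symm), map_one, map_one])))
    (T := μ T) (U := μ U) (by simp [r.det]) (by simp [r.det]) (fun j => a _ _ _ _ hT (f5 j)) fun j => a _ _ _ _ hU (f6 j)
  obtain ⟨d, b, e⟩ := adj z B B0 h
  refine ⟨π.comp (MulAut.conj b).toMonoidHom, ⟨r.two, r.inj, r.det, r.sur.comp (MulAut.conj b).surjective, fun g => ?_⟩,
    fun k => ⟨b⁻¹ * z k * b, by simp [← p, mul_assoc], ?_⟩⟩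
  · rw [← r.ker]; simp
  · rw [map_mul, map_mul, mul_assoc, e, ← mul_assoc _ B, h, mul_assoc, Dk, diagonal_mul_diagonal, ← funext fun i => mul_comm (d i) _,
      ← diagonal_mul_diagonal, ← mul_assoc B, ← e, ← mul_assoc, ← map_mul, inv_mul_cancel, map_one, one_mul]

end Rp

namespace St
variable (r : St μ π ι)
include r

theorem act (h : π g * ι (zz i) * (π g)⁻¹ = ι (zz j)) : μ g * Dk K i = Dk K j * μ g := by
  choose z p q using r.zk
  have s : ∀ k, z k * z k = 1 := fun k => r.inj (by rw [map_mul, q, Dk_sq, map_one])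
  rw [← q, ← q]
  exact r.toRp.act (s i) (s j) (by rwa [p, p])

theorem dgl (h : ∀ k, π g * ι (zz k) = ι (zz k) * π g) : ∃ d, μ g = diagonal d :=
  ⟨_, dg r.two fun j => r.act (by rw [h, mul_inv_cancel_right])⟩

theorem mv (h : ∀ j, l * zz (s j) * l⁻¹ = zz j) (e : π g = ι l) (d : Fin 5 → K) : μ g * diagonal d = diagonal (d ∘ s) * μ g :=
  mon_diag r.two (fun j => r.act (by simp [e, ← h j])) d

theorem abel : Abel (𝐂 (EE.map ι)) := fun y a x b => by
  obtain ⟨g, rfl⟩ := r.sur y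
  obtain ⟨g', rfl⟩ := r.sur x
  obtain ⟨d, e⟩ := r.dgl fun k => (a _ (mem_map_of_mem ι (zz_E k))).symm
  obtain ⟨d', e'⟩ := r.dgl fun k => (b _ (mem_map_of_mem ι (zz_E k))).symm
  rw [← map_mul, ← map_mul, r.inj (show μ (g' * g) = μ (g * g') by rw [map_mul, map_mul, e, e', (commute_diagonal _ _).eq])]

theorem bot : 𝐂 (MM.map ι) = ⊥ := eq_bot_iff.2 fun y a => by
  obtain ⟨g, rfl⟩ := r.sur y
  obtain ⟨d, e⟩ := r.dgl fun k => (a _ (mem_map_of_mem ι (zz_M k))).symm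
  have k : ∀ l ∈ MM, ∀ s : Fin 5 → Fin 5, (∀ j, l * zz (s j) * l⁻¹ = zz j) → ∃ c, ∀ j, d (s j) = c * d j := fun l m s h => by
    obtain ⟨T, hT⟩ := r.sur (ι l)
    obtain ⟨c, -, q⟩ := r.toRp.eq (g := T * g) (g' := g * T) (by simpa [hT] using a _ (mem_map_of_mem ι m))
    rw [map_mul, map_mul, e, r.mv h hT, ← smul_mul_assoc] at q
    have := congrArg (· * μ T⁻¹) q
    simp only [mul_assoc, ← map_mul, mul_inv_cancel, map_one, mul_one] at this
    exact ⟨c, fun j => by simpa using congrFun₂ this j j⟩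
  have d0 : ∀ j, d j ≠ 0 := fun j => Finset.prod_ne_zero_iff.1 (by rw [← det_diagonal, ← e, r.det]; exact one_ne_zero) j (Finset.mem_univ j)
  obtain ⟨c, p⟩ := k th (subset_closure (by simp)) t3 zz_f.2.2.2.2.1
  obtain ⟨c', q⟩ := k p5 (subset_closure (by simp)) t5 zz_f.2.2.2.2.2.1
  obtain rfl : c = 1 := mul_right_cancel₀ (d0 3) ((p 3).symm.trans (one_mul _).symm)
  obtain rfl : c' = 1 := mul_right_cancel₀ (d0 1) ((q 1).symm.trans (p 1))
  refine (r.ker g).2 ⟨d 0, ?_⟩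
  have q1 := q 1; have q2 := q 2; have q3 := q 3; have q4 := q 4
  simp only [t5, Matrix.cons_val, one_mul] at q1 q2 q3 q4
  rw [e, smul_one_eq_diagonal]
  congr; funext i; fin_cases i <;> simp [*]

theorem four (k : ∀ h ∈ 𝐂 (EE.map ι), ι va * h * (ι va)⁻¹ = h⁻¹ → h ^ 4 = 1) {a b : K} (ab : a * b = 1)
    (e : μ g = diagonal ![a, b, 1, 1, 1]) : a ^ 4 = 1 := by
  obtain ⟨V, hV⟩ := r.sur (ι va)
  choose z p q using r.zk
  obtain ⟨c, h⟩ := (r.ker (g ^ 4)).1 (by
    rw [map_pow]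
    refine k _ ?_ ?_
    · rw [EE, MonoidHom.map_closure, centralizer_closure]
      have : ∀ k, ι (zz k) * π g = π g * ι (zz k) := fun k => by
        rw [← p, ← map_mul, ← map_mul, r.inj (show μ (z k * g) = μ (g * z k) by rw [map_mul, map_mul, e, q, Dk, (commute_diagonal _ _).eq])]
      rintro _ ⟨_, rfl | rfl | rfl | rfl, rfl⟩
      exacts [this 0, this 1, this 2, this 3]
    · rw [← hV, ← map_inv, ← map_inv, ← map_mul, ← map_mul, mul_inv_eq_iff_eq_mul.2 (r.inj ?_)]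
      rw [map_mul, map_mul, e, r.mv zz_f.2.2.2.2.2.2 hV]
      congr 1
      rw [← mul_one (diagonal _), ← μ.map_one, ← mul_inv_cancel g, map_mul, e, ← mul_assoc, diagonal_mul_diagonal]
      convert one_mul _
      rw [← diagonal_one]; congr; funext i; fin_cases i <;> simp [tv, ab, mul_comm b])
  rw [map_pow, e, diagonal_pow] at h
  have h0 := congrFun₂ h 0 0
  have h2 := congrFun₂ h 2 2
  simp at h0 h2
  rw [h0, h2]

end St

end CF.Gu.K5
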