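import Cfsg.Agent.Gu.U3b
import Cfsg.Agent.Gu.I2

/-! Case II-u: both towers of order `2¹⁰` are impossible. -/

set_option autoImplicit false
set_option linter.unusedSectionVars false
set_option maxRecDepth 100000

namespace CF.Gu
open Subgroup Cfsg CF.BG CF.Sig CF.GW CF.Ab2 TG U3

universe u
variable {G : Type u} [Group G] [Finite G] {ι : LL →* G} {t g : G} {Y : Subgroup G}

theorem Ub.false1 {φ : TG XB1 →* G} (U : Ub ι t φ) (s : Sm Y ι t) : False :=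
  let ⟨_, _, _, _, m, _⟩ := Cu.four ⟨U, fa1⟩ s
  n528 m

namespace U3.Cu
variable {φ : TG XB0 →* G} (C : Cu ι t φ d0 rp0 RL0)
include C

theorem st4 (k : φ (f 528) = g * φ (f 228) * g⁻¹)
    (l : ∀ a, a * f 228 = f 228 * a ∧ kD 1 (d0 a) = 1 → g * φ a * g⁻¹ ∈ φ.range) :
    ∃ g, φ (f 1) = g * φ (f 1) * g⁻¹ ∧ φ (f 332) = g * φ (f 2) * g⁻¹ := by
  have i := C.em.inj
  have l' : ∀ a, a * f 228 = f 228 * a ∧ kD 1 (d0 a) = 1 → ∃ b, b * f 528 = f 528 * b ∧ φ b = g * φ a * g⁻¹ := fun a p =>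
    (l a p).imp fun b q => ⟨cm_cj i q k p.1, q⟩
  have su := (cnt_le i g _ _ l').2 cP
  have n1 : ∀ {a b}, φ b = g * φ a * g⁻¹ → b = 1 → a = 1 := fun q r => i (by
    rw [r, map_one, eq_comm, conj_eq_one_iff] at q; rw [q, map_one])
  have z : φ (f 1) = g * φ (f 1) * g⁻¹ := by
    obtain ⟨b, c, q⟩ := l' _ p4.1
    have : φ (b * b * (b * b)) = g * φ (f 1) * g⁻¹ := by simp only [← p4.2.1, map_mul, q, conj_mul]
    rwa [(q4 b c).resolve_left fun r => p4.2.2.2.2.1 (n1 this r)] at this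
  obtain ⟨b, c, q⟩ := l' _ p4.2.2.1
  obtain ⟨s, r, -⟩ := C.adj q p4.2.2.2.1
  rcases z2 b (sq_cj i q p4.2.2.2.1) c (fun a m => by
    obtain ⟨p, -, v⟩ := su _ (U3.cl a m)
    refine (c2 p).imp (fun w => i ?_) fun w => i ?_
    · rw [map_mul, map_mul, map_inv, v, q, conj_inv, conj_mul, conj_mul, ← map_inv, ← map_mul, ← map_mul, w]
    · rw [map_mul, map_mul, map_inv, v, map_mul, q, z, conj_inv, conj_mul, conj_mul, conj_mul, ← map_inv, ← map_mul, ← map_mul, w,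
        map_mul]) with w | w | w | w
  · exact (p4.2.2.2.2.2.1 (n1 q w)).elim
  · exact (p4.2.2.2.2.2.2 (i ((MulAut.conj g).injective (q.symm.trans (w ▸ z))))).elim
  · rw [w, C.em.eb] at r
    exact (C.nu' ((C.zb.trans (isConj_iff.2 ⟨_, r.symm⟩)).trans (isConj_iff.2 ⟨_, k.symm⟩ : IsConj _ _).symm)).elim
  · exact ⟨φ s * g, by
      rw [show ∀ u, φ s * g * u * (φ s * g)⁻¹ = φ s * (g * u * g⁻¹) * (φ s)⁻¹ from fun u => by group, ← z, ← map_mul, C.cz, map_mul,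
        mul_inv_cancel_right], w ▸ r⟩

theorem sB : Syl 2 ((𝐂₁ (f 2)).map φ) (𝐂₁ (φ (f 1)) ⊓ 𝐂₁ (φ (f 2))) := by
  have i := C.em.inj
  have mc : ∀ {a b}, a * b = b * a → φ a ∈ 𝐂₁ (φ b) := fun h => mem_cent1.2 (by rw [← map_mul, h, map_mul])
  refine syl_of_max (by rintro _ ⟨a, m, rfl⟩; exact ⟨mc (C.cz a), mc (mem_cent1.1 m)⟩) ((p2_range φ).le (map_le_range _ _))
    fun Q l p b => (eq_of_card_le b (not_lt.1 fun c => ?_)).symm
  rw [card_cen i, cB.1] at c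
  obtain ⟨g, -, q⟩ := C.sy.syl_cj_le le_top p
  have d := card_dvd q
  rw [card_cj, card_range i, TG.card, C.n] at d
  have e : cj g Q = φ.range := eq_of_card_le q (by
    rw [card_cj, card_range i, TG.card, C.n]
    obtain ⟨k, hk⟩ := d
    rcases k with _ | _ | k <;> nlinarith)
  have k : ∀ a, a * f 2 = f 2 * a → φ a ≠ 1 → Q ≤ 𝐂₁ (φ a) → g * φ a * g⁻¹ = φ (f 1) := fun a m n h => by
    obtain ⟨x, hx⟩ := q (conj_mem_cj.2 (b ⟨a, mem_cent1.2 m, rfl⟩))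
    have : ∀ y, x * y = y * x := fun y => i (by
      obtain ⟨u, mu, hu⟩ := e.ge ⟨y, rfl⟩
      rw [map_mul, map_mul, hx, ← show g * u * g⁻¹ = _ from hu, conj_mul, conj_mul, mem_cent1.1 (h mu)])
    rcases cen x (this _) (this _) (this _) (this _) with r | r
    · rw [r, map_one, eq_comm, conj_eq_one_iff] at hx
      exact (n hx).elim
    · rw [← hx, r]
  have n : ∀ {a}, a ≠ 1 → φ a ≠ 1 := fun h r => h (i (r.trans (map_one φ).symm))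
  exact p4.2.2.2.2.2.2 (i ((MulAut.conj g).injective ((k _ rfl (n p4.2.2.2.2.2.1) (l.trans inf_le_right)).trans
    (k _ (C.cz _).symm (n p4.2.2.2.2.1) (l.trans inf_le_left)).symm)))

theorem st5 {σ : G →* ℤˣ} (st : σ t = -1) (h : ∀ a, σ (φ a) = kD 1 (d0 a)) (z : φ (f 1) = g * φ (f 1) * g⁻¹)
    (b : φ (f 332) = g * φ (f 2) * g⁻¹) : False := by
  have i := C.em.inj
  have sc : ∀ {a b}, IsConj a b → σ a = σ b := fun h => isConj_iff_eq.1 (σ.map_isConj h)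
  obtain ⟨d, -, l⟩ := C.sB.syl_cj_le (K := cj g⁻¹ ((𝐂₁ (f 332)).map φ)) (by
    rintro _ ⟨_, ⟨a, m, rfl⟩, rfl⟩
    have k : ∀ {x y}, φ y = g * φ x * g⁻¹ → a * y = y * a → g⁻¹ * φ a * g⁻¹⁻¹ ∈ 𝐂₁ (φ x) := fun {x y} q r => mem_cent1.2 (by
      rw [show φ x = g⁻¹ * φ y * g⁻¹⁻¹ by rw [q]; group, conj_mul, conj_mul, ← map_mul, r, map_mul])
    exact ⟨k z (C.cz a), k b (mem_cent1.1 m)⟩) (((p2_range φ).le (map_le_range _ _)).map _)
  have I := Ix.ix2_of l (by rw [card_cj, card_cj, card_cen i, card_cen i, cB.1, cB.2])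
  have R : ∀ r ∈ RR, φ (f r) ∈ (𝐂₁ (f 2)).map φ ∧ φ (f r) ∉ cj d (cj g⁻¹ ((𝐂₁ (f 332)).map φ)) := fun r m => by
    obtain ⟨r2, rc, rr⟩ := rr_ok r m
    refine ⟨⟨_, mem_cent1.2 rc, rfl⟩, ?_⟩
    rintro ⟨_, ⟨_, ⟨c, mc, rfl⟩, rfl⟩, q⟩
    replace q : φ c = (d * g⁻¹)⁻¹ * φ (f r) * (d * g⁻¹)⁻¹⁻¹ := by
      rw [← show d * (g⁻¹ * φ c * g⁻¹⁻¹) * d⁻¹ = _ from q]; group
    have it : IsConj t (φ c) := .trans (by
      have := (C.ic r2).symm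
      rcases rr with w | w <;> rw [w] at this
      exacts [C.em.et ▸ this, C.t97.trans this]) (isConj_iff.2 ⟨_, q.symm⟩)
    have c2 := sq_cj i q r2
    rcases h0 c c2 (mem_cent1.1 mc) with w | w
    · exact C.nt (by revert w; generalize rp0 c = j; revert j; decide) (it.trans (C.ic c2))
    · exact absurd (st.symm.trans ((sc it).trans ((h c).trans w))) (by decide)
  have m0 : d * (g⁻¹ * φ (f 68) * g⁻¹⁻¹) * d⁻¹ ∈ cj d (cj g⁻¹ ((𝐂₁ (f 332)).map φ)) :=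
    conj_mem_cj.2 (conj_mem_cj.2 ⟨_, mem_cent1.2 c0.2.1, rfl⟩)
  obtain ⟨c, mc, q⟩ := l m0
  have q' : φ c = d * g⁻¹ * φ (f 68) * (d * g⁻¹)⁻¹ := by rw [q]; group
  obtain ⟨p, mp, w⟩ := tri c (sq_cj i q' c0.1) (mem_cent1.1 mc) (by
    rw [← h, ← sc (isConj_iff.2 ⟨_, q'.symm⟩), h, c0.2.2])
  obtain ⟨a1, a2, a3⟩ := tr_ok p mp
  rw [← q, w, map_mul, map_mul] at m0
  exact (R _ a3).2 ((mul_mem_cancel_left (I.2 _ (R _ a1).1 _ (R _ a2).1 (R _ a1).2 (R _ a2).2)).1 m0)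

end U3.Cu

theorem Ub.false0 {φ : TG XB0 →* G} (U : Ub ι t φ) (s : Sm Y ι t) : False :=
  have C : Cu ι t φ d0 rp0 RL0 := ⟨U, fa0⟩
  let ⟨_, _, st, h, _, k, l⟩ := C.four s
  let ⟨_, z, b⟩ := C.st4 k l
  C.st5 st h z b

end CF.Gu
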