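import Cfsg.Agent.Gu.U2
import Cfsg.Agent.Gu.U3

/-! Case II-u does not occur. -/

set_option autoImplicit false

namespace CF.Gu
open Subgroup Cfsg CF.BG CF.Sig CF.GW CF.Ab2

universe u
variable {G : Type u} {Γ : Type*} [Group G] [Finite G] [Group Γ] [Finite Γ] {ι : LL →* G} {ι' : LL →* Γ} {t : G} {t' y : Γ}
  {Y : Subgroup G}

theorem Lf.du {f : 𝐍 (Oo t) →* Γ} (L : Lf ι t f ι' t') (s : Sm Y ι t) (d : Du ι' t' y) : False :=
  (L.ua d).elim fun _ U => (U.fin s).elim (fun ⟨_, B⟩ => B.false0 s) fun ⟨_, B⟩ => B.false1 s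

end CF.Gu
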