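import Cfsg.Agent.Gu.U0
import Cfsg.Agent.Gu.D1

/-! Case II-u: the group of order `2⁹`. -/

set_option autoImplicit false
set_option linter.unusedSectionVars false
set_option maxRecDepth 100000
set_option synthInstance.maxSize 4000

namespace CF.Gu
open Subgroup Cfsg CF.BG CF.Sig CF.GW CF.Ab2

variable {G Γ : Type*} [Group G] [Finite G] [Group Γ] [Finite Γ] {ι : LL →* G} {ι' : LL →* Γ} {t g g' y : G} {t' : Γ} {l : LL}
  {ε : TG XK →* G} {α β : TG XK → TG XK} {τ : TG XT →* G}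

noncomputable def jT : TG XK →* TG XT := TG.hom [TG.e XT 64, TG.e XT 32, TG.e XT 4, TG.e XT 2, TG.e XT 1] (by decide +kernel)
noncomputable def aY : TG XK →* TG XK := TG.hom [TG.e XK 17, TG.e XK 9, TG.e XK 4, TG.e XK 2, TG.e XK 1] (by decide +kernel)
noncomputable def aP : TG XK →* TG XK := TG.hom [TG.e XK 16, TG.e XK 2, TG.e XK 5, TG.e XK 6, TG.e XK 9] (by decide +kernel)
noncomputable def aQ : TG XK →* TG XK := TG.hom [TG.e XK 16, TG.e XK 15, TG.e XK 10, TG.e XK 8, TG.e XK 14] (by decide +kernel)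
noncomputable def aT : TG XK →* TG XK := TG.hom [TG.e XK 16, TG.e XK 10, TG.e XK 2, TG.e XK 6, TG.e XK 1] (by decide +kernel)
/-- the action of `y_k` on `A` -/
noncomputable def aK : ℕ → TG XK → TG XK
  | 0 => aP ∘ aY ∘ aQ
  | k + 1 => aP ∘ aK k ∘ aQ

/-- `g` acts on the image of `ε` as `α` -/
def An (ε : TG XK →* G) (g : G) (α : TG XK → TG XK) : Prop := ∀ a, g * ε a * g⁻¹ = ε (α a)

theorem An.mul (a : An ε g α) (b : An ε g' β) : An ε (g * g') (α ∘ β) := fun x => by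
  rw [Function.comp_apply, ← a, ← b]; group

theorem Em.val (e : Em ι t τ) (a : TG XT) : τ a = ι (tL a) * if 64 ≤ a.v then t else 1 := by
  obtain ⟨s, q⟩ := (by decide +kernel : ∀ a : TG XT, ∃ s, tL a = sL s ∧ a = iST s * if 64 ≤ a.v then TG.e XT 64 else 1) a
  rw [q.1]
  nth_rw 1 [q.2]
  rw [map_mul, e.s]
  split_ifs
  exacts [by rw [e.et], by rw [map_one]]

theorem Em.an (e : Em ι t τ) (H : Hy ι t) (k : ∀ a, l * tL (jT a) * l⁻¹ = tL (jT (α a)) ∧ (64 ≤ (jT a).v ↔ 64 ≤ (jT (α a)).v)) :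
    An (τ.comp jT) (ι l) α := fun a => by
  rw [MonoidHom.comp_apply, MonoidHom.comp_apply, e.val, e.val, ← (k a).1, map_mul, map_mul, map_inv, if_congr (k a).2.symm rfl rfl]
  split_ifs
  · rw [← map_inv, mul_assoc _ _ t, H.tc l⁻¹]; simp only [mul_assoc]
  · group

theorem An.io (a : An (τ.comp jT) g α) (e : Em ι t τ) {l l' : LL}
    (k : ∃ c, tL (jT c) = l ∧ tL (jT (α c)) = l' ∧ ¬ 64 ≤ (jT c).v ∧ ¬ 64 ≤ (jT (α c)).v) : g * ι l * g⁻¹ = ι l' := by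
  obtain ⟨c, rfl, rfl, p, q⟩ := k
  simpa only [MonoidHom.comp_apply, e.val, if_neg p, if_neg q, mul_one] using a c

theorem Em.exU (e : Em ι t τ) (H : Hy ι t) (m : g ∈ 𝐂₁ t) (a : Ac ι g s0) (q : g * g = 1) :
    ∃ φ : TG XU →* G, Em ι t φ ∧ φ (TG.e XU 128) = g ∧ ∀ p, φ (iTU p) = τ p := by
  obtain ⟨φ, b, c, d⟩ := ext2 iTU (TG.inc_inj _ _) (by rw [TG.card, TG.card]; rfl) (TG.e XU 128) (by decide +kernel) τ g
    ([(1, 1), (2, 2), (4, 6), (8, 8), (16, 24), (32, 34), (64, 64)].map fun p => (TG.e XT p.1, TG.e XT p.2))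
    (TG.top (by decide +kernel)) (by decide +kernel) (fun p n => by
      obtain ⟨k, r⟩ := (by decide +kernel : ∀ p ∈ [(1, 1), (2, 2), (4, 6), (8, 8), (16, 24), (32, 34), (64, 64)].map
        fun p => (TG.e XT p.1, TG.e XT p.2), s0 * iL (tL p.1) = iL (tL p.2) * s0 ∧ (64 ≤ p.1.v ↔ 64 ≤ p.2.v)) p n
      rw [e.val, e.val, ← a.ap k, if_congr r.symm rfl rfl]
      split_ifs
      · rw [← conj_mul, mem_cent1.1 m, mul_inv_cancel_right]
      · simp) 1 (by decide +kernel) (by rw [map_one, q])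
  have k : ∀ c, TG.e XU c = iTU (TG.e XT c) → φ (TG.e XU c) = τ (TG.e XT c) := fun c q => by rw [q, b]
  exact ⟨φ, ⟨d e.inj fun p q => s0_out (H.uq (q ▸ (e.ac H p).2) a ▸ inn_iL _), (k _ (by decide +kernel)).trans e.ez,
    (k _ (by decide +kernel)).trans e.eb, (k _ (by decide +kernel)).trans e.e2, (k _ (by decide +kernel)).trans e.ea,
    (k _ (by decide +kernel)).trans e.ev, (k _ (by decide +kernel)).trans e.er, (k _ (by decide +kernel)).trans e.et⟩, c, b⟩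

theorem gamH : ∀ h : HH, h * iL zc = iL zc * h → h * iL z0 = iL z1 * h → h * iL z2 = iL z2 * h → h * h = 1 →
    h * iL (p5 * p5 * th * p5⁻¹ * p5⁻¹) = iL (p5 * p5 * th * p5⁻¹ * p5⁻¹) * h → h ∈ [s0, s0 * iL bt] :=
  allZ (by decide +kernel)

namespace Du
variable (d : Du ι t y)
include d

theorem pm (j k : ℕ) (c : ∃ s ∈ lA, l * p5 ^ (j + 1) = p5 ^ (k + 1) * s) : ι l * xk ι y j * (ι l)⁻¹ = xk ι y k :=
  c.elim fun s q => xk_cj (d.cA4 s q.1) q.2

theorem yi : y⁻¹ = y := inv_eq_of_mul_eq_one_right d.yy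

theorem yQ (q : TG XQ) : qL q ∈ Cx ι y :=
  (TG.top (M := (Cx ι y).comap qL) (l := [1, 2, 4, 8, 16].map (TG.e XQ)) (by decide +kernel) fun a m =>
    d.cx _ ((by decide +kernel : ∀ a ∈ [1, 2, 4, 8, 16].map (TG.e XQ), qL a ∈ [zc, bt, b2, va, vb, th, om]) a m)).ge (mem_top q)

theorem yr : y * ι rr * y⁻¹ = ι (zc * rr) :=
  calc _ = y⁻¹ * (ι rr * y * (ι rr)⁻¹) * ι rr := by rw [d.yi]; group
    _ = _ := by rw [d.ru, map_mul]; group

theorem yT (e : Em ι t τ) : ∀ p ∈ [(1, 1), (2, 2), (4, 4), (8, 8), (16, 16), (32, 33), (64, 65)],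
    y * τ (TG.e XT p.1) * y⁻¹ = τ (TG.e XT p.2) := by
  have k : ∀ l ∈ [zc, bt, b2, va, vb, th, om], y * ι l * y⁻¹ = ι l := fun l m => mul_inv_eq_iff_eq_mul.2 (d.yq l m)
  simp only [List.forall_mem_cons] at k ⊢
  rw [(by decide +kernel : TG.e XT 33 = TG.e XT 1 * TG.e XT 32), (by decide +kernel : TG.e XT 65 = TG.e XT 64 * TG.e XT 1)]
  simp only [map_mul, e.ez, e.eb, e.e2, e.ea, e.ev, e.er, e.et, d.yr, d.yt, k.1, k.2.1, k.2.2.1, k.2.2.2.1, k.2.2.2.2.1]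
  simp

theorem an (e : Em ι t τ) (k : ℕ) : An (τ.comp jT) (xk ι y k) (aK k) := by
  have a : An (τ.comp jT) y aY := DFunLike.congr_fun (TG.hext (f := (MulAut.conj y).toMonoidHom.comp (τ.comp jT))
    (g := (τ.comp jT).comp aY) fun L m => by
      obtain ⟨p, n, u, v⟩ := (by decide +kernel : ∀ L ∈ XK.W, ∃ p ∈ [(1, 1), (2, 2), (4, 4), (8, 8), (16, 16), (32, 33), (64, 65)],
        jT (TG.e XK L.top) = TG.e XT p.1 ∧ jT (aY (TG.e XK L.top)) = TG.e XT p.2) L m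
      simp only [MonoidHom.comp_apply, u, v]
      exact d.yT e p n)
  have p : An (τ.comp jT) (ι p5) aP := e.an d.toHy (by decide +kernel)
  have q : An (τ.comp jT) (ι p5)⁻¹ aQ := map_inv ι p5 ▸ e.an d.toHy (by decide +kernel)
  induction k with
  | zero => simpa only [xk, zero_add, pow_one, mul_assoc, aK] using p.mul (a.mul q)
  | succ k ih => simpa only [xk_succ, mul_assoc, aK] using p.mul (ih.mul q)

theorem sq (k : ℕ) : xk ι y k * xk ι y k = 1 := by rw [← xk_mul, d.yy, xk_one]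

/-- the element `γ = y₀ y₁ y₀` -/
theorem gm : xk ι y 0 * xk ι y 1 * xk ι y 0 ∈ 𝐂₁ t ∧ Ac ι (xk ι y 0 * xk ι y 1 * xk ι y 0) s0 ∧
    xk ι y 0 * xk ι y 1 * xk ι y 0 * (xk ι y 0 * xk ι y 1 * xk ι y 0) = 1 ∧
    y * (xk ι y 0 * xk ι y 1 * xk ι y 0) * y⁻¹ = xk ι y 0 * xk ι y 1 * xk ι y 0 := by
  obtain ⟨τ, e⟩ := d.em
  have a := ((d.an e 0).mul (d.an e 1)).mul (d.an e 0)
  have x4 := xk_four (ι := ι) y
  generalize hγ : xk ι y 0 * xk ι y 1 * xk ι y 0 = γ at a ⊢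
  have q : γ * γ = 1 := by
    rw [← hγ]
    nth_rw 2 4 [← inv_eq_of_mul_eq_one_right (d.sq 0)]
    rw [conj_mul, d.sq, mul_one, mul_inv_cancel]
  have m : γ ∈ 𝐂₁ t := by
    have := a (TG.e XK 16)
    rw [(by decide +kernel : ((aK 0 ∘ aK 1) ∘ aK 0) (TG.e XK 16) = TG.e XK 16), MonoidHom.comp_apply,
      (by decide +kernel : jT (TG.e XK 16) = TG.e XT 64), e.et] at this
    exact mem_cent1.2 (mul_inv_eq_iff_eq_mul.1 this)
  obtain ⟨h, b⟩ := d.ac γ m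
  have c : h ∈ [s0, s0 * iL bt] := gamH h (d.ap b (a.io e (by decide +kernel))) (d.ap b (a.io e (by decide +kernel)))
    (d.ap b (a.io e (by decide +kernel))) (d.uq (b.mul b) (q ▸ ac_one)) (d.cm b (mul_inv_eq_iff_eq_mul.1 (by
      rw [← hγ, ← conj_mul, ← conj_mul, d.pm 0 0 (by decide +kernel), d.pm 1 1 (by decide +kernel)])).symm)
  have c0 : ι p5⁻¹ * γ * (ι p5⁻¹)⁻¹ = y * xk ι y 0 * y := by
    rw [← hγ, ← conj_mul, ← conj_mul, d.pm 0 4 (by decide +kernel), d.pm 1 0 (by decide +kernel), x4]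
  have c1 : ι th * (y * xk ι y 0 * y) * (ι th)⁻¹ = y * xk ι y 1 * y := by
    rw [← conj_mul, ← conj_mul, d.pm 0 1 (by decide +kernel), ← d.yq th (by simp), mul_inv_cancel_right]
  have b0 := ((ac_iL p5⁻¹).mul b).mul (ac_iL p5⁻¹).inv
  rw [c0] at b0
  have b1 := ((ac_iL th).mul b0).mul (ac_iL th).inv
  rw [c1] at b1
  have m0 : y * xk ι y 0 * y ∈ 𝐂₁ t := c0 ▸ mul_mem (mul_mem (d.mem _) m) (inv_mem (d.mem _))
  have m1 : y * xk ι y 1 * y ∈ 𝐂₁ t := c1 ▸ mul_mem (mul_mem (d.mem _) m0) (inv_mem (d.mem _))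
  have c2 : y * xk ι y 0 * y * (y * xk ι y 1 * y) * (y * xk ι y 0 * y) = y * γ * y⁻¹ := by
    rw [← hγ, ← conj_mul, ← conj_mul, d.yi]
  have b2 := b.inv.mul ((b0.mul b1).mul b0)
  have m2 := mul_mem (inv_mem m) (mul_mem (mul_mem m0 m1) m0)
  rw [c2] at b2 m2
  obtain ⟨rfl, r⟩ := (by decide +kernel : ∀ h ∈ [s0, s0 * iL bt], ∀ k, k = h⁻¹ * (iL p5⁻¹ * h * (iL p5⁻¹)⁻¹ *
    (iL th * (iL p5⁻¹ * h * (iL p5⁻¹)⁻¹) * (iL th)⁻¹) * (iL p5⁻¹ * h * (iL p5⁻¹)⁻¹)) → k = 1 ∨ k = iL zc → h = s0 ∧ k = 1) h c _ rfl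
    (d.acQ b2 fun u => by
      obtain ⟨u', r⟩ := (by decide +kernel : ∀ h ∈ [s0, s0 * iL bt], ∀ u, ∃ u', h * iL (qL u) = iL (qL u') * h) h c u
      have y1 := mem_Cx.1 (d.yQ u)
      have y2 := mem_Cx.1 (d.yQ u')
      rw [← b.ap r] at y2
      calc _ = γ⁻¹ * y * γ * y⁻¹ * (ι (qL u) * y) * y⁻¹ := by group
        _ = γ⁻¹ * (y * (γ * ι (qL u) * γ⁻¹)) * γ * y⁻¹ := by rw [y1]; group
        _ = _ := by rw [← y2]; group)
  refine ⟨m, b, q, (d.z1 _ m2 (r ▸ b2)).elim (fun s => (inv_mul_eq_one.1 s).symm) fun s => (d.nc d.yt ?_).elim⟩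
  have : γ⁻¹ * y ∈ 𝐂₁ t := by
    rw [← s, mem_cent1, inv_eq_of_mul_eq_one_right q, d.yi]; group
  exact mem_cent1.1 ((mul_mem_cancel_left (inv_mem m)).1 this)

theorem exA : ∃ φ : TG XA →* G, Em ι t φ ∧ φ (TG.e XA 128) = xk ι y 0 * xk ι y 1 * xk ι y 0 ∧ φ (TG.e XA 256) = y := by
  obtain ⟨τ, e⟩ := d.em
  obtain ⟨m, a, q, c⟩ := d.gm
  obtain ⟨ψ, E, b, r⟩ := e.exU d.toHy m a q
  obtain ⟨φ, u, v, w⟩ := ext2 iUA (TG.inc_inj _ _) (by rw [TG.card, TG.card]; rfl) (TG.e XA 256) (by decide +kernel) ψ y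
    ((TG.e XU 128, TG.e XU 128) :: [(1, 1), (2, 2), (4, 4), (8, 8), (16, 16), (32, 33), (64, 65)].map
      fun p => (iTU (TG.e XT p.1), iTU (TG.e XT p.2))) (TG.top (by decide +kernel)) (by decide +kernel)
    (List.forall_mem_cons.2 ⟨by rw [b, c], fun p n => by
      obtain ⟨p, n', rfl⟩ := List.mem_map.1 n
      rw [r, r, d.yT e p n']⟩) 1 (by decide +kernel) (by rw [map_one, d.yy])
  have k : ∀ c, TG.e XA c = iUA (TG.e XU c) → φ (TG.e XA c) = ψ (TG.e XU c) := fun c q => by rw [q, u]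
  exact ⟨φ, ⟨w E.inj fun p q => d.nc d.yt (by
      rw [← q, ← E.et, ← map_mul, (by decide +kernel : ∀ p, p * TG.e XU 64 = TG.e XU 64 * p), map_mul]),
    (k _ (by decide +kernel)).trans E.ez,
    (k _ (by decide +kernel)).trans E.eb, (k _ (by decide +kernel)).trans E.e2, (k _ (by decide +kernel)).trans E.ea,
    (k _ (by decide +kernel)).trans E.ev, (k _ (by decide +kernel)).trans E.er, (k _ (by decide +kernel)).trans E.et⟩,
    (k _ (by decide +kernel)).trans b, v⟩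

end Du

theorem Lf.ua {f : 𝐍 (Oo t) →* Γ} {y : Γ} (L : Lf ι t f ι' t') (d : Du ι' t' y) : ∃ φ, Ua ι t φ := by
  obtain ⟨φ', E', a, b⟩ := d.exA
  obtain ⟨φ, E, u⟩ := L.lift E'
  have e := E'.lo iTA (TG.inc_inj _ _) (by decide +kernel)
  have j : ∀ a, (φ'.comp iTA).comp jT a = φ' (jE a) := fun a =>
    congrArg φ' ((by decide +kernel : ∀ a, iTA (jT a) = jE a) a)
  have F := fun l g c => L.fuse TG.pgroup E'.inj u l (g' := g) c
  refine ⟨φ, L.hy, E, ?_, ?_, ?_, ?_⟩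
  · obtain ⟨k, q⟩ := u (TG.e XA 128)
    exact L.ac (mem_cent1.2 (by rw [← E.et, ← map_mul, ← map_mul]; exact congrArg φ (by decide +kernel))) k (by
      rw [q, a]; exact d.gm.2.1)
  · have p := (e.an (l := va * p5) (α := TG.hom [TG.e XK 16, TG.e XK 2, TG.e XK 4, TG.e XK 7, TG.e XK 11] (by decide +kernel)) d.toHy
      (by decide +kernel)).mul (d.an e 0)
    obtain ⟨g, -, c⟩ := F [(TG.e XA 97, TG.e XA 64), (TG.e XA 64, TG.e XA 97), (TG.e XA 256, TG.e XA 128)] (ι' (va * p5) * xk ι' y 0) (by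
      simp only [List.forall_mem_cons]
      refine ⟨?_, ?_, ?_, by simp⟩
      · convert p (TG.e XK 25) using 1 <;> rw [j] <;> congr <;> decide +kernel
      · convert p (TG.e XK 16) using 1 <;> rw [j] <;> congr <;> decide +kernel
      · rw [a, b, ← d.pm (l := va * p5) 4 1 (by decide +kernel), xk_four]
        nth_rw 3 4 [← d.pm (l := va * p5) 0 0 (by decide +kernel)]
        rw [mul_inv_rev, inv_eq_of_mul_eq_one_right (d.sq 0)]; group)
    simp only [List.forall_mem_cons, E.et] at c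
    exact ⟨g, c.1, c.2.1, c.2.2.1⟩
  · obtain ⟨g, -, c⟩ := F [(TG.e XA 260, TG.e XA 258)] (ι' th) (by
      rw [List.forall_mem_singleton, (by decide +kernel : TG.e XA 260 = TG.e XA 4 * TG.e XA 256),
        (by decide +kernel : TG.e XA 258 = TG.e XA 2 * TG.e XA 256), map_mul, map_mul, E'.e2, E'.eb, b, ← conj_mul,
        ← d.yq th (by simp), mul_inv_cancel_right, (ac_iL th).ap (l' := bt) (by decide +kernel)])
    exact isConj_iff.2 ⟨g, c _ List.mem_cons_self⟩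
  · have p := (d.an e 4).mul ((d.an e 3).mul (e.an (l := th) (α := aT) d.toHy (by decide +kernel)))
    obtain ⟨g, -, c⟩ := F (XK.W.map fun L => (jE (TG.e XK L.top), jE (nu (TG.e XK L.top)))) _ fun x m => by
      obtain ⟨L, -, rfl⟩ := List.mem_map.1 m
      rw [← j, ← j, p, (by decide +kernel : ∀ a, (aK 4 ∘ aK 3 ∘ aT) a = nu a)]
    exact ⟨g, DFunLike.congr_fun (TG.hext (f := (MulAut.conj g.1).toMonoidHom.comp (φ.comp jE)) (g := (φ.comp jE).comp nu)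
      fun L m => c _ (List.mem_map_of_mem m))⟩

end CF.Gu
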