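import Cfsg.Agent.Gu.U1
import Cfsg.Agent.Gu.O
import Cfsg.Agent.Gu.F0

/-! Case II-u: fusion in the group of order `2⁹`. -/

set_option autoImplicit false
set_option linter.unusedSectionVars false
set_option maxRecDepth 100000
set_option synthInstance.maxSize 4000

namespace CF.Gu
open Subgroup Cfsg CF.BG CF.Sig CF.GW CF.Ab2 O0

variable {G : Type*} [Group G] [Finite G] {ι : LL →* G} {t g n w : G} {ε : TG XK →* G} {φ : TG XA →* G}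

theorem zh3 : ∀ h : HH, iL zc * h * (iL zc * h) * (iL zc * h) ≠ h * h * h := by decide +kernel

/-- no element of order three acts on an elementary subgroup of order 32 with fixed points `⟨t⟩` -/
theorem Hy.f3 (H : Hy ι t) (i : Function.Injective ε) (e : ε (TG.e XK 31) = t) (a : An ε n nu) : False := by
  have m : ∀ x, ε x ∈ 𝐂₁ t := fun x => by
    rw [← e, mem_cent1, ← map_mul, (by decide +kernel : ∀ x, x * TG.e XK 31 = TG.e XK 31 * x), map_mul]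
  have q : ∀ x, ε x * ε x = 1 := fun x => by rw [← map_mul, (by decide +kernel : ∀ x : TG XK, x * x = 1), map_one]
  have mn : n ∈ 𝐂₁ t := by
    have := a (TG.e XK 31)
    rw [(by decide +kernel : nu (TG.e XK 31) = TG.e XK 31), e] at this
    exact mem_cent1.2 (mul_inv_eq_iff_eq_mul.1 this)
  have k : ∀ x, ∃ l, ε x = ι l ∨ ε x = ι l * t := fun x => by
    obtain ⟨h, c⟩ := H.ac n mn
    obtain ⟨b, r⟩ := (by decide +kernel : ∀ x, ∃ b, x = b * nu b ∨ x = b * nu b * TG.e XK 31) x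
    obtain ⟨k, d⟩ := H.ac _ (m b)
    have u := d.mul ((c.mul d).mul c.inv)
    rw [a, ← map_mul] at u
    obtain ⟨l, s⟩ := inn_iff.1 (inn_mul.2 inn_cj.symm : inn (k * (h * k * h⁻¹)))
    refine ⟨l, H.two (m x) ?_ (e2_iff.2 ⟨1, by rw [pow_one, pow_two, q]⟩)⟩
    rcases r with rfl | rfl
    exacts [s ▸ u, by simpa only [map_mul, e, s, mul_one] using u.mul H.act]
  obtain ⟨c, -, d⟩ := (F0.syl (p2_range sL) (n := 405) (by rw [card_range sL_inj, TG.card, card_LL]; rfl) (by decide)).syl_cj_le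
    (le_top (a := ε.range.comap ι)) (piGrp_of_forall_elt fun l ⟨x, r⟩ => e2_iff.2 ⟨1, H.inj (by
      rw [pow_one, pow_two, map_mul, ← r, q, map_one])⟩)
  obtain ⟨τ, E⟩ := H.em
  have u := E.uA (P := BG.cj (ι c) ε.range) (by
    rintro _ ⟨_, ⟨x, rfl⟩, rfl⟩
    have v : ∀ l, ι l ∈ ε.range → ι c * ι l * (ι c)⁻¹ ∈ τ.range := fun l m => by
      obtain ⟨s, r⟩ := d (conj_mem_cj.2 (show l ∈ ε.range.comap ι from m))
      exact ⟨iST s, by rw [E.s, r, map_mul, map_mul, map_inv]⟩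
    change ι c * ε x * (ι c)⁻¹ ∈ _
    obtain ⟨l, r | r⟩ := k x
    · exact r ▸ v l ⟨x, r⟩
    · rw [r, ← conj_mul, H.tc, mul_inv_cancel_right]
      exact mul_mem (v l ⟨x * TG.e XK 31, by rw [map_mul, r, e, mul_assoc, H.it.sq, mul_one]⟩) ⟨_, E.et⟩)
    (by rw [card_cj, card_range i, TG.card]; rfl) (by
      rintro _ ⟨_, ⟨x, rfl⟩, rfl⟩
      rw [← map_mul, q, map_one])
  obtain ⟨_, ⟨x, rfl⟩, r⟩ := u.ge (mE (e := zc) (mem_EE.2 (by decide +kernel)))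
  replace r : ι c * ε x * (ι c)⁻¹ = ι zc := r
  obtain ⟨h, b⟩ := H.ac _ (mul_mem (mul_mem (H.mem c) mn) (inv_mem (H.mem c)))
  have z := ac_iL (ι := ι) zc
  have v := (((z.mul b).mul (z.mul b)).mul (z.mul b)).mul ((b.mul b).mul b).inv
  rw [show ι zc * (ι c * n * (ι c)⁻¹) * (ι zc * (ι c * n * (ι c)⁻¹)) * (ι zc * (ι c * n * (ι c)⁻¹)) *
    (ι c * n * (ι c)⁻¹ * (ι c * n * (ι c)⁻¹) * (ι c * n * (ι c)⁻¹))⁻¹ = ι c * (ε x * (n * ε x * n⁻¹) * (n * (n * ε x * n⁻¹) * n⁻¹)) * (ι c)⁻¹ by rw [← r]; group, a, a, ← map_mul,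
    ← map_mul] at v
  refine zh3 h (mul_inv_eq_one.1 (H.uq v ?_))
  rcases (by decide +kernel : ∀ x, x * nu x * nu (nu x) = 1 ∨ x * nu x * nu (nu x) = TG.e XK 31) x with s | s <;> rw [s]
  · simpa using ac_one
  · rw [e, H.tc, mul_inv_cancel_right]; exact H.act

theorem cls0 : ∀ s : TG XT, s * s = 1 → tL s = 1 ∧ (64 ≤ s.v → s.v = 64) ∨ tL s ∈ ZL ∧ (64 ≤ s.v → s.v ∈ [65, 97, 99, 101, 102]) ∨
    ∃ c ∈ [1, om, om * om], c * tL s * c⁻¹ ∈ BL := by decide +kernel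

local notation "ξ" => TG.e XA

theorem zA : ∀ a : TG XA, (∀ p ∈ [64, 256, 97, 128, 16], a * ξ p = ξ p * a) → a = 1 ∨ a = ξ 1 := by decide +kernel
theorem z2A : ∀ a : TG XA, a * a = 1 → (∀ p ∈ [64, 256, 97, 128, 16], a * ξ p = ξ p * a ∨ a * ξ p = ξ p * a * ξ 1) →
    a.v ∈ [0, 1, 2, 3, 64, 65, 66, 67, 256, 257, 258, 259] := by decide +kernel
theorem z2B : ∀ x ∈ [2, 64, 256], ξ x * ξ x = 1 ∧ ∀ p, ξ x * p = p * ξ x ∨ ξ x * p = p * ξ x * ξ 1 := by decide +kernel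
theorem z1A : ∀ p, ξ 1 * p = p * ξ 1 := by decide +kernel
theorem sqA : ∀ p : TG XA, (p * p).v < 16 := by decide +kernel

theorem topA {M : Subgroup (TG XA)} (k : ∀ a ∈ [ξ 64, ξ 256, ξ 97, ξ 128, ξ 16], a ∈ M) : M = ⊤ := by
  simp only [List.forall_mem_cons] at k
  obtain ⟨a, b, c, d, e, -⟩ := k
  refine TG.top (l := [ξ 64 * ξ 256 * ξ 64 * ξ 256, ξ 97 * ξ 128 * ξ 97 * ξ 128, ξ 97 * ξ 16 * ξ 97 * ξ 16,
    ξ 128 * ξ 16 * ξ 128 * ξ 16, ξ 256 * ξ 64 * ξ 256 * ξ 97, ξ 64, ξ 256, ξ 128, ξ 16]) (by decide +kernel) ?_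
  simp only [List.forall_mem_cons, List.not_mem_nil, false_imp_iff, implies_true, and_true]
  refine ⟨?_, ?_, ?_, ?_, ?_, a, b, d, e⟩ <;> repeat' first | assumption | apply mul_mem

variable {α : TG XA →* TG XA} {Y : Subgroup G}

theorem al1 (i : Function.Injective α) : α (ξ 1) = ξ 1 :=
  (zA _ fun p _ => by
    obtain ⟨q, e⟩ := Finite.surjective_of_injective i (ξ p)
    rw [← e, ← map_mul, z1A, map_mul]).resolve_left fun e => (by decide +kernel : ξ 1 ≠ 1) (i (e.trans (map_one α).symm))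

theorem al2 (i : Function.Injective α) {x : ℕ} (m : x ∈ [2, 64, 256]) :
    (α (ξ x)).v ∈ [0, 1, 2, 3, 64, 65, 66, 67, 256, 257, 258, 259] :=
  z2A _ (by rw [← map_mul, (z2B x m).1, map_one]) fun p _ => by
    obtain ⟨q, e⟩ := Finite.surjective_of_injective i (ξ p)
    rw [← e, ← al1 i, ← map_mul, ← map_mul, ← map_mul]
    exact ((z2B x m).2 q).imp (congrArg α) (congrArg α)

theorem alq (i : Function.Injective α) (a b : TG XA) : α a * α b * (α a * α b) = 1 ↔ a * b * (a * b) = 1 := by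
  rw [← map_mul, ← map_mul, map_eq_one_iff _ i]

theorem alc (i : Function.Injective α) (a b : TG XA) : α a * α b = α b * α a ↔ a * b = b * a := by
  rw [← map_mul, ← map_mul, i.eq_iff]

/-- `g` induces `α` -/
def Al (φ : TG XA →* G) (g : G) (α : TG XA →* TG XA) : Prop := ∀ a, g * φ a * g⁻¹ = φ (α a)

theorem Al.mul {g' : G} {β : TG XA →* TG XA} (a : Al φ g α) (b : Al φ g' β) : Al φ (g * g') (α.comp β) := fun x => by
  rw [MonoidHom.comp_apply, ← a, ← b]; group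

theorem al_cj (p : TG XA) : Al φ (φ p) (MulAut.conj p).toMonoidHom := fun a => by simp

/-- `w` induces `α`, lies outside the image and squares into it -/
def Wn (φ : TG XA →* G) (w : G) (α : TG XA →* TG XA) : Prop := Al φ w α ∧ w ∉ φ.range ∧ w * w ∈ φ.range

theorem Wn.adj (a : Wn φ w α) (p : TG XA) : ∃ w β, Wn φ w β ∧ ∀ x, β x = p * α x * p⁻¹ :=
  ⟨φ p * w, _, ⟨(al_cj p).mul a.1, fun m => a.2.1 ((mul_mem_cancel_left (show φ p ∈ φ.range from ⟨p, rfl⟩)).1 m), by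
    rw [show φ p * w * (φ p * w) = φ p * (w * φ p * w⁻¹) * (w * w) by group, a.1]
    exact mul_mem (mul_mem ⟨_, rfl⟩ ⟨_, rfl⟩) a.2.2⟩, fun _ => rfl⟩

noncomputable def χU : TG XA →* ℤˣ := TG.hom [-1, 1, 1, 1, 1, 1, 1, 1, 1] (by decide +kernel)

namespace Ua
variable (U : Ua ι t φ)
include U

theorem lo : Em ι t (φ.comp iTA) := U.em.lo iTA (TG.inc_inj _ _) (by decide +kernel)

theorem nb : ¬ IsConj t (t * ι bt) := fun c => by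
  obtain ⟨n, a⟩ := U.n3
  have u : φ (jE (TG.e XK 31)) = ι (p5 ^ 3) * (t * ι bt) * (ι (p5 ^ 3))⁻¹ := by
    have := U.lo.val (TG.e XT 103)
    rw [if_pos (by decide +kernel), MonoidHom.comp_apply, (by decide +kernel : iTA (TG.e XT 103) = jE (TG.e XK 31)),
      (by decide +kernel : tL (TG.e XT 103) = p5 ^ 3 * bt * (p5 ^ 3)⁻¹)] at this
    rw [this, ← U.tc bt, ← conj_mul, U.tc (p5 ^ 3), mul_inv_cancel_right, map_mul, map_mul, map_inv]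
  obtain ⟨g, e⟩ := isConj_iff.1 (c.trans (isConj_iff.2 ⟨_, u.symm⟩))
  refine U.f3 (n := g⁻¹ * n * g) (ε := (MulAut.conj g⁻¹).toMonoidHom.comp (φ.comp jE))
    ((conj_inj _).comp (U.em.inj.comp ((injective_iff_map_eq_one _).2 (by decide +kernel)))) ?_ fun x => ?_
  · change g⁻¹ * φ _ * g⁻¹⁻¹ = t
    rw [← e]; group
  · change _ * (g⁻¹ * φ _ * g⁻¹⁻¹) * _ = g⁻¹ * φ _ * g⁻¹⁻¹
    rw [← a]; group

/-- the conjugates of `t` in `S × ⟨t⟩` -/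
theorem ct {a : TG XA} (c : IsConj t (φ a)) (l : a.v < 128) : a.v ∈ [64, 65, 97, 99, 101, 102] := by
  have q : a * a = 1 := U.em.inj (by
    obtain ⟨g, e⟩ := isConj_iff.1 c
    rw [map_mul, ← e, (U.it.conj g).sq, map_one])
  let s : TG XT := ⟨a.v, l⟩
  have e : iTA s = a := rfl
  have v := U.lo.val s
  rw [MonoidHom.comp_apply, e] at v
  have cb : ∀ {l}, (∃ c ∈ [1, om, om * om], c * l * c⁻¹ ∈ BL) → ∃ k, k * bt * k⁻¹ = l := fun ⟨c, _, m⟩ =>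
    (cB _ m).elim fun k r => ⟨c⁻¹ * k, by rw [show c⁻¹ * k * bt * (c⁻¹ * k)⁻¹ = c⁻¹ * (k * bt * k⁻¹) * c by group, r.2]; group⟩
  have k := cls0 s (TG.inc_inj _ _ (show iTA (s * s) = iTA 1 by rw [map_mul, e, q, map_one]))
  split_ifs at v with h
  · rcases k with k | k | k
    · exact List.mem_cons.2 (.inl (k.2 h))
    · exact List.mem_cons_of_mem _ (k.2 h)
    · obtain ⟨k, r⟩ := cb k
      refine (U.nb (c.trans (isConj_iff.2 ⟨ι k⁻¹, ?_⟩))).elim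
      rw [v, ← r, ← U.tc, ← conj_mul, U.tc, mul_inv_cancel_right, ← map_inv, ← map_mul, ← map_mul]; congr 2; group
  · rw [v, mul_one] at c
    rcases k with k | k | k
    · rw [k.1, map_one, isConj_one_left] at c
      exact (U.it.ne_one c).elim
    · obtain ⟨k, -, r⟩ := cZ _ k.1
      exact (U.nz' (isConj_iff.2 ⟨k, r⟩) c).elim
    · obtain ⟨k, r⟩ := cb k
      have : IsConj (ι (zc * rr)) (ι rr) := isConj_iff.2 ⟨φ (TG.e XA 256), by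
        rw [map_mul, ← U.em.ez, ← U.em.er, ← map_mul, ← map_inv, ← map_mul, ← map_mul]; exact congrArg φ (by decide +kernel)⟩
      refine (U.nz' (l := zc * rr) (isConj_iff.2 ⟨p5, by decide +kernel⟩) ((c.trans (ι.map_isConj ((isConj_iff.2 ⟨k, r⟩).symm.trans
        (isConj_iff.2 ⟨p5⁻¹, by decide +kernel⟩)))).trans this.symm)).elim

theorem exAl (n : g ∈ 𝐍 φ.range) : ∃ α, Al φ g α := by
  choose α e using fun a => conj_mem_of_norm n (show φ a ∈ φ.range from ⟨a, rfl⟩)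
  exact ⟨MonoidHom.mk' α fun p q => U.em.inj (by rw [map_mul, e, e, e, map_mul, conj_mul]), fun a => (e a).symm⟩

theorem ai (a : Al φ g α) : Function.Injective α := fun p q e =>
  U.em.inj (conj_inj g ((a p).trans ((congrArg φ e).trans (a q).symm)))

theorem cc (a : Al φ g α) {x : TG XA} (c : IsConj t (φ x)) : IsConj t (φ (α x)) := c.trans (isConj_iff.2 ⟨g, a x⟩)

theorem c64 : IsConj t (φ (ξ 64)) := by rw [U.em.et]

theorem t6 (a : Al φ g α) : (α (ξ 64)).v ∈ [64, 65, 256, 257, 258, 259] :=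
  (by decide +kernel : ∀ v ∈ [0, 1, 2, 3, 64, 65, 66, 67, 256, 257, 258, 259], (v < 128 → v ∈ [64, 65, 97, 99, 101, 102]) →
    v ∈ [64, 65, 256, 257, 258, 259]) _ (al2 (U.ai a) (by simp)) (U.ct (U.cc a U.c64))

theorem t2 (a : Al φ g α) : (α (α (ξ 64))).v ∈ [64, 65] :=
  (by decide +kernel : ∀ a : TG XA, a.v ∈ [64, 65, 256, 257, 258, 259] → ∀ b : TG XA, b.v ∈ [64, 65, 256, 257, 258, 259] →
    (a * b * (a * b) = 1 ↔ ξ 64 * a * (ξ 64 * a) = 1) → b.v ∈ [64, 65]) _ (U.t6 a) _ (U.t6 (a.mul a)) (alq (U.ai a) _ _)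

theorem trv (o : ¬ 2 ∣ φ.range.index) {x : ℕ} (m : x ∈ [64, 256]) {b : ℤˣ} (h : ∀ g α, Al φ g α → χU (α (ξ x)) = b) :
    MonoidHom.transfer (χU.comp (MonoidHom.ofInjective U.em.inj).symm.toMonoidHom) (φ (ξ x)) = b := by
  obtain ⟨q, c⟩ := z2B x (List.mem_cons_of_mem _ m)
  have d : ∀ p, (φ p)⁻¹ * φ (ξ x) * φ p = φ (ξ x) ∨ (φ p)⁻¹ * φ (ξ x) * φ p = φ (ξ x) * φ (ξ 1) := fun p => by
    rcases c p with r | r <;> rw [mul_assoc, ← map_mul, r] <;> simp [mul_assoc]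
  have k : ∀ p ∈ [2, 16], φ (ξ p) ∈ φ.range ⊓ 𝐂₁ (φ (ξ x)) := fun p n => ⟨⟨_, rfl⟩, mem_cent1.2 (by
    rw [← map_mul, (by decide +kernel : ∀ x ∈ [64, 256], ∀ p ∈ [2, 16], ξ p * ξ x = ξ x * ξ p) x m p n, map_mul])⟩
  refine tr (T := φ.range ⊓ 𝐂₁ (φ (ξ x))) o _ (by rw [← map_mul, q, map_one]) (p2_range φ).isPGroup ⟨⟨_, rfl⟩, self_mem_cent1 _⟩
    inf_le_right inf_le_left ?_ ?_ fun g l hg => ?_
  · rintro _ ⟨p, rfl⟩
    refine mem_norm_of_cj_le ?_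
    rintro _ ⟨_, ⟨⟨a, rfl⟩, n⟩, rfl⟩
    refine ⟨⟨p * a * p⁻¹, by simp⟩, mem_cent1.2 ?_⟩
    have : φ a ∈ 𝐂₁ ((φ p)⁻¹ * φ (ξ x) * φ p) := by
      rcases d p with r | r <;> rw [r]
      exacts [n, cent1_mul_of n (mem_cent1.2 (by rw [← map_mul, ← z1A, map_mul]))]
    change φ p * φ a * (φ p)⁻¹ * _ = _ * (φ p * φ a * (φ p)⁻¹)
    calc _ = φ p * (φ a * ((φ p)⁻¹ * φ (ξ x) * φ p)) * (φ p)⁻¹ := by group
      _ = _ := by rw [mem_cent1.1 this]; group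
  · rintro _ ⟨p, rfl⟩
    rcases d p with r | r <;> rw [r]
    · simp [one_mem]
    · rw [inv_mul_cancel_left, (by decide +kernel : ξ 1 = ξ 2 * ξ 16 * (ξ 2)⁻¹ * (ξ 16)⁻¹), map_mul, map_mul, map_mul, map_inv, map_inv]
      exact commutator_mem_commutator (k 2 (by simp)) (k 16 (by simp))
  · obtain ⟨α, a⟩ := U.exAl (mem_norm_of_cj_le l)
    rw [← h _ α a]
    exact congrArg χU ((MulEquiv.symm_apply_eq _).2 (Subtype.ext (by simpa using a (ξ x) : g⁻¹ * φ (ξ x) * g = φ (α (ξ x)))))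

theorem sy (s : Sm Y ι t) : 2 ∣ φ.range.index := by
  by_contra o
  have S : Syl 2 φ.range ⊤ := syl_mk p2 le_top (p2_range φ) (by rwa [relIndex_top_right])
  have k : ∀ g α, Al φ g α → (α (ξ 64)).v ∈ [64, 65] := fun g α a => by
    have n : g ∈ 𝐍 φ.range := mem_norm_of_cj_le (by rintro _ ⟨_, ⟨x, rfl⟩, rfl⟩; exact ⟨_, (a x).symm⟩)
    obtain ⟨y, u, y1, u1, ey, eu, r⟩ := exists_piPart {2} g
    obtain ⟨p, rfl⟩ := S.mem_of_norm (mem_top y) (zpowers_le.2 n y1) ey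
    obtain ⟨β, b⟩ := U.exAl (zpowers_le.2 n u1)
    have c : u ∈ 𝐂₁ t := mem_of_sq_mem (eo_iff.2 eu) (mem_of_sq_mem (eo_iff.2 (eu.mul eu rfl)) (mem_cent1.2 (by
      have d := ((b.mul b).mul (b.mul b)) (ξ 64)
      rcases (by decide +kernel : ∀ a : TG XA, a.v ∈ [64, 65] → a = ξ 64 ∨ a = ξ 64 * ξ 1 ∧ a * ξ 1 = ξ 64) _ (U.t2 b) with q | ⟨q, q'⟩
      · simp only [MonoidHom.comp_apply, q, U.em.et] at d
        exact mul_inv_eq_iff_eq_mul.1 d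
      · simp only [MonoidHom.comp_apply] at d
        rw [q, map_mul, map_mul, al1 (U.ai b), al1 (U.ai b), q', U.em.et] at d
        exact mul_inv_eq_iff_eq_mul.1 d)))
    rw [show α (ξ 64) = p * ξ 64 * p⁻¹ from U.em.inj (by
      rw [← a, ← r, map_mul, map_mul, map_inv, U.em.et, mul_assoc (φ p), mem_cent1.1 c]; group)]
    exact (by decide +kernel : ∀ p, (p * ξ 64 * p⁻¹).v ∈ [64, 65]) p
  have v1 := U.trv o (x := 64) (b := 1) (by simp) fun g α a =>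
    (by decide +kernel : ∀ a : TG XA, a.v ∈ [64, 65] → χU a = 1) _ (k g α a)
  have v2 := U.trv o (x := 256) (b := -1) (by simp) fun g α a =>
    (by decide +kernel : ∀ a : TG XA, a.v ∈ [64, 65] → ∀ b : TG XA, b.v ∈ [0, 1, 2, 3, 64, 65, 66, 67, 256, 257, 258, 259] →
      ¬ a * b * (a * b) = 1 → χU b = -1) _ (k g α a) _ (al2 (U.ai a) (by simp)) (mt (alq (U.ai a) _ _).1 (by decide +kernel))
  rw [U.em.et] at v1
  have := (sup_le (s.der.1.trans (Abelianization.commutator_subset_ker _)) (zpowers_le.2 v1)).trans' s.tp.ge (mem_top (φ (ξ 256)))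
  exact absurd (v2.symm.trans this) (by decide)

theorem wq (a : Wn φ w α) : ∃ p, w * w = φ p ∧ ∀ x, α (α x) = p * x * p⁻¹ := by
  obtain ⟨p, e⟩ := a.2.2
  exact ⟨p, e.symm, fun x => U.em.inj (by rw [map_mul, map_mul, map_inv, e]; exact ((a.1.mul a.1) x).symm)⟩

theorem w0 (a : Wn φ w α) : α (ξ 64) ≠ ξ 64 := fun e => by
  have n : w ∈ 𝐍 φ.range := mem_norm_of_cj_le (by rintro _ ⟨_, ⟨x, rfl⟩, rfl⟩; exact ⟨_, (a.1 x).symm⟩)
  have l : (φ.comp iUA).range ≤ φ.range := by rintro _ ⟨x, rfl⟩; exact ⟨_, rfl⟩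
  refine a.2.1 (l (U.mx (two_sup (p2_range φ) n a.2.1 a.2.2).1 (l.trans le_sup_left) ?_ (.inl ?_)
    (mem_sup_right (mem_zpowers w)) (mem_cent1.2 (mul_inv_eq_iff_eq_mul.1 ?_))))
  · rintro _ ⟨x, rfl⟩
    rw [mem_cent1, ← U.em.et, MonoidHom.comp_apply, ← map_mul, (by decide +kernel : ∀ x, iUA x * ξ 64 = ξ 64 * iUA x), map_mul]
  · rw [card_range (U.em.inj.comp (TG.inc_inj _ _) : Function.Injective (φ.comp iUA)), TG.card]; rfl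
  · simpa only [e, U.em.et] using a.1 (ξ 64)

theorem w1 (a : Wn φ w α) : ∃ w α, Wn φ w α ∧ α (ξ 64) = ξ 256 ∧ α (ξ 256) = ξ 64 := by
  obtain ⟨p, -, e⟩ := (by decide +kernel : ∀ a : TG XA, a.v ∈ [64, 65, 256, 257, 258, 259] → ∃ p ∈ [0, 64, 256],
    ξ p * a * (ξ p)⁻¹ = ξ 64 ∨ ξ p * a * (ξ p)⁻¹ = ξ 256 ∨ ξ p * a * (ξ p)⁻¹ = ξ 258) _ (U.t6 a.1)
  obtain ⟨w, β, b, k⟩ := a.adj (ξ p)
  rw [← k] at e
  have i := U.ai b.1
  have c := U.cc b.1 U.c64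
  rcases e with e | e | e <;> rw [e] at c
  · exact (U.w0 b e).elim
  · obtain ⟨q, -, r⟩ := (by decide +kernel : ∀ b : TG XA, b.v ∈ [0, 1, 2, 3, 64, 65, 66, 67, 256, 257, 258, 259] →
      ¬ ξ 256 * b * (ξ 256 * b) = 1 → (b.v < 128 → b.v ∈ [64, 65, 97, 99, 101, 102]) → ∃ q ∈ [0, 256],
        ξ q * ξ 256 * (ξ q)⁻¹ = ξ 256 ∧ ξ q * b * (ξ q)⁻¹ = ξ 64) _ (al2 i (x := 256) (by simp))
      (fun r => (by decide +kernel : ¬ ξ 64 * ξ 256 * (ξ 64 * ξ 256) = 1) ((alq i _ _).1 (by rwa [e]))) (U.ct (U.cc b.1 c))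
    obtain ⟨w, γ, d, k⟩ := b.adj (ξ q)
    exact ⟨w, γ, d, by rw [k, e, r.1], by rw [k, r.2]⟩
  · have u := U.t2 b.1
    have v := U.ct (U.cc b.1 (c.trans U.g2.symm))
    rw [e] at u
    rw [(by decide +kernel : ξ 260 = ξ 258 * (ξ 58 * ξ 58)), map_mul, map_mul] at v
    rcases (by decide +kernel : ∀ b : TG XA, b.v ∈ [64, 65] → ∀ s : TG XA, s.v < 16 →
      ((b * s).v < 128 → (b * s).v ∈ [64, 65, 97, 99, 101, 102]) → s = 1 ∨ s = ξ 1) _ u _ (sqA _) v with r | r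
    · exact absurd (i (by rw [map_mul, r, map_one])) (by decide +kernel : ξ 58 * ξ 58 ≠ 1)
    · exact absurd (i (by rw [map_mul, r, al1 i])) (by decide +kernel : ξ 58 * ξ 58 ≠ ξ 1)

theorem e8 (a : Al φ w α) (h1 : α (ξ 64) = ξ 256) (h2 : α (ξ 256) = ξ 64) : (α (ξ 16)).v ∈ [16, 17, 20, 21, 24, 25, 30, 31] := by
  have i := U.ai a
  refine (by decide +kernel : ∀ e : TG XA, e * e = 1 → e * ξ 256 = ξ 256 * e → e * ξ 64 = ξ 64 * e → ∀ u : TG XA, u.v < 16 →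
    u.v ∈ [0, 1, 2, 3, 64, 65, 66, 67, 256, 257, 258, 259] → ¬ e * u = u * e → e.v ∈ [16, 17, 20, 21, 24, 25, 30, 31]) _
    (by rw [← map_mul, (by decide +kernel : ξ 16 * ξ 16 = 1), map_one]) (h1 ▸ (alc i _ _).2 (by decide +kernel))
    (h2 ▸ (alc i _ _).2 (by decide +kernel)) _ ?_ (al2 i (x := 2) (by simp)) (mt (alc i _ _).1 (by decide +kernel))
  rw [(by decide +kernel : ξ 2 = ξ 97 * ξ 128 * (ξ 97 * ξ 128)), map_mul]
  exact sqA _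

theorem w2 (a : Wn φ w α) (h1 : α (ξ 64) = ξ 256) (h2 : α (ξ 256) = ξ 64) :
    ∃ w α, Wn φ w α ∧ α (ξ 64) = ξ 256 ∧ α (ξ 256) = ξ 64 ∧ α (ξ 97) = ξ 128 := by
  have i := U.ai a.1
  obtain ⟨g, g1, g2, g3⟩ := U.g1
  obtain ⟨p, -, p1, p2, e⟩ := (by decide +kernel : ∀ c : TG XA, c * c = 1 → c * ξ 256 = ξ 256 * c → c * ξ 64 = ξ 64 * c →
    (c.v < 128 → c.v ∈ [64, 65, 97, 99, 101, 102]) → ∀ e : TG XA, e.v ∈ [16, 17, 20, 21, 24, 25, 30, 31] → (c * e) ^ 4 = 1 →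
      ∃ p ∈ [0, 4, 8, 16, 20, 24], ξ p * ξ 256 * (ξ p)⁻¹ = ξ 256 ∧ ξ p * ξ 64 * (ξ p)⁻¹ = ξ 64 ∧
        (ξ p * c * (ξ p)⁻¹ = ξ 97 ∨ ξ p * c * (ξ p)⁻¹ = ξ 128 ∨ ξ p * c * (ξ p)⁻¹ = ξ 128 * ξ 1)) (α (ξ 97))
    (by rw [← map_mul, (by decide +kernel : ξ 97 * ξ 97 = 1), map_one]) (h1 ▸ (alc i _ _).2 (by decide +kernel))
    (h2 ▸ (alc i _ _).2 (by decide +kernel)) (U.ct (U.cc a.1 (isConj_iff.2 ⟨g, g2⟩))) _ (U.e8 a.1 h1 h2)
    (by rw [← map_mul, ← map_pow, (by decide +kernel : (ξ 97 * ξ 16) ^ 4 = 1), map_one])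
  obtain ⟨w, β, b, k⟩ := a.adj (ξ p)
  rw [← k] at e
  rw [← h1, ← k, h1] at p1
  rw [← h2, ← k, h2] at p2
  rcases e with e | e | e
  · have b1 := b.1 (ξ 97)
    have b2 := b.1 (ξ 64)
    rw [e] at b1
    rw [p1, U.em.et] at b2
    obtain ⟨h, c⟩ := U.ac (g * w * g⁻¹) (mem_cent1.2 (mul_inv_eq_iff_eq_mul.1 (by
      rw [← g1, conj_mul, conj_inv, conj_mul, b1])))
    have d := (c.mul (U.lo.ac U.toHy (TG.e XT 97)).2).mul c.inv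
    rw [MonoidHom.comp_apply, (by decide +kernel : iTA (TG.e XT 97) = ξ 97), ← g2, conj_mul, conj_inv, conj_mul, b2, g3] at d
    exact (s0_out (U.uq d U.ga ▸ inn_cj.2 (inn_iL _))).elim
  · exact ⟨w, β, b, p1, p2, e⟩
  · obtain ⟨q, -, r⟩ := U.wq b
    have c := U.ct (U.cc b.1 ((p1 ▸ U.cc b.1 U.c64).trans (isConj_iff.2 ⟨g, g3⟩)))
    rw [eq_mul_inv_of_mul_eq e.symm, map_mul, map_inv, r, al1 (U.ai b.1)] at c
    exact ((by decide +kernel : ∀ q, ¬ ((q * ξ 97 * q⁻¹ * (ξ 1)⁻¹).v < 128 →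
      (q * ξ 97 * q⁻¹ * (ξ 1)⁻¹).v ∈ [64, 65, 97, 99, 101, 102])) q c).elim

theorem w3 (a : Wn φ w α) (h1 : α (ξ 64) = ξ 256) (h2 : α (ξ 256) = ξ 64) (h3 : α (ξ 97) = ξ 128) : ∃ w, w ∉ φ.range ∧
    (∀ p ∈ [(ξ 64, ξ 256), (ξ 256, ξ 64), (ξ 97, ξ 128), (ξ 128, ξ 97), (ξ 16, ξ 16)], w * φ p.1 * w⁻¹ = φ p.2) ∧
    (w * w = φ 1 ∨ w * w = φ (ξ 1)) := by
  obtain ⟨q, -, r⟩ := U.wq a
  obtain ⟨p, -, p1, p2, p3, p4⟩ := (by decide +kernel : ∀ q : TG XA, ¬ ξ 128 * (q * ξ 97 * q⁻¹) * (ξ 128 * (q * ξ 97 * q⁻¹)) = 1 →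
    ∃ p ∈ [0, 8], ξ p * ξ 256 * (ξ p)⁻¹ = ξ 256 ∧ ξ p * ξ 64 * (ξ p)⁻¹ = ξ 64 ∧ ξ p * ξ 128 * (ξ p)⁻¹ = ξ 128 ∧
      ξ p * (q * ξ 97 * q⁻¹) * (ξ p)⁻¹ = ξ 97) q (by
    rw [← r, h3]; exact h3 ▸ mt (alq (U.ai a.1) (ξ 97) _).1 (by rw [h3]; decide +kernel))
  obtain ⟨w, β, b, k⟩ := a.adj (ξ p)
  rw [← h1, ← k, h1] at p1
  rw [← h2, ← k, h2] at p2
  rw [← h3, ← k, h3] at p3
  rw [← r, h3, ← k] at p4
  obtain ⟨p, -, s1, s2, s3, s4, s5⟩ := (by decide +kernel : ∀ e : TG XA, e.v ∈ [16, 17, 20, 21, 24, 25, 30, 31] →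
    ∃ p ∈ [0, 2, 100, 102, 136, 138, 236, 238], ξ p * ξ 256 * (ξ p)⁻¹ = ξ 256 ∧ ξ p * ξ 64 * (ξ p)⁻¹ = ξ 64 ∧
      ξ p * ξ 128 * (ξ p)⁻¹ = ξ 128 ∧ ξ p * ξ 97 * (ξ p)⁻¹ = ξ 97 ∧ ξ p * e * (ξ p)⁻¹ = ξ 16) _ (U.e8 b.1 p1 p2)
  obtain ⟨w, γ, c, k⟩ := b.adj (ξ p)
  rw [← p1, ← k, p1] at s1
  rw [← p2, ← k, p2] at s2
  rw [← p3, ← k, p3] at s3
  rw [← p4, ← k, p4] at s4
  rw [← k] at s5
  obtain ⟨q, e, r⟩ := U.wq c
  refine ⟨w, c.2.1, by simp only [List.forall_mem_cons, c.1 _, s1, s2, s3, s4, s5]; simp, ?_⟩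
  rw [e]
  refine (zA q ?_).imp (congrArg φ) (congrArg φ)
  simp only [List.forall_mem_cons, ← mul_inv_eq_iff_eq_mul, ← r, s1, s2, s3, s4, s5]; simp

theorem ub {X : TD} [X.OK] (j : TG XA →* TG X) (i : Function.Injective j) (c : X.n = 1024) (b : TG XA) (n : w ∉ φ.range)
    (a : ∀ p ∈ [(ξ 64, ξ 256), (ξ 256, ξ 64), (ξ 97, ξ 128), (ξ 128, ξ 97), (ξ 16, ξ 16)], w * φ p.1 * w⁻¹ = φ p.2) (q : w * w = φ b)
    (k : (∀ p, j p ≠ TG.e X 512) ∧ (∀ p ∈ [(ξ 64, ξ 256), (ξ 256, ξ 64), (ξ 97, ξ 128), (ξ 128, ξ 97), (ξ 16, ξ 16)],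
      TG.e X 512 * j p.1 * (TG.e X 512)⁻¹ = j p.2) ∧ TG.e X 512 * TG.e X 512 = j b ∧
      ∀ a ∈ [1, 2, 4, 8, 16, 32, 64, 128], TG.e X a = j (ξ a)) : ∃ ψ : TG X →* G, Ub ι t ψ := by
  obtain ⟨ψ, u, -, v⟩ := ext2 j i (by rw [TG.card, TG.card, c]; rfl) _ k.1 φ w [(ξ 64, ξ 256), (ξ 256, ξ 64), (ξ 97, ξ 128),
    (ξ 128, ξ 97), (ξ 16, ξ 16)] topA k.2.1 a b k.2.2.1 q
  have e : ∀ a ∈ [1, 2, 4, 8, 16, 32, 64, 128], ψ (TG.e X a) = φ (ξ a) := fun a m => by rw [k.2.2.2 a m, u]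
  simp only [List.forall_mem_cons] at e
  exact ⟨ψ, U.toHy, ⟨v U.em.inj fun p r => n ⟨p, r⟩, e.1.trans U.em.ez, e.2.1.trans U.em.eb, e.2.2.1.trans U.em.e2,
    e.2.2.2.1.trans U.em.ea, e.2.2.2.2.1.trans U.em.ev, e.2.2.2.2.2.1.trans U.em.er, e.2.2.2.2.2.2.1.trans U.em.et⟩,
    e.2.2.2.2.2.2.2.1 ▸ U.ga, U.nb⟩

theorem fin (s : Sm Y ι t) : (∃ ψ : TG XB0 →* G, Ub ι t ψ) ∨ ∃ ψ : TG XB1 →* G, Ub ι t ψ := by
  obtain ⟨w, n, m, q⟩ := (two_step (p2_range φ)).resolve_left (not_not.2 (U.sy s))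
  obtain ⟨α, a⟩ := U.exAl n
  obtain ⟨w, α, a, h1, h2⟩ := U.w1 ⟨a, m, q⟩
  obtain ⟨w, α, a, h1, h2, h3⟩ := U.w2 a h1 h2
  obtain ⟨w, n, a, q | q⟩ := U.w3 a h1 h2 h3
  exacts [.inl (U.ub iA0 (TG.inc_inj _ _) rfl _ n a q (by decide +kernel)),
    .inr (U.ub iA1 (TG.inc_inj _ _) rfl _ n a q (by decide +kernel))]

end Ua

end CF.Gu
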