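import Cfsg.Agent.Gu.U3a
import Cfsg.Agent.Gu.A2

/-! Case II-u: fusion and transfer over a tower of order `2¹⁰`. -/

set_option autoImplicit false
set_option linter.unusedSectionVars false
set_option maxRecDepth 100000

namespace CF.Gu.U3
open Subgroup Cfsg CF.BG CF.Sig CF.GW CF.Ab2 TG
open scoped commutatorElement

universe u
variable {G : Type u} [Group G] [Finite G] {ι : LL →* G} {t g x a : G} {M S P Y : Subgroup G} {X : TD} [X.OK] {φ : TG X →* G}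
  {δ : TG X →* TG XD} {rp : TG X → ℕ} {RL : List ℕ}

theorem cnt_le (i : Function.Injective φ) (g : G) (Q Q' : TG X → Prop) [DecidablePred Q] [DecidablePred Q']
    (h : ∀ a, Q a → ∃ b, Q' b ∧ φ b = g * φ a * g⁻¹) :
    cnt Q ≤ cnt Q' ∧ (cnt Q' ≤ cnt Q → ∀ b, Q' b → ∃ a, Q a ∧ φ b = g * φ a * g⁻¹) := by
  choose F p q using h
  let F' : {a // Q a} → {a // Q' a} := fun a => ⟨F a.1 a.2, p a.1 a.2⟩
  have j : Function.Injective F' := fun a b e => Subtype.ext (i ((MulAut.conj g).injective (by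
    change g * _ * g⁻¹ = g * _ * g⁻¹
    rw [← q a.1 a.2, ← q b.1 b.2]
    exact congrArg (fun c => φ c.1) e)))
  rw [← card_cnt, ← card_cnt]
  refine ⟨Nat.card_le_card_of_injective F' j, fun l b m => ?_⟩
  obtain ⟨a, e⟩ := (j.bijective_of_nat_card_le l).2 ⟨b, m⟩
  exact ⟨a.1, a.2, by rw [← q a.1 a.2]; exact congrArg (fun c => φ c.1) e.symm⟩

theorem card_cen (i : Function.Injective φ) (y : TG X) : ♯((𝐂₁ y).map φ) = cnt fun a => a * y = y * a :=
  (card_map i).trans (card_sub _ _ fun _ => mem_cent1)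

theorem cm_cj (i : Function.Injective φ) {a b c d : TG X} (e : φ b = g * φ a * g⁻¹) (e' : φ d = g * φ c * g⁻¹)
    (k : a * c = c * a) : b * d = d * b := i (by rw [map_mul, map_mul, e, e', conj_mul, conj_mul, ← map_mul, k, map_mul])

theorem sq_cj (i : Function.Injective φ) {a b : TG X} (e : φ b = g * φ a * g⁻¹) (k : a * a = 1) : b * b = 1 :=
  i (by rw [map_mul, e, conj_mul, ← map_mul, k]; simp)

theorem tr_amb (lS : S ≤ Y) (hS : ¬ 2 ∣ S.relIndex Y) (hc : ⁅S, S⁆ ≤ M) (x2 : x * x = 1) (hP : P2 P) (lP : P ≤ Y) (xP : x ∈ P)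
    (Px : P ≤ 𝐂₁ x) (aS : a ∈ S) (h : ∀ g, (∀ p ∈ P, g * p * g⁻¹ ∈ S) → a⁻¹ * (g * x * g⁻¹) ∈ M) (hx : x ∈ ⁅Y, Y⁆) : a ∈ M := by
  have c : P.subgroupOf Y ≤ 𝐂₁ (⟨x, lP xP⟩ : Y) := fun p m => mem_cent1.2 (Subtype.ext (mem_cent1.1 (Px m)))
  refine tr_sub (G := Y) (S := S.subgroupOf Y) (M := M.subgroupOf Y) (T := P.subgroupOf Y) (P := P.subgroupOf Y)
    (x := ⟨x, lP xP⟩) (a := ⟨a, lS aS⟩) hS (commutator_le.2 fun _ m _ m' => hc (commutator_mem_commutator m m'))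
    (Subtype.ext x2) hP.isPGroup.comap_subtype xP c le_rfl le_normalizer (fun p m => by
      rw [mul_assoc p⁻¹, ← mem_cent1.1 (c m)]; simp [one_mem]) aS (fun g l => ?_) ?_
  · have := h g⁻¹ fun p m => l ⟨⟨p, lP m⟩, m, rfl⟩
    rwa [inv_inv] at this
  · rw [← map_subtype_commutator] at hx
    obtain ⟨y, m, e⟩ := hx
    exact (Subtype.ext e : y = ⟨x, lP xP⟩) ▸ m

/-- the hypotheses of case II-u -/
structure Cu (ι : LL →* G) (t : G) (φ : TG X →* G) (δ : TG X →* TG XD) (rp : TG X → ℕ) (RL : List ℕ) : Prop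
  extends Ub ι t φ, Fa X δ rp RL

namespace Cu
variable (C : Cu ι t φ δ rp RL)
include C

theorem m {a b c : ℕ} (h : (a, b, c) ∈ [(33, 32, 1), (36, 4, 32), (66, 2, 64), (68, 4, 64), (72, 8, 64), (80, 16, 64), (96, 32, 64),
    (97, 33, 64), (65, 64, 1), (129, 1, 128), (164, 36, 128), (228, 164, 64), (193, 129, 64), (192, 128, 64)] := by decide) :
    φ (e X a) = φ (e X b) * φ (e X c) := by rw [C.ml _ h, map_mul]

theorem ic {y : TG X} (h : y * y = 1) : IsConj (φ y) (φ (e X (rp y))) :=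
  (C.rep y h).elim fun s k => φ.map_isConj (isConj_iff.2 ⟨s, k.1⟩)

theorem r {a b : ℕ} (h : (a, b) ∈ [(33, 32), (129, 96), (193, 192), (128, 97), (256, 64), (65, 64)] := by decide) :
    IsConj (φ (e X a)) (φ (e X b)) := (show rp (e X a) = b from (C.rl _ h).2) ▸ C.ic (C.rl _ h).1

theorem cl {a b c : LL} (h : c * a * c⁻¹ = b) : IsConj (ι a) (ι b) ∧ IsConj (ι a * t) (ι b * t) :=
  ⟨ι.map_isConj (isConj_iff.2 ⟨c, h⟩), isConj_iff.2 ⟨ι c, by
    rw [← h, map_mul, map_mul, map_inv, ← conj_mul, C.tc, mul_inv_cancel_right]⟩⟩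

theorem cb {k : ℕ} (h : k ∈ [2, 4, 8, 16, 32]) : IsConj (φ (e X k)) (ι bt) ∧ IsConj (φ (e X k) * t) (ι bt * t) := by
  have := cjL.1
  simp only [List.forall_mem_cons] at this
  simp only [List.mem_cons, List.not_mem_nil, or_false] at h
  rcases h with rfl | rfl | rfl | rfl | rfl
  exacts [C.em.eb ▸ C.cl this.1, C.em.e2 ▸ C.cl this.2.1, C.em.ea ▸ C.cl this.2.2.1, C.em.ev ▸ C.cl this.2.2.2.1,
    C.em.er ▸ C.cl this.2.2.2.2.1]

theorem e33 : φ (e X 33) = ι (rr * zc) := by rw [C.m (b := 32) (c := 1), C.em.er, C.em.ez, map_mul]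

theorem zb : IsConj (ι zc) (ι bt) := ((C.cl cjL.2.1).1.trans (C.e33 ▸ C.r (a := 33) (b := 32))).trans (C.cb (by decide)).1

theorem iz {k : ℕ} (h : k ∈ [1, 2, 4, 16, 32]) : IsConj (ι zc) (φ (e X k)) := by
  rcases List.mem_cons.1 h with rfl | h
  · rw [C.em.ez]
  · exact C.zb.trans (C.cb (by revert k; decide)).1.symm

theorem cg (y : G) (c : ∀ l, ι l * y = y * ι l) : IsConj (φ (e X 164) * y) (φ (e X 129) * y) := isConj_iff.2 ⟨ι (th * th * p5 * rr), by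
  rw [C.m (a := 164) (b := 36) (c := 128), C.m (a := 36) (b := 4) (c := 32), C.m (a := 129) (b := 1) (c := 128), C.em.e2, C.em.er,
    C.em.ez, ← cjL.2.2, map_mul _ _ (aut _ _), map_mul _ _ (b2 * rr), map_mul _ b2, ← C.ga, mul_assoc, mul_assoc _ y,
    ← map_inv, ← c]
  group⟩

theorem nt {k : ℕ} (h : k ∈ [0, 1, 2, 4, 16, 32, 66, 68, 72, 80, 96, 164]) : ¬ IsConj t (φ (e X k)) := fun q => by
  have n : ¬ IsConj t (ι zc) := C.toHy.nz' (.refl _)
  have b : ∀ {j k : ℕ}, j ∈ [2, 4, 8, 16, 32] → φ (e X k) = φ (e X j) * φ (e X 64) → ¬ IsConj t (φ (e X k)) := fun m r q =>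
    C.nb (by rw [r, C.em.et] at q; exact C.tc bt ▸ q.trans (C.cb m).2)
  simp only [List.mem_cons, List.not_mem_nil, or_false] at h
  rcases h with rfl | rfl | rfl | rfl | rfl | rfl | rfl | rfl | rfl | rfl | rfl | rfl
  · rw [C.e0.1, map_one, isConj_one_left] at q
    exact C.it.ne_one q
  iterate 5 exact n (q.trans (C.iz (by decide)).symm)
  exacts [b (j := 2) (by decide) C.m q, b (j := 4) (by decide) C.m q, b (j := 8) (by decide) C.m q, b (j := 16) (by decide) C.m q,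
    b (j := 32) (by decide) C.m q, b (j := 32) (k := 96) (by decide) C.m ((q.trans (by simpa using C.cg 1 (by simp))).trans C.r)]

theorem t97 : IsConj t (φ (e X 97)) := by
  have := C.r (a := 65) (b := 64)
  rw [C.m (a := 65) (b := 64) (c := 1), C.em.et, C.em.ez, ← C.tc] at this
  rw [C.m (b := 33) (c := 64), C.e33, C.em.et]
  exact this.symm.trans (C.cl cjL.2.1).2

theorem cT : (𝐂₁ (e X 64)).map φ ≤ 𝐂₁ t := by
  rintro _ ⟨a, m, rfl⟩
  rw [mem_cent1, ← C.em.et, ← map_mul, mem_cent1.1 m, map_mul]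

theorem mxT (p : P2 P) (l : ∀ a, a * e X 64 = e X 64 * a → φ a ∈ P) (m : g ∈ P) (c : g * t = t * g) : g ∈ φ.range := by
  obtain ⟨a, -, rfl⟩ := C.toHy.mx (T := (𝐂₁ (e X 64)).map φ) p (by rintro _ ⟨a, m, rfl⟩; exact l a (mem_cent1.1 m)) C.cT
    (.inl ((card_cen C.em.inj _).trans C.c64)) m (mem_cent1.2 c)
  exact ⟨a, rfl⟩

theorem adj {y z : TG X} (h : φ y = g * φ z * g⁻¹) (q : z * z = 1) :
    ∃ s, φ (e X (rp y)) = φ s * g * φ z * (φ s * g)⁻¹ ∧ rp y ∈ RL :=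
  (C.rep y (sq_cj C.em.inj h q)).imp fun s k => ⟨by rw [← k.1, map_mul, map_mul, map_inv, h]; group, k.2⟩

theorem t2 : e X 64 * e X 64 = 1 := C.em.inj (by rw [map_mul, C.em.et, C.it.sq, map_one])

theorem clB (l : ∀ a, a * e X 64 = e X 64 * a → g * φ a * g⁻¹ ∈ φ.range) : ∃ s, φ s * g * t * (φ s * g)⁻¹ = t := by
  obtain ⟨y, hy⟩ := l _ rfl
  obtain ⟨s, k, m⟩ := C.adj hy C.t2
  have l' : ∀ a, a * e X 64 = e X 64 * a → φ s * g * φ a * (φ s * g)⁻¹ ∈ φ.range := fun a c => by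
    convert mul_mem (mul_mem (⟨s, rfl⟩ : φ s ∈ φ.range) (l a c)) (inv_mem ⟨s, rfl⟩) using 1; group
  rcases C.big _ m (C.c64 ▸ (cnt_le C.em.inj (φ s * g) _ _ fun a c =>
    (l' a c).imp fun b q => ⟨cm_cj C.em.inj q k c, q⟩).1) with q | q | ⟨a, -, q⟩
  · exact (C.nt (by revert q; generalize rp y = j; revert j; decide) (isConj_iff.2 ⟨_, C.em.et ▸ k.symm⟩)).elim
  · exact ⟨s, by rw [q, C.em.et] at k; exact k.symm⟩
  · have b : (φ s * g)⁻¹ * φ (e X a) * (φ s * g) * ((φ s * g)⁻¹ * φ (e X a) * (φ s * g)) = t := by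
      rw [← C.em.et, show ∀ u v : G, u⁻¹ * v * u * (u⁻¹ * v * u) = u⁻¹ * (v * v) * u from fun u v => by group, ← map_mul, q, k]
      group
    obtain ⟨c, r⟩ := C.mxT (P := cj (φ s * g)⁻¹ φ.range) ((p2_range φ).map _) (fun a c => mem_cj_inv.2 (l' a c))
      (g := (φ s * g)⁻¹ * φ (e X a) * (φ s * g)) (mem_cj_inv.2 ⟨e X a, by group⟩) (by rw [← b]; simp only [mul_assoc])
    exact (C.nsq c (C.em.inj (by rw [map_mul, r, b, C.em.et]))).elim

theorem syl : ¬ 2 ∣ φ.range.index := (two_step (p2_range φ)).resolve_right fun ⟨v, n, m, s⟩ => by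
  obtain ⟨y, k⟩ := C.clB (g := v) fun a _ => conj_mem_of_norm n ⟨a, rfl⟩
  exact m ((mul_mem_cancel_left (⟨y, rfl⟩ : φ y ∈ φ.range)).1 (C.mxT (two_sup (p2_range φ) n m s).1
    (fun a _ => mem_sup_left ⟨a, rfl⟩) (mul_mem (mem_sup_left ⟨y, rfl⟩) (mem_sup_right (mem_zpowers v)))
    (mul_inv_eq_iff_eq_mul.1 k)))

theorem sy : Syl 2 φ.range ⊤ := syl_mk p2 le_top (p2_range φ) (by simpa using C.syl)

theorem nG : t ∉ commutator G := fun h => by
  let χ := (kD 1).comp δ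
  obtain ⟨y, a, b⟩ := tr_amb (Y := ⊤) (S := φ.range) (M := χ.ker.map φ) (P := (𝐂₁ (e X 64)).map φ) le_top (C.sy.not_dvd p2) (by
    rw [MonoidHom.range_eq_map, ← map_commutator]
    exact map_mono (Abelianization.commutator_subset_ker χ)) C.it.sq ((p2_range φ).le (map_le_range _ _)) le_top
    ⟨_, self_mem_cent1 _, C.em.et⟩ C.cT ⟨_, C.em.et⟩ (fun g l => by
      obtain ⟨s, k⟩ := C.clB fun a c => l _ ⟨a, mem_cent1.2 c, rfl⟩
      refine ⟨(e X 64)⁻¹ * (s⁻¹ * e X 64 * s), ?_, ?_⟩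
      · change χ _ = 1
        simp only [map_mul, map_inv, inv_mul_cancel_comm, inv_mul_cancel]
      · simp only [map_mul, map_inv, C.em.et]
        conv_lhs => arg 2; rw [← k]
        group) h
  rw [C.em.inj (b.trans C.em.et.symm)] at a
  change kD 1 (δ _) = 1 at a
  rw [C.dv.2.1, (kD_e 1).1] at a
  exact absurd a (by decide)

theorem sgn (s : Sm Y ι t) : ∃ (σ : G →* ℤˣ) (ε : ℤˣ), (∀ g, σ g = 1 ↔ g ∈ Y) ∧ σ t = -1 ∧ ∀ a, σ (φ a) = kD ε (δ a) := by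
  classical
  obtain ⟨n, -, i⟩ := s.der.2 C.nG
  let σ : G →* ℤˣ := MonoidHom.mk' (fun g => if g ∈ Y then 1 else -1) fun a b => by
    simp only [mul_mem_iff_of_index_two (i C.it.sq)]
    by_cases p : a ∈ Y <;> by_cases q : b ∈ Y <;> simp [p, q]
  have k : ∀ g, σ g = 1 ↔ g ∈ Y := fun g => by
    change (if g ∈ Y then 1 else -1) = 1 ↔ _
    split_ifs with p <;> simp [p]
  have st : σ t = -1 := if_neg n
  have sc : ∀ {a b}, IsConj a b → σ a = σ b := fun h => isConj_iff_eq.1 (σ.map_isConj h)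
  refine ⟨σ, σ (φ (e X 512)), k, st, DFunLike.congr_fun (hext (f := σ.comp φ) (g := (kD _).comp δ) fun L m => ?_)⟩
  simp only [MonoidHom.comp_apply]
  rcases C.tops L m with q | q | q | q | q
  · rw [C.dv.1 _ q, map_one, k]
    simp only [List.mem_cons, List.not_mem_nil, or_false] at q
    refine s.le ?_
    rcases q with q | q | q | q | q | q <;> rw [q]
    exacts [⟨_, C.em.ez.symm⟩, ⟨_, C.em.eb.symm⟩, ⟨_, C.em.e2.symm⟩, ⟨_, C.em.ea.symm⟩, ⟨_, C.em.ev.symm⟩, ⟨_, C.em.er.symm⟩]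
  · rw [q, C.dv.2.1, (kD_e _).1, C.em.et, st]
  · rw [q, C.dv.2.2.1, (kD_e _).2.1, sc (C.r (b := 97)), ← sc C.t97, st]
  · rw [q, C.dv.2.2.2.1, (kD_e _).2.1, sc (C.r (b := 64)), C.em.et, st]
  · rw [q, C.dv.2.2.2.2.1, (kD_e _).2.2.1]

theorem sz : Syl 2 φ.range (𝐂₁ (ι zc)) := C.sy.of_le (by
  rintro _ ⟨a, rfl⟩
  rw [mem_cent1, ← C.em.ez, ← map_mul, C.cz, map_mul]) le_top

theorem nu : ¬ IsConj (ι zc) (φ (e X 192)) := fun q => by
  obtain ⟨g, hg⟩ := isConj_iff.1 q.symm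
  have u : φ (e X 192) = φ (e X 128) * t := by rw [C.m (b := 128) (c := 64), C.em.et]
  have γ : φ (e X 128) * t = t * φ (e X 128) := by rw [← C.em.et, ← map_mul, C.e0.2.2, map_mul]
  obtain ⟨c, mc, l⟩ := C.sz.syl_cj_le (K := zpowers (g * t * g⁻¹)) (zpowers_le.2 (mem_cent1.2 (by
    rw [← hg, conj_mul, conj_mul, u, ← mul_assoc t, ← γ]))) (C.it.conj g).piGrp
  obtain ⟨y, hy⟩ := l (conj_mem_cj.2 (mem_zpowers _))
  obtain ⟨s, k, m⟩ := C.adj (g := c * g) (z := e X 64) (hy.trans (by rw [C.em.et]; group)) C.t2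
  rw [C.em.et] at k
  have it : IsConj t (φ (e X (rp y))) := isConj_iff.2 ⟨_, k.symm⟩
  rcases C.zsq _ m with r | r | ⟨a, -, r, r'⟩
  · exact C.nt (by rw [r]; decide) it
  · exact C.toHy.nz' (.refl _) ((r ▸ it).trans q.symm)
  · have z : φ s * (c * g) * φ (e X 192) * (φ s * (c * g))⁻¹ = φ (e X 1) := by
      rw [show ∀ u, φ s * (c * g) * u * (φ s * (c * g))⁻¹ = φ s * (c * (g * u * g⁻¹) * c⁻¹) * (φ s)⁻¹ from fun u => by group, hg,
        mem_cent1.1 mc, mul_inv_cancel_right, ← C.em.ez, ← map_mul, C.cz, map_mul, mul_inv_cancel_right]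
    generalize φ s * (c * g) = h at k z
    obtain ⟨w, b⟩ := C.ac (h⁻¹ * φ (e X a) * h) (mem_cent1.2 (by
      have := congrArg φ r
      rw [map_mul, map_mul, k] at this
      calc _ = h⁻¹ * (φ (e X a) * (h * t * h⁻¹)) * h := by group
        _ = _ := by rw [this]; group))
    have b2 := b.mul b
    rw [show h⁻¹ * φ (e X a) * h * (h⁻¹ * φ (e X a) * h) = φ (e X 128) * t by
      rw [← u, show ∀ u v : G, u⁻¹ * v * u * (u⁻¹ * v * u) = u⁻¹ * (v * v) * u from fun u v => by group, ← map_mul, r', ← z]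
      group] at b2
    exact s0_out (by simpa only [C.toHy.uq b2 (C.ga.mul C.toHy.act), mul_one] using inn_sq w)

theorem nu' : ¬ IsConj (ι zc) (φ (e X 228)) := fun q => C.nu (by
  have := C.cg t C.tc
  rw [← C.em.et, ← C.m (a := 228), ← C.m (a := 193)] at this
  exact (q.trans this).trans C.r)

theorem four (s : Sm Y ι t) : ∃ (σ : G →* ℤˣ) (g : G), σ t = -1 ∧ (∀ a, σ (φ a) = kD 1 (δ a)) ∧ 528 ∈ RL ∧
    φ (e X 528) = g * φ (e X 228) * g⁻¹ ∧ ∀ a, a * e X 228 = e X 228 * a ∧ kD 1 (δ a) = 1 → g * φ a * g⁻¹ ∈ φ.range := by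
  obtain ⟨σ, ε, k, st, h⟩ := C.sgn s
  have := s.nm
  by_contra! n
  have uY : φ (e X 228) ∈ Y := (k _).1 (by rw [h, C.dv.2.2.2.2.2, (kD_e _).2.2.2])
  obtain ⟨y, a, b⟩ := tr_amb (S := φ.range ⊓ Y) (M := δ.ker.map φ) (P := (𝐂₁ (e X 228)).map φ ⊓ Y) (x := φ (e X 228)) inf_le_right
    ((C.sy.inf_normal ⟨le_top, le_normalizer_of_normal⟩).not_dvd p2) (commutator_le.2 (by
      rintro _ ⟨⟨a, rfl⟩, p⟩ _ ⟨⟨b, rfl⟩, q⟩
      exact ⟨⁅a, b⁆, (map_commutatorElement δ a b).trans (kD_cm ε _ _ (h a ▸ (k _).2 p) (h b ▸ (k _).2 q)),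
        map_commutatorElement φ a b⟩)) (by rw [← map_mul, C.e0.2.1, map_one])
    ((p2_range φ).le (inf_le_left.trans (map_le_range _ _))) inf_le_right ⟨⟨_, self_mem_cent1 _, rfl⟩, uY⟩ (by
      rintro _ ⟨⟨a, m, rfl⟩, -⟩
      rw [mem_cent1, ← map_mul, mem_cent1.1 m, map_mul]) ⟨⟨_, rfl⟩, uY⟩ (fun g l => by
      obtain ⟨⟨y, hy⟩, yY⟩ := l _ ⟨⟨_, self_mem_cent1 _, rfl⟩, uY⟩
      have y2 := sq_cj C.em.inj hy C.e0.2.1
      obtain ⟨c, r, m⟩ := C.rep y y2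
      have r' : φ (e X (rp y)) = φ c * g * φ (e X 228) * (φ c * g)⁻¹ := by rw [← r, map_mul, map_mul, map_inv, hy]; group
      rcases kD_iv ε (δ y) (δ c) (by rw [← h, k, hy]; exact yY) (by rw [← map_mul, y2, map_one]) with q | q | ⟨rfl, q⟩
      · rw [← map_mul, ← map_inv, ← map_mul, r] at q
        rcases List.mem_cons.1 (C.n0 _ m q) with q | q
        · rw [q, C.e0.1, map_one, eq_comm, conj_eq_one_iff] at r'
          exact (C.nu' (by simpa [← map_one φ, C.em.inj.eq_iff] using absurd (C.dv.2.2.2.2.2.symm.trans (by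
            rw [C.em.inj (r'.trans (map_one φ).symm), map_one])) (by decide +kernel))).elim
        · exact (C.nu' ((C.iz q).trans (isConj_iff.2 ⟨_, r'.symm⟩ : IsConj _ _).symm)).elim
      · exact ⟨(e X 228)⁻¹ * y, by rw [← C.dv.2.2.2.2.2, ← map_inv, ← map_mul] at q; exact q, by rw [map_mul, map_inv, hy]⟩
      · rw [← map_mul, ← map_inv, ← map_mul, r] at q
        have l' : ∀ a, a * e X 228 = e X 228 * a ∧ kD 1 (δ a) = 1 → φ c * g * φ a * (φ c * g)⁻¹ ∈ φ.range := fun a p => by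
          have := (mem_inf.1 (l _ ⟨⟨a, mem_cent1.2 p.1, rfl⟩, (k _).1 ((h a).trans p.2)⟩)).1
          convert mul_mem (mul_mem (⟨c, rfl⟩ : φ c ∈ φ.range) this) (inv_mem ⟨c, rfl⟩) using 1
          group
        have w := C.w2 _ m q (cnt_le C.em.inj (φ c * g) _ _ fun a p =>
          (l' a p.1).imp fun b q => ⟨⟨cm_cj C.em.inj q r' p.1.1, sq_cj C.em.inj q p.2⟩, q⟩).1
        obtain ⟨a, p, j⟩ := n σ (φ c * g) st h (w ▸ m) (w ▸ r')
        exact (j (l' a p)).elim) (s.ns.perf.ge uY)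
  rw [C.em.inj b] at a
  exact absurd (C.dv.2.2.2.2.2.symm.trans a) (by decide +kernel)

end Cu

end CF.Gu.U3
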