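import Cfsg.Agent.Gu.V0

/-! The case `4⁴`: computations in the model. -/

set_option autoImplicit false
set_option maxRecDepth 100000
set_option maxHeartbeats 0
set_option Elab.async false
set_option synthInstance.maxSize 4000
set_option synthInstance.maxHeartbeats 400000

namespace CF.Gu.V4

open CF.Perm.SS CF.Comp CF.Yo

def VS5_l : Cd.Lv := ⟨nat_lit 16, (nat_lit 0xf000d000e000c0007000500060004000b0009000a00080003000100020000), (nat_lit 0xf000d000e000c0007000500060004000b0009000a00080003000100020000)⟩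
noncomputable def VS5 : TD := ⟨VS5_l :: VE.W, Cd.lvl VS5_l VE.m, nat_lit 32, nat_lit 5, (nat_lit 0x1f001d001e001c0017001500160014001b0019001a00180013001100120010000f000e000d000c000b000a0009000800070006000500040003000200010000)⟩
instance VS5_ok : VS5.OK := TD.cons VE VS5_l (by decide +kernel)
def VS_l : Cd.Lv := ⟨nat_lit 32, (nat_lit 0x1f001b00170013001e001a00160012001d001900150011001c001800140010000f000b00070003000e000a00060002000d000900050001000c000800040000), (nat_lit 0x1f001b00170013001e001a00160012001d001900150011001c001800140010000f000b00070003000e000a00060002000d000900050001000c000800040000)⟩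
noncomputable def VS : TD := ⟨VS_l :: VS5.W, Cd.lvl VS_l VS5.m, nat_lit 64, nat_lit 6, (nat_lit 0x3f0037003b0033003d003500390031003e0036003a0032003c003400380030002f002b00270023002e002a00260022002d002900250021002c002800240020001f001d001e001c0017001500160014001b0019001a00180013001100120010000f000e000d000c000b000a0009000800070006000500040003000200010000)⟩
instance VS_ok : VS.OK := TD.cons VS5 VS_l (by decide +kernel)
noncomputable def jS : TG VS →* TG VD := TG.hom [TG.e VD 1024, TG.e VD 512, TG.e VD 8, TG.e VD 4, TG.e VD 2, TG.e VD 1] (by decide +kernel)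
noncomputable def vL : TG VS →* LL := TG.hom [vb, va, z3, z2, z1, z0] (by decide +kernel)
noncomputable def iDA : TG VD →* TG VA := TG.inc [VA_l] rfl
/-- words in the centraliser of `z` -/
noncomputable def cw (w : List ℕ) : LL := ev (fun i => [zc, bt, b2, va, vb, th, om, rr].getD i 1) w
noncomputable def p3 : LL := mkLL [0, 5, 6, 1, 2, 3, 4, 7, 8, 9, 10, 11, 12, 20, 19, 13, 14, 22, 21, 16, 15, 23, 24, 18, 17, 25, 26, 27, 28]
noncomputable def θw : TG VR →* TG VR := θu.comp (θa.comp (θu.comp (θb.comp (θu.comp (θa.comp (θu.comp (θu.comp (θa.comp (θb.comp θu)))))))))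

theorem qR : ∀ q, ∃ s, jR (iQR q) = jS s ∧ qL q = vL s := by decide +kernel

theorem θL : ∀ p ∈ [(θa, th), (θb, om)], p.1 (TG.e VR 32) = TG.e VR 32 ∧ p.1 (TG.e VR 64) = TG.e VR 64 ∧
    ∀ q, ∃ q', p.1 (iQR q) = iQR q' ∧ p.2 * qL q * p.2⁻¹ = qL q' := by decide +kernel

theorem θU : ∀ a, TG.e VD 60 * jR a * (TG.e VD 60)⁻¹ = jR (θu a) := by decide +kernel

theorem θW : θw (TG.e VR 32) = TG.e VR 32 ∧ θw (TG.e VR 64) = TG.e VR 64 ∧
    ∀ p ∈ [(4, 8), (2, 17), (8, 5), (16, 2)], θw (iQR (TG.e XQ p.1)) = iQR (TG.e XQ p.2) := by decide +kernel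

theorem hW : ∀ h : HH, (∀ p ∈ [(4, 8), (2, 17), (8, 5), (16, 2)], h * iL (qL (TG.e XQ p.1)) = iL (qL (TG.e XQ p.2)) * h) →
    ∃ w ∈ [[5, 7, 15, 14], [3, 11, 13, 15]], h = iL (cw w) * s0 := by decide +kernel

theorem perm : ∀ p ∈ [(iL va, 0, 1, [12, 9]), (iL va, 1, 0, [11]), (iL va, 2, 3, [7, 11]), (iL va, 3, 2, [7, 12]),
    (iL vb, 0, 2, [7, 12]), (iL vb, 1, 3, [7, 11]), (iL vb, 2, 0, [11]), (iL vb, 3, 1, [12, 9]),
    (s0, 0, 1, [7, 11]), (s0, 1, 0, [11, 7]), (s0, 2, 2, [7]), (s0, 3, 3, [12])],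
    p.1 * iL (p5 ^ (p.2.1 + 1)) = iL (p5 ^ (p.2.2.1 + 1) * cw p.2.2.2) * p.1 := by decide +kernel

theorem sqz : ∀ p ∈ [(0, z0), (1, z1), (2, z2), (3, z3)], p5 ^ (p.1 + 1) * zc * (p5 ^ (p.1 + 1))⁻¹ = p.2 := by decide +kernel

theorem c2 : ∀ h : HH, h * iL zc = iL zc * h → h * iL va = iL va * h → h ^ 4 = 1 := by decide +kernel

theorem cEH : ∀ h : HH, h * iL z0 = iL z0 * h → h * iL z1 = iL z1 * h → h * iL z2 = iL z2 * h → h ^ 4 = 1 := by decide +kernel

end CF.Gu.V4
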