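import Cfsg.Agent.Gu.A1
import Cfsg.Agent.Gu.V1

/-! The case `4⁴`: construction of the Sylow subgroup. -/

set_option autoImplicit false
set_option linter.unusedSectionVars false
set_option maxRecDepth 100000

namespace CF.Gu.V4
open Subgroup Cfsg CF.BG CF.Sig CF.GW CF.Ab2

variable {G : Type*} [Group G] [Finite G] {ι : LL →* G} {t y x g g' : G} {h : HH} {N : Subgroup G}

/-- the homomorphism from the cyclic group of order four -/
def cy (x : G) (h : x ^ 4 = 1) : Z4 →* G := MonoidHom.mk' (fun a => x ^ a.toAdd.val) fun a b => by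
  rw [toAdd_mul, ZMod.val_add, ← pow_add, ← pow_eq_pow_mod _ h]

theorem exU (x : ℕ → G) (c : ∀ j k, Commute (x j) (x k)) (o : ∀ k, x k ^ 4 = 1) :
    ∃ φ : TG VU →* G, [128, 64, 32, 16].map (fun a => φ (TG.e VU a)) = [x 3, x 2, x 1, x 0] := by
  obtain ⟨a, b, d, e⟩ : cU (TG.e VU 128) = (1, 1, 1, ε4) ∧ cU (TG.e VU 64) = (1, 1, ε4, 1) ∧ cU (TG.e VU 32) = (1, ε4, 1, 1) ∧
    cU (TG.e VU 16) = (ε4, 1, 1, 1) := by decide +kernel
  have k : ∀ k, cy (x k) (o k) ε4 = x k := fun k => pow_one _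
  obtain ⟨ν, r⟩ : ∃ ν : Z4 × Z4 × Z4 × Z4 →* G, ∀ a b c d, ν (a, b, c, d) =
      cy _ (o 0) a * (cy _ (o 1) b * (cy _ (o 2) c * cy _ (o 3) d)) :=
    ⟨(cy _ (o 0)).noncommCoprod ((cy _ (o 1)).noncommCoprod ((cy _ (o 2)).noncommCoprod (cy _ (o 3))
      fun _ _ => (c 2 3).pow_pow _ _) fun _ _ => ((c 1 2).pow_pow _ _).mul_right ((c 1 3).pow_pow _ _))
      fun _ _ => ((c 0 1).pow_pow _ _).mul_right (((c 0 2).pow_pow _ _).mul_right ((c 0 3).pow_pow _ _)), fun _ _ _ _ => rfl⟩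
  exact ⟨ν.comp cU, by simp [a, b, d, e, k, r]⟩

/-- one more level of a tower -/
theorem stp {X Y : TD} [X.OK] [Y.OK] {L : Cd.Lv} (k : Y.W = [L] ++ X.W) {φ : TG X →* G} {cs : List ℕ} {xs : List G}
    (v : cs.map (fun a => φ (TG.e X a)) = xs) (x : G) (n : ℕ) (l : List (TG X × TG X))
    (d : n = X.n ∧ Y.n = 2 * n ∧ (∀ a ∈ cs, a < n) ∧ (∀ p, TG.inc [L] k p ≠ TG.e Y n) ∧
      (∀ L ∈ X.W, ∃ a ∈ l.map Prod.fst, TG.e X L.top = a ∨ TG.e X L.top = a * a) ∧
      (∀ p ∈ l, TG.e Y n * TG.inc [L] k p.1 * (TG.e Y n)⁻¹ = TG.inc [L] k p.2) ∧ TG.e Y n * TG.e Y n = 1)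
    (h2 : ∀ p ∈ l, x * φ p.1 * x⁻¹ = φ p.2) (h4 : x * x = 1) :
    ∃ ψ : TG Y →* G, (∀ p, ψ (TG.inc [L] k p) = φ p) ∧ (n :: cs).map (fun a => ψ (TG.e Y a)) = x :: xs := by
  obtain ⟨rfl, d1, d2, d3, d4, d5, d6⟩ := d
  obtain ⟨ψ, a, b, -⟩ := ext2 (TG.inc [L] k) (TG.inc_inj _ _) (by rw [TG.card, TG.card, d1]) _ d3 φ x l
    (fun {M} m => TG.top (l := X.W.map fun L => TG.e X L.top) (fun L q => List.mem_map_of_mem q) (List.forall_mem_map.2 fun L q => by
      obtain ⟨a, r, s | s⟩ := d4 L q <;> rw [s]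
      exacts [m a r, mul_mem (m a r) (m a r)])) d5 h2 1 (d6.trans (map_one _).symm) (h4.trans (map_one _).symm)
  refine ⟨ψ, a, congrArg₂ _ b (v ▸ List.map_congr_left fun c q => ?_)⟩
  rw [← a]
  exact congrArg ψ (TG.ext ((TG.v_e ((d2 c q).trans_le (by omega))).trans (TG.v_e (d2 c q)).symm))

/-- the values on `S × ⟨t⟩` -/
def Vd (ι : LL →* G) (t : G) (φ : TG VD →* G) : Prop :=
  [256, 1024, 512, 8, 4, 2, 1].map (fun a => φ (TG.e VD a)) = [t, ι vb, ι va, ι z3, ι z2, ι z1, ι z0]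

theorem Vd.s {φ : TG VD →* G} (v : Vd ι t φ) (s : TG VS) : φ (jS s) = ι (vL s) := by
  refine DFunLike.congr_fun (TG.hext (f := φ.comp jS) (g := ι.comp vL) fun L m => ?_) s
  obtain ⟨p, m, a, b⟩ := (by decide +kernel : ∀ L ∈ VS.W, ∃ p ∈ [(1024, vb), (512, va), (8, z3), (4, z2), (2, z1), (1, z0)],
    jS (TG.e VS L.top) = TG.e VD p.1 ∧ vL (TG.e VS L.top) = p.2) L m
  rw [MonoidHom.comp_apply, MonoidHom.comp_apply, a, b]
  simp only [Vd, List.map, List.cons.injEq] at v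
  revert p
  simp only [List.mem_cons, List.not_mem_nil, or_false]
  rintro _ (rfl | rfl | rfl | rfl | rfl | rfl) - - <;> simp only [v]

theorem Vd.et {φ : TG VD →* G} (v : Vd ι t φ) : φ (TG.e VD 256) = t := (List.cons.inj v).1

/-- the Sylow subgroup -/
structure Vm (ι : LL →* G) (t : G) (φ : TG VA →* G) (N : Subgroup G) : Prop where
  inj : Function.Injective φ
  vd : Vd ι t (φ.comp iDA)
  ac : Ac ι (φ (eA 2048)) s0
  mem : ∀ a ∈ [2048, 128, 64, 32, 16], φ (eA a) ∈ N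

theorem xk_cj (c : ∀ w, Commute x (ι (cw w))) (a : Ac ι g h) (ci : Commute g x) {j k : ℕ} {w : List ℕ}
    (e : h * iL (p5 ^ (j + 1)) = iL (p5 ^ (k + 1) * cw w) * h) : g * xk ι x j * g⁻¹ = xk ι x k := by
  have := a.ap e
  calc _ = g * ι (p5 ^ (j + 1)) * g⁻¹ * (g * x * g⁻¹) * (g * ι (p5 ^ (j + 1)) * g⁻¹)⁻¹ := by
        simp only [xk, mul_inv_rev, inv_inv, mul_assoc, inv_mul_cancel_left]
    _ = ι (p5 ^ (k + 1)) * (ι (cw w) * x * (ι (cw w))⁻¹) * (ι (p5 ^ (k + 1)))⁻¹ := by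
        simp only [this, ci.mul_inv_cancel, map_mul, mul_inv_rev, mul_assoc]
    _ = _ := by rw [(c w).symm.mul_inv_cancel, xk]

/-- `g` acts on the image of `ρ` as `θ` -/
def Ar (ρ : TG VR →* G) (N : Subgroup G) (g : G) (θ : TG VR →* TG VR) : Prop := g ∈ N ∧ ∀ a, g * ρ a * g⁻¹ = ρ (θ a)

theorem Ar.mul {ρ : TG VR →* G} {θ θ' : TG VR →* TG VR} (a : Ar ρ N g θ) (b : Ar ρ N g' θ') : Ar ρ N (g * g') (θ.comp θ') :=
  ⟨mul_mem a.1 b.1, fun c => by rw [MonoidHom.comp_apply, ← a.2, ← b.2]; group⟩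

theorem inj_of {φ : TG VA →* G} (z : φ (eA 15) ≠ 1) : Function.Injective φ := by
  refine (MonoidHom.ker_eq_bot_iff φ).1 (by_contra fun n => ?_)
  obtain ⟨a, ⟨m, -, c⟩, a1⟩ := (bot_or_exists_ne_one _).resolve_left ((piGrp_of_isPGroup p2
    ((TG.pgroup (X := VA)).to_subgroup ⊤)).nil.inf_center_ne_bot (normalIn_top.2 inferInstance) n)
  have c := fun b => (mem_cent.1 c b trivial).symm
  exact (ctr a (c _) (c _) (c _) (c _) (c _)).elim a1 fun e => z (e ▸ m)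

theorem ex (d : W4 ι t y) : ∃ φ, Vm ι t φ (normalClosure (ι.range : Set G)) := by
  have H := d.toDw.toD2.toHz
  have tt := H.it.sq
  have ti : t⁻¹ = t := inv_eq_of_mul_eq_one_left tt
  have yi : y⁻¹ = y := inv_eq_of_mul_eq_one_left d.yy
  have ii : t * y * (t * y) = ι zc := by
    rw [mul_assoc, ← mul_assoc y, ← yi, yi, show y * t * y = y * t * y⁻¹ by rw [yi], d.yt, ← mul_assoc, tt, one_mul]
  have it : t * (t * y) * t⁻¹ = (t * y)⁻¹ := by rw [← mul_assoc, tt, one_mul, mul_inv_rev, yi]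
  have c : ∀ w, Commute (t * y) (ι (cw w)) := fun w => by
    refine (mem_cent1.1 (Comp.ev_mem (H := (𝐂₁ (t * y)).comap ι) (fun i => ?_) w)).symm
    have k : ∀ l ∈ [zc, bt, b2, va, vb, th, om, rr], l ∈ (𝐂₁ (t * y)).comap ι := fun l m =>
      mem_cent1.2 (Commute.mul_right (H.tc l) (((List.mem_append (s := [zc, bt, b2, va, vb, th, om])).1 m).elim
        (fun m => (d.yq l m).symm) fun m => List.mem_singleton.1 m ▸ d.rw.symm))
    rw [List.getD_eq_getElem?_getD]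
    rcases e : [zc, bt, b2, va, vb, th, om, rr][i]? with _ | l
    exacts [one_mem _, k l (List.mem_of_getElem? e)]
  have pr := d.pr
  have cm : ∀ j k, Commute (xk ι (t * y) j) (xk ι (t * y) k) := d.cm
  generalize t * y = i at ii it c pr cm
  have sq : ∀ k, xk ι i k * xk ι i k = ι (p5 ^ (k + 1) * zc * (p5 ^ (k + 1))⁻¹) := fun k => by
    rw [xk, conj_mul, ii, map_mul, map_mul, map_inv]
  have zz : zc * zc = 1 ∧ zc ≠ 1 := by decide +kernel
  have tx : ∀ k, t * xk ι i k * t⁻¹ = (xk ι i k)⁻¹ := fun k => by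
    rw [xk, conj_inv, ← it, ← mul_assoc, ← mul_assoc, ← H.tc, mul_assoc _ _ t⁻¹, ← mul_inv_rev, ← H.tc]
    simp only [mul_inv_rev, mul_assoc]
  have nx : ∀ k, xk ι i k ∈ normalClosure (ι.range : Set G) := by
    have q : ∀ l, QuotientGroup.mk' (normalClosure (ι.range : Set G)) (ι l) = 1 := fun l =>
      (QuotientGroup.eq_one_iff _).2 (subset_normalClosure ⟨l, rfl⟩)
    have r : ∀ k, QuotientGroup.mk' (normalClosure (ι.range : Set G)) (xk ι i k) = QuotientGroup.mk' _ i := fun k => by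
      rw [xk, map_mul, map_mul, map_inv, q, one_mul, inv_one, mul_one]
    have s := congrArg (QuotientGroup.mk' (normalClosure (ι.range : Set G))) pr
    have u := congrArg (QuotientGroup.mk' (normalClosure (ι.range : Set G))) ii
    simp only [map_mul, r, q, map_one] at s u
    rw [u, one_mul, u, one_mul] at s
    exact fun k => (QuotientGroup.eq_one_iff _).1 ((r k).trans s)
  have pm := fun {g h} (a : Ac ι g h) (ci : Commute g i) {j k w} => xk_cj c a ci (j := j) (k := k) (w := w)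
  have P := perm
  simp only [List.forall_mem_cons] at P
  obtain ⟨a0, a1, a2, a3, b0, b1, b2', b3, s0', s1, s2, s3, -⟩ := P
  obtain ⟨w7, w9, w11, w13, zs⟩ : cw [7] = va ∧ cw [9] = vb ∧ cw [11] = th ∧ cw [13] = om ∧ va * va = 1 ∧ vb * vb = 1 ∧
    vb * va = va * vb ∧ s0 * iL va = iL va * s0 ∧ s0 * iL vb = iL (va * vb) * s0 ∧ s0 * s0 = 1 := by decide +kernel
  have ca := @pm _ _ (ac_iL va) (w7 ▸ (c [7]).symm)
  have cb := @pm _ _ (ac_iL vb) (w9 ▸ (c [9]).symm)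
  have ct : ∀ l, ι l * t * (ι l)⁻¹ = t := fun l => mul_inv_eq_iff_eq_mul.2 (H.tc l)
  obtain ⟨φ, v⟩ := exU (xk ι i) cm fun k => by
    rw [show 4 = 2 * 2 from rfl, pow_mul, pow_two (xk _ _ _), sq, ← map_pow, conj_pow, pow_two, zz.1]; simp
  have v' := v
  simp only [List.map, List.cons.injEq] at v'
  obtain ⟨φ, -, v⟩ := stp (Y := VT) rfl v t 256 ([128, 64, 32, 16].map fun a => (TG.e VU a, (TG.e VU a)⁻¹)) (by decide +kernel)
    (by simp only [List.map, List.forall_mem_cons, map_inv, v', tx]; simp) tt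
  replace v' := v
  simp only [List.map, List.cons.injEq] at v'
  obtain ⟨φ, -, v⟩ := stp (Y := VV) rfl v (ι va) 512 ([(256, 256), (128, 64), (64, 128), (32, 16), (16, 32)].map fun a =>
    (TG.e VT a.1, TG.e VT a.2)) (by decide +kernel)
    (by simp only [List.map, List.forall_mem_cons, v', ct, ca a0, ca a1, ca a2, ca a3]; simp) (by rw [← map_mul, zs.1, map_one])
  replace v' := v
  simp only [List.map, List.cons.injEq] at v'
  obtain ⟨φ, -, v⟩ := stp (Y := VD) rfl v (ι vb) 1024 ([(512, 512), (256, 256), (128, 32), (64, 16), (32, 128), (16, 64)].map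
    fun a => (TG.e VV a.1, TG.e VV a.2)) (by decide +kernel)
    (by simp only [List.map, List.forall_mem_cons, v', ct, cb b0, cb b1, cb b2', cb b3, (ac_iL vb).ap (l := va) (l' := va)
      (by rw [← map_mul, ← map_mul, zs.2.2.1])]; simp)
    (by rw [← map_mul, zs.2.1, map_one])
  replace v' := v
  simp only [List.map, List.cons.injEq] at v'
  obtain ⟨e8, e4, e2, e1, e60, r32, r64⟩ : TG.e VD 8 = TG.e VD 128 * TG.e VD 128 ∧ TG.e VD 4 = TG.e VD 64 * TG.e VD 64 ∧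
    TG.e VD 2 = TG.e VD 32 * TG.e VD 32 ∧ TG.e VD 1 = TG.e VD 16 * TG.e VD 16 ∧
    TG.e VD 60 = TG.e VD 16 * TG.e VD 32 * (TG.e VD 64 * TG.e VD 64) * (TG.e VD 128 * TG.e VD 128) ∧
    jR (TG.e VR 32) = TG.e VD 256 ∧ jR (TG.e VR 64) = (TG.e VD 16 * TG.e VD 32 * TG.e VD 64 * TG.e VD 128)⁻¹ := by decide +kernel
  have vd : Vd ι t φ := by
    have Q := sqz
    simp only [List.forall_mem_cons] at Q
    simp only [Vd, List.map, e8, e4, e2, e1, map_mul φ, v', sq, Q]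
  have ρt : φ.comp jR (TG.e VR 32) = t := by rw [MonoidHom.comp_apply, r32, vd.et]
  have ρi : φ.comp jR (TG.e VR 64) = i := by
    simp only [MonoidHom.comp_apply, r64, map_inv, map_mul, v']
    exact inv_eq_of_mul_eq_one_right pr
  have ρq : ∀ q, φ.comp jR (iQR q) = ι (qL q) := fun q => by
    obtain ⟨s, a, b⟩ := qR q
    rw [MonoidHom.comp_apply, a, b, vd.s]
  have au : Ar (φ.comp jR) (normalClosure (ι.range : Set G)) (φ (TG.e VD 60)) θu := ⟨by
    simp only [e60, map_mul, v']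
    exact mul_mem (mul_mem (mul_mem (nx _) (nx _)) (mul_mem (nx _) (nx _))) (mul_mem (nx _) (nx _)), fun a => by
      rw [MonoidHom.comp_apply, MonoidHom.comp_apply, ← θU, map_mul, map_mul, map_inv]⟩
  have aL : ∀ p ∈ [(θa, th), (θb, om)], Commute (ι p.2) i → Ar (φ.comp jR) (normalClosure (ι.range : Set G)) (ι p.2) p.1 :=
    fun p m ci => ⟨subset_normalClosure ⟨_, rfl⟩, fun a => by
      obtain ⟨k1, k2, k3⟩ := θL p m
      refine (TG.top (l := TG.e VR 64 :: TG.e VR 32 :: [16, 8, 4, 2, 1].map fun a => iQR (TG.e XQ a)) (by decide +kernel)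
        (M := ((MulAut.conj (ι p.2)).toMonoidHom.comp (φ.comp jR)).eqLocus ((φ.comp jR).comp p.1))
        (List.forall_mem_cons.2 ⟨?_, List.forall_mem_cons.2 ⟨?_, List.forall_mem_map.2 fun a _ => ?_⟩⟩)).ge (mem_top a) <;>
        change _ * φ.comp jR _ * _ = φ.comp jR (p.1 _)
      · rw [k2, ρi, ci.mul_inv_cancel]
      · rw [k1, ρt, ct]
      · obtain ⟨q, r, s⟩ := k3 (TG.e XQ a)
        rw [r, ρq, ρq, ← s, map_mul, map_mul, map_inv]⟩
  have aa := aL _ List.mem_cons_self (w11 ▸ (c [11]).symm)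
  have ab := aL _ (List.mem_cons_of_mem _ List.mem_cons_self) (w13 ▸ (c [13]).symm)
  obtain ⟨w, aw⟩ : ∃ w, Ar (φ.comp jR) (normalClosure (ι.range : Set G)) w θw :=
    ⟨_, au.mul (aa.mul (au.mul (ab.mul (au.mul (aa.mul (au.mul (au.mul (aa.mul (ab.mul au)))))))))⟩
  have wt : w ∈ 𝐂₁ t := mem_cent1.2 (mul_inv_eq_iff_eq_mul.1 (by have := aw.2 (TG.e VR 32); rwa [θW.1, ρt] at this))
  have wi : Commute w i := mul_inv_eq_iff_eq_mul.1 (by have := aw.2 (TG.e VR 64); rwa [θW.2.1, ρi] at this)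
  obtain ⟨h, a⟩ := H.ac w wt
  obtain ⟨u, -, rfl⟩ := hW h fun p m => H.ap a (by rw [← ρq, ← ρq, aw.2, θW.2.2 p m])
  have ac : Ac ι ((ι (cw u))⁻¹ * w) s0 := by simpa using (ac_iL (cw u)).inv.mul a
  have gt := mul_mem (inv_mem (H.mem (cw u))) wt
  have gi := (c u).symm.inv_left.mul_left wi
  have gn := mul_mem (inv_mem (subset_normalClosure (s := (ι.range : Set G)) ⟨cw u, rfl⟩)) aw.1
  generalize (ι (cw u))⁻¹ * w = g at ac gt gi gn
  have gg : g * g = 1 := (H.z1 _ (mul_mem gt gt) (zs.2.2.2.2.2 ▸ ac.mul ac)).resolve_right fun e => zz.2 (H.inj (by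
    rw [← ii, map_one, ← mul_inv_eq_one, inv_one, mul_one, ← eq_inv_iff_mul_eq_one, ← it, ← e, (gi.mul_left gi).mul_inv_cancel]))
  have cc := @pm _ _ ac gi
  obtain ⟨ψ, k, v⟩ := stp (Y := VA) rfl v g 2048 ((TG.e VD 1024, TG.e VD 512 * TG.e VD 1024) :: [(512, 512), (256, 256), (128, 128),
    (64, 64), (32, 16), (16, 32)].map fun a => (TG.e VD a.1, TG.e VD a.2)) (by decide +kernel)
    (by
      simp only [List.map, List.forall_mem_cons, map_mul φ, v', cc s0', cc s1, cc s2, cc s3, ac.ap zs.2.2.2.1, ac.ap zs.2.2.2.2.1,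
        mul_inv_eq_iff_eq_mul.2 (mem_cent1.1 gt), map_mul ι]
      simp) gg
  simp only [List.map, List.cons.injEq] at v
  have e : ψ.comp iDA = φ := MonoidHom.ext k
  refine ⟨ψ, inj_of fun q => zz.2 (H.inj ?_), e ▸ vd, v.1 ▸ ac, by simp only [List.forall_mem_cons, eA, v, gn, nx]; simp⟩
  obtain ⟨p, q'⟩ : eA 15 = iDA (jS (TG.e VS 15)) ∧ vL (TG.e VS 15) = zc := by decide +kernel
  rw [← q', ← vd.s, ← k, map_one]
  exact p ▸ q

end CF.Gu.V4
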