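import Cfsg.Agent.Gu.A2
import Cfsg.Agent.Gu.V2

/-! The case `4⁴`: the Sylow subgroup and the transfer. -/

set_option autoImplicit false
set_option linter.unusedSectionVars false
set_option maxRecDepth 100000

namespace CF.Gu.V4
open Subgroup Cfsg CF.BG CF.Sig CF.GW CF.Ab2
open scoped commutatorElement

universe u
variable {G Γ : Type u} [Group G] [Finite G] [Group Γ] [Finite Γ] {ι : LL →* G} {ι' : LL →* Γ} {t g : G} {t' y : Γ}
  {N P Y : Subgroup G} {φ : TG VA →* G} {a b : TG VA}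

theorem Vm.val (v : Vm ι t φ N) {l : LL} (h : ∃ s, a = iDA (jS s) ∧ vL s = l) : φ a = ι l := by
  obtain ⟨s, rfl, rfl⟩ := h
  exact v.vd.s s

theorem Vm.et (v : Vm ι t φ N) : φ (eA 256) = t := v.vd.et

theorem lift {f : 𝐍 (Oo t) →* Γ} (L : Lf ι t f ι' t') (s : Sm Y ι t) (d : W4 ι' t' y) : ∃ φ, Vm ι t φ Y := by
  obtain ⟨φ', v⟩ := ex d
  obtain ⟨φ, e, u⟩ := L.lift (φ' := φ'.comp k3) ⟨v.inj.comp (Function.LeftInverse.injective kA3), v.val (by decide +kernel),
    v.val (by decide +kernel), v.val (by decide +kernel), v.val (by decide +kernel), v.val (by decide +kernel),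
    v.val (by decide +kernel), (congrArg φ' (by decide +kernel)).trans v.et⟩
  have e' := e.lo (TG.inc (X := XT) [V3T_l, V11a_l, V10a_l, V9a_l, V8a_l] rfl) (TG.inc_inj _ _) (by decide +kernel)
  have k : ∀ {a l}, (∃ s, kA (iDA (TG.e VD a)) = TG.inc (X := XT) [V3T_l, V11a_l, V10a_l, V9a_l, V8a_l] rfl (iST s) ∧ sL s = l) →
      φ (kA (iDA (TG.e VD a))) = ι l := fun ⟨s, p, q⟩ => by rw [p, ← q]; exact e'.s s
  have et : kA (eA 256) = TG.e V3T 64 := by decide +kernel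
  refine ⟨φ.comp kA, e.inj.comp (Function.LeftInverse.injective k3A), ?_, ?_, fun a m => ?_⟩
  · simp only [Vd, List.map, List.cons.injEq, MonoidHom.comp_apply]
    exact ⟨(congrArg φ et).trans e.et, k (by decide +kernel), k (by decide +kernel), k (by decide +kernel),
      k (by decide +kernel), k (by decide +kernel), k (by decide +kernel), trivial⟩
  · obtain ⟨m, q⟩ := u (kA (eA 2048))
    refine L.ac (g := φ (kA (eA 2048))) (mem_cent1.2 ?_) m (by rw [q, MonoidHom.comp_apply, k3A]; exact v.ac)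
    rw [← e.et, ← et, ← map_mul, ← map_mul, ← map_mul, ← map_mul,
      (by decide +kernel : eA 2048 * eA 256 = eA 256 * eA 2048)]
  · obtain ⟨n, q⟩ := u (kA (eA a))
    exact L.inY s ⟨_, n⟩ (by rw [q, MonoidHom.comp_apply, k3A]; exact v.mem a m)

theorem big (H : Hy ι t) (p : P2 P) {l : List G} (h : ∀ k ∈ P, k * (g * t * g⁻¹) * k⁻¹ ∈ l) : ♯P ≤ 256 * l.length := by
  classical
  have := Nat.le_of_dvd (by decide) ((H.cj g).bd (p.le inf_le_left) (inf_le_right : P ⊓ _ ≤ _)).1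
  generalize g * t * g⁻¹ = s at h this
  rw [← card_mul_relIndex (inf_le_left : P ⊓ 𝐂₁ s ≤ P), inf_relIndex_left]
  refine Nat.mul_le_mul this ((Nat.card_le_card_of_injective (fun q : P ⧸ (𝐂₁ s).subgroupOf P =>
    (⟨q.out * s * (q.out : G)⁻¹, List.mem_toFinset.2 (h _ q.out.2)⟩ : l.toFinset)) fun a b e => ?_).trans
    (by rw [Nat.card_eq_fintype_card, Fintype.card_coe]; exact List.toFinset_card_le l))
  rw [← a.out_eq', ← b.out_eq', QuotientGroup.eq, mem_subgroupOf, mem_cent1, coe_mul, coe_inv, mul_assoc,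
    mul_inv_eq_iff_eq_mul.1 (Subtype.mk.inj e).symm]
  group

theorem uab' (h : inU a) (k : inU b) : a * b = b * a :=
  (map_mul jU ⟨a.v, h⟩ ⟨b.v, k⟩).symm.trans ((congrArg jU (uab _ _)).trans (map_mul jU ⟨b.v, k⟩ ⟨a.v, h⟩))

namespace Vm
variable (H : Hy ι t) (v : Vm ι t φ N)
include H v

theorem card : ♯φ.range = 4096 := (card_range v.inj).trans TG.card

/-- no conjugate of `t` lies in `4⁴ : D₈` -/
theorem out (e : φ a = g * t * g⁻¹) : χA a ≠ 1 := fun q => by
  have K : ∀ r ∈ SC.map Prod.fst, ∀ g, φ r ≠ g * t * g⁻¹ := List.forall_mem_map.2 fun r m g e => by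
    have := big H (p2_range φ) (g := g) (l := r.2.map φ) (by
      rintro _ ⟨k, rfl⟩
      rw [← e, ← map_inv, ← map_mul, ← map_mul]; exact List.mem_map_of_mem ((sc r m).2 k))
    have := (sc r m).1
    rw [v.card H, List.length_map] at *
    omega
  have T : ∀ {a b : TG VA} {g x}, φ a = g * t * g⁻¹ → x * φ a * x⁻¹ = φ b → φ b = x * g * t * (x * g)⁻¹ := fun e k => by
    rw [← k, e]; group
  obtain ⟨b, -, m⟩ := cls a (v.inj (by rw [map_mul, e, conj_mul, H.it.sq, map_one]; simp)) q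
  replace e := T e (show φ b * _ * _ = φ (b * a * b⁻¹) by rw [map_mul, map_mul, map_inv])
  have L : ∀ {l c n}, φ (eA n) = ι l → c * l * c⁻¹ = bt → b * a * b⁻¹ ≠ eA n := fun {l c n} p r s =>
    K (eA 3) (by decide +kernel) _ (T e (x := ι c) (by
      rw [s, p, ← map_inv, ← map_mul, ← map_mul, r, v.val (l := bt) (by decide +kernel)]))
  rcases (List.mem_append (s := SC.map Prod.fst) (t := [eA 512, eA 1024, eA 2059])).1 m with m | m
  · exact K _ m _ e
  simp only [List.mem_cons, List.not_mem_nil, or_false] at m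
  rcases m with m | m | m
  · exact L (l := va) (c := cw [14, 15, 13]) (v.val (by decide +kernel)) (by decide +kernel) m
  · exact L (l := vb) (c := cw [12, 14]) (v.val (by decide +kernel)) (by decide +kernel) m
  · obtain ⟨p, r, s, u⟩ : eA 2059 = eA 2048 * eA 11 ∧ eA 2060 = eA 2048 * eA 12 ∧ s0 * iL p3 = iL p3 * s0 ∧
      p3 * (z2 * zc) * p3⁻¹ = z2 * z3 := by decide +kernel
    refine K (eA 2060) (by decide +kernel) _ (T e (x := ι p3) ?_)
    rw [m, p, r, map_mul, map_mul, v.val (a := eA 11) (l := z2 * zc) (by decide +kernel),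
      v.val (a := eA 12) (l := z2 * z3) (by decide +kernel), ← u, ← mul_assoc, ← v.ac.cm s, map_mul ι _ p3⁻¹, map_mul ι p3, map_inv]
    simp only [mul_assoc]

theorem fus : ∃ g, φ (eA 768) = g * t * g⁻¹ ∧ g * ι zc * g⁻¹ = ι zc ∧ g * ι va * g⁻¹ = ι bt := by
  obtain ⟨a, b, c, d, e, f, k⟩ : eA 60 * eA 256 * (eA 60)⁻¹ = eA 256 * eA 3 ∧ eA 60 * eA 15 * (eA 60)⁻¹ = eA 15 ∧
    eA 60 * eA 512 * (eA 60)⁻¹ = eA 512 ∧ eA 768 = eA 256 * eA 512 ∧ iL (cw [14, 15, 13]) * iL bt = iL va * iL (cw [14, 15, 13]) ∧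
    iL (cw [14, 15, 13]) * iL zc = iL zc * iL (cw [14, 15, 13]) ∧ iL (cw [14, 15, 13]) * iL va = iL bt * iL (cw [14, 15, 13]) := by
    decide +kernel
  have j : ∀ {x : G} {a b}, eA 60 * a * (eA 60)⁻¹ = b → x * φ (eA 60) * φ a * (x * φ (eA 60))⁻¹ = x * φ b * x⁻¹ := fun e => by
    rw [← e, map_mul, map_mul, map_inv]; group
  have va' : φ (eA 512) = ι va := v.val (by decide +kernel)
  have z' : φ (eA 15) = ι zc := v.val (by decide +kernel)
  refine ⟨ι (cw [14, 15, 13]) * φ (eA 60), ?_, ?_, ?_⟩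
  · nth_rw 1 [← v.et]
    rw [j a, d, map_mul, map_mul, v.et, va', v.val (a := eA 3) (l := bt) (by decide +kernel), ← (ac_iL _).ap e,
      ← mul_assoc _ t, H.tc]
    simp only [mul_assoc]
  · rw [← z', j b, z', (ac_iL _).ap f]
  · rw [← va', j c, va', (ac_iL _).ap k]

theorem syl : ¬ 2 ∣ φ.range.index := by
  refine (two_step (p2_range φ)).resolve_right fun ⟨w, n, m, s⟩ => ?_
  choose f hf using fun a => conj_mem_of_norm n (⟨a, rfl⟩ : φ a ∈ φ.range)
  let α : TG VA →* TG VA := MonoidHom.mk' f fun a b => v.inj (by rw [map_mul, hf, hf, hf, map_mul, conj_mul])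
  have i : Function.Injective α := fun a b e => v.inj (conj_inj w ((hf a).symm.trans ((congrArg φ e).trans (hf b))))
  have su := Finite.injective_iff_surjective.1 i
  have U : ∀ {a}, inU a → inU (α a) := fun {a} h => uch _ fun g _ => by
    obtain ⟨g, rfl⟩ := su g
    simpa only [map_mul] using congrArg α (uab' h (cτ g).2.2.1)
  have C : ∀ g, inU (α (eA 768) * g * (α (eA 768))⁻¹ * g⁻¹) := fun g => by
    obtain ⟨g, rfl⟩ := su g
    simpa only [map_mul, map_inv] using U (cτ g).2.1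
  obtain ⟨g, e, -⟩ := v.fus H
  obtain ⟨k1, k2, k3, k4, k5⟩ : eA 768 * eA 768 = 1 ∧ eA 256 * eA 256 = 1 ∧ inU (eA 16) ∧
    eA 768 * eA 16 * (eA 768)⁻¹ ≠ (eA 16)⁻¹ ∧ Cτ.length = 16 := by decide +kernel
  rcases cos (α (eA 768)) (by rw [← map_mul, k1, map_one]) (v.out H (g := w * g) ((hf _).trans (by rw [e]; group))) (C _) (C _)
    with q | ⟨u, -, q⟩
  · refine k4 (i ?_)
    have r := (cτ _).2.2.2 (U k3)
    rw [map_mul, map_mul, map_inv, map_inv, ← mul_one (α (eA 768)), ← k2, ← mul_assoc, mul_assoc _ (eA 256), mul_inv_rev,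
      ← mul_assoc, mul_assoc _ _ (eA 256)⁻¹, r, mul_inv_eq_iff_eq_mul]
    exact (Commute.inv_right (uab' q (U k3))).eq
  obtain ⟨p, c, d⟩ := two_sup (p2_range φ) n m s
  have := big H p (g := g) (l := Cτ.map φ) fun k hk => by
    rw [← e]
    rcases d k hk with ⟨b, rfl⟩ | ⟨b, r⟩
    · rw [← map_inv, ← map_mul, ← map_mul]; exact List.mem_map_of_mem (cτ b).1
    · refine List.mem_map.2 ⟨_, (cτ (b * u)).1, ?_⟩
      rw [show b * u * eA 768 * (b * u)⁻¹ = b * α (eA 768) * b⁻¹ by rw [← q]; group, map_mul, map_mul, map_inv, r]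
      exact (congrArg (fun x => _ * x * _) (hf _)).trans (by group)
  rw [c, v.card H, List.length_map, k5] at this
  omega

theorem nd : t ∉ commutator G := fun d => by
  obtain ⟨c, k⟩ : (∀ x y : TG XZ, x * y * x⁻¹ * y⁻¹ = 1) ∧ ∀ x y : TG XZ, x ≠ 1 → y ≠ 1 → x⁻¹ * y = 1 := by decide +kernel
  have l : zpowers t ≤ 𝐂₁ t := zpowers_le.2 (self_mem_cent1 t)
  have o : ∀ {a}, φ a = t → χA a ≠ 1 := fun e => v.out H (g := 1) (by simpa using e)
  obtain ⟨a, m, e⟩ := tr_sub (M := χA.ker.map φ) (v.syl H) (commutator_le.2 (by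
      rintro _ ⟨a, rfl⟩ _ ⟨b, rfl⟩
      exact ⟨⁅a, b⁆, (map_commutatorElement χA a b).trans (c _ _), map_commutatorElement φ a b⟩))
    H.it.sq H.it.piGrp.isPGroup (mem_zpowers t) l le_rfl (le_norm_self _)
    (fun p n => by rw [mul_assoc p⁻¹, ← mem_cent1.1 (l n)]; simp [one_mem]) ⟨_, v.et⟩ (fun g n => by
      obtain ⟨a, e⟩ := n ⟨t, mem_zpowers t, rfl⟩
      exact ⟨(eA 256)⁻¹ * a, by rw [SetLike.mem_coe, MonoidHom.mem_ker, map_mul, map_inv, k _ _ (o v.et) (v.out H e)],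
        by rw [map_mul, map_inv, v.et, e]; simp⟩) d
  exact o e m

end Vm
end CF.Gu.V4
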