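import Cfsg.Agent.Gu.WA2

/-! The case `U = 2⁸`: the action of `A` and `B` on `U`. -/

set_option autoImplicit false
set_option linter.unusedSectionVars false
set_option maxRecDepth 100000

namespace CF.Gu.WA
open Subgroup Cfsg CF.BG CF.Sig CF.GW CF.Ab2

variable {G P : Type*} [Group G] [Finite G] [Group P] {ι : LL →* G} {t y g g' v : G} {ψ : P →* G} {a a' b b' c : P}
  {φ : TG XN →* G} {α β : TG XR → TG XR}

/-- `g` maps `ψ a` to `ψ b` -/
def Cj (ψ : P →* G) (g : G) (a b : P) : Prop := g * ψ a * g⁻¹ = ψ b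

theorem Cj.mul (p : Cj ψ g a b) (q : Cj ψ g a' b') : Cj ψ g (a * a') (b * b') := by
  rw [Cj, map_mul, map_mul, ← p, ← q, conj_mul]
theorem Cj.cmp (p : Cj ψ g a b) (q : Cj ψ g' b c) : Cj ψ (g' * g) a c := by
  rw [Cj, ← q, ← p]; group
theorem Cj.of (p : Cj ψ g a b) (e : a = a' ∧ b = b' := by decide +kernel) : Cj ψ g a' b' := e.1 ▸ e.2 ▸ p
theorem Cj.eq (p : Cj ψ g a b) (q : Cj ψ g a b') (i : Function.Injective ψ) : b = b' := i (p.symm.trans q)
theorem Cj.sym (p : Cj ψ g a b) (gg : g * g = 1) : Cj ψ g b a := by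
  rw [Cj, ← p, ← mul_assoc, ← mul_assoc, gg, mul_assoc, ← mul_inv_rev, gg]; simp
theorem cj_tr {τ : P → P} (k : ∀ a, v * ψ a * v⁻¹ = ψ (τ a)) (e : v * g * v⁻¹ = g') : Cj ψ g' (τ a) (τ b) ↔ Cj ψ g a b := by
  rw [Cj, Cj, ← k, ← k, ← e, conj_mul, conj_inv, conj_mul, mul_left_inj, mul_right_inj]

theorem rig0 (w : Wg ι t y) (a : g * t = t * g) (b : g * y = y * g) (c : ∀ l ∈ [bt, b2, va, vb], g * ι l = ι l * g) :
    ∃ o ∈ Oo t, g = o ∨ g = ι zc * o := by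
  obtain ⟨h, p⟩ := w.ac g (mem_cent1.2 a)
  have k : ∀ l ∈ [bt, b2, va, vb], h * iL l = iL l * h := fun l n => w.toHy.cm p (c l n)
  have n : ∀ l, ∀ o ∈ Oo t, l * zc = zc * l → g ≠ ι l * t * o := fun l o m z q => by
    have := (Commute.inv_right (w.yc l z)).mul_right ((show Commute y g from b.symm).mul_right (Commute.inv_right (w.cO o m)))
    rw [q, mul_inv_cancel_right, inv_mul_cancel_left] at this
    exact w.nc w.yt this
  rcases cenQ4 h (k _ (by simp)) (k _ (by simp)) (k _ (by simp)) (k _ (by simp)) with rfl | rfl <;>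
    obtain ⟨o, m, q | q⟩ := w.dec (mem_cent1.2 a) p
  exacts [⟨o, m, .inl (by simpa using q)⟩, (n _ o m (by simp) q).elim, ⟨o, m, .inr q⟩, (n _ o m rfl q).elim]

/-- the values on `U ⟨va, vb, t⟩` -/
structure En (ι : LL →* G) (t y : G) (φ : TG XN →* G) : Prop extends Ev ι y φ where
  ea : φ (TG.e XN 256) = ι va
  eb : φ (TG.e XN 512) = ι vb
  et : φ (TG.e XN 1024) = t

/-- `g` acts on `⟨Q, y, t⟩` as `α` -/
def Nr (φ : TG XN →* G) (g : G) (α : TG XR → TG XR) : Prop := ∀ r, g * φ (jR r) * g⁻¹ = φ (jR (α r))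

theorem Nr.mul (p : Nr φ g α) (q : Nr φ g' β) : Nr φ (g * g') (α ∘ β) := fun r => by
  rw [Function.comp_apply, ← p, ← q]; group

noncomputable def au (u : TG XV) (r : TG XR) : TG XR := bk (iN u * jR r * (iN u)⁻¹)

abbrev OkU (u : TG XV) : Prop := ∀ r, iN u * jR r * (iN u)⁻¹ = jR (au u r)

theorem nr_u {u : TG XV} (d : OkU u) : Nr φ (φ (iN u)) (au u) := fun r => by rw [← d, map_mul, map_mul, map_inv]

local notation "eV" => TG.e XV
local notation "eN" => TG.e XN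
local notation "eR" => TG.e XR

theorem jR_e : jR (eR 1) = eN 1 ∧ jR (eR 2) = eN 2 ∧ jR (eR 4) = eN 4 ∧ jR (eR 8) = eN 16 ∧ jR (eR 16) = eN 256 ∧
    jR (eR 32) = eN 512 ∧ jR (eR 64) = eN 1024 := by decide +kernel

variable (e : En ι t y φ) (w : Wg ι t y)
include e

theorem En.ev : Ev ι y (φ.comp iN) := e.toEv.lo iN (TG.inc_inj _ _) (by decide +kernel)

include w

theorem En.wb : Nr φ (ι wb) oR := fun r => by
  obtain ⟨a1, a2, a3, a4, a5, a6, a7⟩ := jR_e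
  obtain ⟨b1, b2, b3, b4, b5, b6, b7⟩ := (by decide +kernel : oR (eR 1) = eR 1 ∧ oR (eR 2) = eR 16 ∧ oR (eR 4) = eR 32 ∧
    oR (eR 8) = eR 8 ∧ oR (eR 16) = eR 2 ∧ oR (eR 32) = eR 4 ∧ oR (eR 64) = eR 64)
  refine (TG.top (M := ((MulAut.conj (ι Gu.wb)).toMonoidHom.comp (φ.comp jR)).eqLocus (φ.comp (jR.comp oR)))
    (l := [1, 2, 4, 8, 16, 32, 64].map eR) (by decide +kernel) ?_).ge (mem_top r)
  have k : ∀ r, r ∈ ((MulAut.conj (ι Gu.wb)).toMonoidHom.comp (φ.comp jR)).eqLocus (φ.comp (jR.comp oR)) ↔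
    ι Gu.wb * φ (jR r) * (ι Gu.wb)⁻¹ = φ (jR (oR r)) := fun _ => Iff.rfl
  simp only [List.map_cons, List.map_nil, List.forall_mem_cons, k, a1, a2, a3, a4, a5, a6, a7, b1, b2, b3, b4, b5, b6, b7, e.e1, e.e2,
    e.e4, e.e16, e.ea, e.eb, e.et]
  exact ⟨cjι, cjι, cjι, by rw [← w.yc _ wb_rel.2.1, mul_inv_cancel_right], cjι, cjι, by rw [w.tc, mul_inv_cancel_right], by simp⟩

noncomputable def aW (u : TG XV) : TG XR → TG XR := (oR ∘ au u) ∘ oR

theorem En.nW {u : TG XV} (d : OkU u) : Nr φ (ι Gu.wb * φ (iN u) * (ι Gu.wb)⁻¹) (aW u) := by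
  rw [inv_eq_of_mul_eq_one_right (sqι (a := Gu.wb))]
  exact ((e.wb w).mul (nr_u d)).mul (e.wb w)

theorem En.nA : Nr φ (wA ι y) (aW (eV 32)) := by rw [wA, ← e.ev.e32]; exact e.nW w (by decide +kernel)
theorem En.nB : Nr φ (wB ι y) (aW (eV 64)) := by rw [wB, ← e.ev.e64]; exact e.nW w (by decide +kernel)

theorem En.cO : (∀ o ∈ Oo t, wA ι y * o = o * wA ι y) ∧ ∀ o ∈ Oo t, wB ι y * o = o * wB ι y := by
  rw [wA, wB, ← e.ev.e32, ← e.ev.e64]
  constructor <;> exact fun o m =>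
    ((Commute.mul_left (w.lo m _) (e.ev.cO w _ o m)).mul_left (Commute.inv_left (w.lo m _))).eq

/-- rigidity: a commutator is determined up to `z` by its action on `⟨Q, y, t⟩` -/
theorem En.rig (n : Nr φ v β) (vv : v * v = 1) (vO : ∀ o ∈ Oo t, v * o = o * v) (vz : v * ι zc * v⁻¹ = ι zc) (u s : TG XV)
    (c : Cj (φ.comp iN) v s s) (d : OkU u ∧ OkU s ∧ ∀ a ∈ [2, 4, 8, 16, 32, 64], β (au u (β (au u (au s (eR a))))) = eR a := by
      decide +kernel) : Cj (φ.comp iN) v u (s * u) ∨ Cj (φ.comp iN) v u (eV 1 * s * u) := by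
  have N := n.mul ((nr_u d.1).mul (n.mul ((nr_u d.1).mul (nr_u (φ := φ) d.2.1))))
  have k := fun a m => mul_inv_eq_iff_eq_mul.1 ((N (eR a)).trans (congrArg (fun r => φ (jR r)) (d.2.2 a m)))
  obtain ⟨a1, a2, a3, a4, a5, a6, a7⟩ := jR_e
  simp only [List.forall_mem_cons, a2, a3, a4, a5, a6, a7, e.e2, e.e4, e.e16, e.ea, e.eb, e.et] at k
  obtain ⟨k1, k2, k3, k4, k5, k6, -⟩ := k
  have E := e.ev
  have q : ∀ s' : TG XV, Cj (φ.comp iN) v s' s' → ∀ o ∈ Oo t, v * (φ (iN u) * (v * φ (iN u))) = φ (iN s') * o →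
      Cj (φ.comp iN) v u (s' * u) := fun s' c o m q => by
    have vi := inv_eq_of_mul_eq_one_right vv
    have uu : φ (iN u) * φ (iN u) = 1 := E.sq u
    have cx : Commute v (φ (iN s') * o) := Commute.mul_right (mul_inv_eq_iff_eq_mul.1 c) (vO o m)
    have x2 : φ (iN s') * o * (φ (iN s') * o) = 1 := by
      nth_rw 1 [← cx.mul_inv_cancel, ← q, vi, ← mul_assoc v v, vv]
      rw [← q]
      simp only [one_mul, mul_assoc, ← mul_assoc v v, vv, ← mul_assoc (φ (iN u)) (φ (iN u)), uu]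
    rw [o_one m (E.cO w s' o m) (e2_inv (E.sq s')) (e2_inv x2), mul_one] at q
    change v * φ (iN u) * v⁻¹ = φ (iN (s' * u))
    rw [map_mul, map_mul, ← q, vi]
    simp only [mul_assoc, uu, mul_one]
  have ss : φ (iN s) * φ (iN s) = 1 := E.sq s
  obtain ⟨o, m, r | r⟩ := rig0 w k6 k3 (by simp only [List.forall_mem_cons]; exact ⟨k1, k2, k4, k5, by simp⟩)
  · refine .inl (q s c o m ?_)
    rw [show φ (iN s) * o = o * φ (iN s) from E.cO w s o m, ← r]
    simp only [mul_assoc, ss, mul_one]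
  · refine .inr (q _ (Cj.mul (show v * φ (iN _) * _ = φ (iN _) by rw [show φ (iN _) = _ from E.e1, vz]) c) o m ?_)
    rw [map_mul, map_mul, mul_assoc, show φ (iN s) * o = o * φ (iN s) from E.cO w s o m, show φ (iN _) = _ from E.e1,
      ← mul_assoc (ι zc), ← r]
    simp only [mul_assoc, ss, mul_one]

omit e w in
theorem Nr.cj (n : Nr φ g α) (r : TG XR) (a b : TG XV) (d : jR r = iN a ∧ jR (α r) = iN b := by decide +kernel) :
    Cj (φ.comp iN) g a b := by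
  have := n r
  rwa [d.2, d.1] at this

omit e w in
theorem k7 {υ : TG XV →* G} {σ : TG XV →* TG XV} (k : ∀ a ∈ [1, 2, 4, 14, 16, 32, 64], Cj υ g (eV a) (σ (eV a))) (u : TG XV)
    (b : u.v < 128) : Cj υ g u (σ u) := by
  simp only [List.forall_mem_cons] at k
  obtain ⟨k1, k2, k3, k4, k5, k6, k7, -⟩ := k
  refine (TG.top (M := (((MulAut.conj g).toMonoidHom.comp υ).eqLocus (υ.comp σ)).comap i7)
    (l := [1, 2, 4, 8, 16, 32, 64].map (TG.e XV7)) (by decide +kernel) ?_).ge (mem_top ⟨u.v, b⟩)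
  simp only [List.map_cons, List.map_nil, List.forall_mem_cons]
  refine ⟨k1, k2, k3, ?_, k5, k6, k7, by simp⟩
  have := (k4.mul k2).mul k3
  rw [← map_mul, ← map_mul, (by decide +kernel : eV 14 * eV 2 * eV 4 = i7 (TG.e XV7 8))] at this
  exact this

noncomputable def zb (k : Bool) : TG XV := eV (cond k 1 0)
noncomputable def sA : Bool → TG XV →* TG XV
  | true => sV [178, 81, 32, 16, 41, 20, 2, 1]
  | false => sV [160, 80, 32, 16, 40, 20, 2, 1]
noncomputable def sB : Bool → TG XV →* TG XV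
  | true => sV [212, 64, 49, 16, 73, 4, 18, 1]
  | false => sV [192, 64, 48, 16, 72, 4, 18, 1]

omit e w in
theorem Cj.zb {υ : TG XV →* G} {a b : TG XV} (p : Cj υ g a (b * a) ∨ Cj υ g a (eV 1 * b * a)) : ∃ k, Cj υ g a (zb k * b * a) :=
  p.elim (fun p => ⟨false, p.of ⟨rfl, by rw [show WA.zb false = 1 from rfl, one_mul]⟩⟩) fun p => ⟨true, p⟩

theorem En.th : ι th * wA ι y * (ι th)⁻¹ = wA ι y * wB ι y ∧ ι th * wB ι y * (ι th)⁻¹ = wA ι y := by
  have E := e.ev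
  have q : ∀ v, ι Gu.th * (ι Gu.wb * φ.comp iN v * (ι Gu.wb)⁻¹) * (ι Gu.th)⁻¹ = ι Gu.wb * φ.comp iN (sh v) * (ι Gu.wb)⁻¹ :=
    fun v => by rw [← conj_mul, ← conj_mul, ← conj_inv, cjι wb_rel.2.2.1.symm, act_h E w]
  obtain ⟨p1, p2⟩ := (by decide +kernel : sh (eV 32) = eV 32 * eV 64 ∧ sh (eV 64) = eV 32)
  rw [wA, wB, ← E.e32, ← E.e64, q, q, p1, p2, map_mul, conj_mul]
  exact ⟨rfl, rfl⟩

/-- the action on a subgroup of index two -/
theorem En.a7 : ∃ k, ∀ u : TG XV, u.v < 128 → Cj (φ.comp iN) (wA ι y) u (sA k u) ∧ Cj (φ.comp iN) (wB ι y) u (sB k u) := by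
  have E := e.ev
  obtain ⟨AA, BB, r3, -⟩ := rAB w
  obtain ⟨hA, hB⟩ := e.th w
  have nA := e.nA w
  have nB := e.nB w
  have A1 := nA.cj (eR 1) (eV 1) (eV 1)
  have A2 := nA.cj (eR 2) (eV 2) (eV 2)
  have A4 := nA.cj (eR 4) (eV 4) (eV 20)
  have A16 := nA.cj (eR 8) (eV 16) (eV 16)
  have B1 := nB.cj (eR 1) (eV 1) (eV 1)
  have B2 := nB.cj (eR 2) (eV 2) (eV 18)
  have B4 := nB.cj (eR 4) (eV 4) (eV 4)
  have B16 := nB.cj (eR 8) (eV 16) (eV 16)
  have Az : ∀ k, Cj (φ.comp iN) (wA ι y) (zb k) (zb k) := fun k => by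
    cases k
    exacts [show _ * φ.comp iN 1 * _ = φ.comp iN 1 by simp, A1]
  obtain ⟨k, B32⟩ := Cj.zb (e.rig w nB BB (e.cO w).2 (r3 _ (by simp)).2 (eV 32) (eV 16) B16)
  have A64 : Cj (φ.comp iN) (wA ι y) (eV 64) (zb k * eV 16 * eV 64) := by
    have wi := inv_eq_of_mul_eq_one_right (sqι (ι := ι) (a := Gu.wb))
    have b : ι Gu.wb * wB ι y * (ι Gu.wb)⁻¹ = φ.comp iN (eV 64) := by
      rw [wB, E.e64, wi]; simp only [mul_assoc, ← mul_assoc (ι Gu.wb) (ι Gu.wb), sqι (a := Gu.wb), one_mul, mul_one]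
    have q : Cj (φ.comp iN) (ι Gu.wb) (zb k * eV 16) (zb k * eV 16) := Cj.mul (by
      cases k
      exacts [show _ * φ.comp iN 1 * _ = φ.comp iN 1 by simp, (e.wb w).cj (eR 1) (eV 1) (eV 1)])
      ((e.wb w).cj (eR 8) (eV 16) (eV 16))
    have := congrArg (ι Gu.wb * · * (ι Gu.wb)⁻¹) B32
    simp only [map_mul (φ.comp iN) _ (eV 32)] at this
    rw [← conj_mul, ← conj_mul, ← conj_mul, ← conj_inv, b, q, E.e32, ← wA, mul_inv_eq_iff_eq_mul] at this
    have c := mul_inv_eq_iff_eq_mul.1 ((Az k).mul A16)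
    rw [← c, mul_assoc, ← map_mul] at this
    refine Cj.sym ?_ AA
    rw [Cj, ← this, mul_inv_cancel_right]
  have A96 := (cj_tr (act_h E w) hB).2 B32
  have A32 : Cj (φ.comp iN) (wA ι y) (eV 32) (eV 32) := (A96.mul A64).of (by cases k <;> decide +kernel)
  have B64 : Cj (φ.comp iN) (wB ι y) (eV 64) (eV 64) := (cj_tr (act_h E w) hB).1 A32.of
  obtain ⟨j, A14⟩ := Cj.zb (e.rig w nA AA (e.cO w).1 (r3 _ (by simp)).1 (eV 14) (eV 48) (A32.mul A16).of)
  have B14 : Cj (φ.comp iN) (wB ι y) (eV 14) (zb j * eV 16 * eV 64 * eV 14) :=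
    (cj_tr (act_h E w) hB).1 (A14.of (by cases j <;> decide +kernel))
  have C14 := ((cj_tr (act_h E w) hA).2 A14).of (a' := eV 14) ⟨by decide +kernel, rfl⟩
  obtain rfl : j = k := by
    have := C14.eq (B14.cmp ((((Az j).mul A16).mul A64).mul A14)) E.inj
    revert this; cases j <;> cases k <;> decide +kernel
  refine ⟨j, fun u b => ⟨k7 ?_ u b, k7 ?_ u b⟩⟩ <;> simp only [List.forall_mem_cons]
  · refine ⟨A1.of ?_, A2.of ?_, A4.of ?_, A14.of ?_, A16.of ?_, A32.of ?_, A64.of ?_, by simp⟩ <;> cases j <;> decide +kernel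
  · refine ⟨B1.of ?_, B2.of ?_, B4.of ?_, B14.of ?_, B16.of ?_, B32.of ?_, B64.of ?_, by simp⟩ <;> cases j <;> decide +kernel

theorem En.all : ∃ k, ∀ u : TG XV, Cj (φ.comp iN) (wA ι y) u (sA k u) ∧ Cj (φ.comp iN) (wB ι y) u (sB k u) := by
  have E := e.ev
  obtain ⟨k, K⟩ := e.a7 w
  obtain ⟨AA, -, r3, r4, -⟩ := rAB w
  obtain ⟨hA, hB⟩ := e.th w
  have c0 : ∀ {a b : TG XV}, Cj (φ.comp iN) (wA ι y) a b → Cj φ (wA ι y) (iN a) (iN b) := id
  have At : Cj φ (wA ι y) (eN 256 * eN 1024) (eN 1024) := by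
    rw [Cj, map_mul, e.ea, e.et, ← mul_assoc, mul_inv_eq_iff_eq_mul.1 (r3 (ι va) (by simp)).1, ← r4]
    group
  generalize hg : wA ι y * φ (iN (eV 224)) * (wA ι y)⁻¹ = g
  have c1 : g * φ (eN 1024) * g⁻¹ = φ (eN 1024 * iN (sA k (eV 61))) := by
    rw [← At.mul (c0 (K _ (by decide)).1), ← At, ← hg, (by decide +kernel : eN 256 * eN 1024 * iN (eV 61) =
      iN (eV 224) * (eN 256 * eN 1024) * (iN (eV 224))⁻¹), map_mul φ _ _⁻¹, map_mul φ (iN _), map_inv]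
    group
  have cv : ∀ {v : TG XN} {l : LL} {σ : TG XV → TG XV} (m : ℕ), φ v = ι l → l ∈ [va, vb] →
      (∀ u, ι l * φ.comp iN u * (ι l)⁻¹ = φ.comp iN (σ u)) → (eV m).v < 128 ∧ σ (eV 224) = eV 224 * eV m →
      φ v * g * (φ v)⁻¹ = g * φ (iN (sA k (eV m))) := fun {v l σ} m p n q d => by
    have s := (r3 (ι l) (by rcases List.mem_pair.1 n with rfl | rfl <;> simp)).1
    rw [← c0 (K _ d.1).1, ← hg, conj_mul, ← map_mul, ← map_mul, ← d.2, p]
    refine .trans ?_ (congrArg (wA ι y * · * (wA ι y)⁻¹) (q _))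
    simp only [← conj_mul (b := wA ι y), ← conj_inv (b := wA ι y), s]
    rfl
  have c2 := cv 48 e.ea (by simp) (act_a E w) (by decide +kernel)
  have c3 := cv 80 e.eb (by simp) (act_b E w) (by decide +kernel)
  have gg : g * g = 1 := by rw [← hg, conj_mul, show φ (iN _) * φ (iN _) = 1 from E.sq _]; simp
  obtain ⟨f, q⟩ := (by cases k <;> decide +kernel : ∃ f, sA k (eV 61) = iEV f)
  obtain ⟨j, A⟩ : ∃ j, Cj (φ.comp iN) (wA ι y) (eV 224) (zb j * sA k (eV 224)) := by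
    obtain ⟨a, r | r⟩ := E.can2 w (g := g) (f := f) (fun f => by
      rw [← E.E, ← hg, ← ((K (iEV f) ((by decide +kernel : ∀ f, (iEV f).v < 128) f)).1.sym AA)]
      exact ((Commute.map (XV_cm _ _) (φ.comp iN)).conj _).eq) (by rw [← e.et, c1, q, map_mul, ← E.E]; rfl) (e2_inv gg)
    · change g = φ (iN a) at r
      rw [r, ← map_inv, ← map_mul, ← map_mul] at c1 c2 c3
      rw [← map_mul] at c2 c3
      obtain ⟨j, q⟩ := (by decide +kernel : ∀ k a, iN a * eN 1024 * (iN a)⁻¹ = eN 1024 * iN (sA k (eV 61)) →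
        eN 256 * iN a * (eN 256)⁻¹ = iN a * iN (sA k (eV 48)) → eN 512 * iN a * (eN 512)⁻¹ = iN a * iN (sA k (eV 80)) →
        ∃ j, a = zb j * sA k (eV 224)) k a (e.inj c1) (e.inj c2) (e.inj c3)
      exact ⟨j, hg.trans (q ▸ r)⟩
    · change g = φ (iN a) * t at r
      rw [← e.et, ← map_mul] at r
      rw [r, ← map_inv, ← map_mul, ← map_mul] at c1
      rw [r, ← map_mul, ← map_one φ] at gg
      exact ((by decide +kernel : ∀ k a, iN a * eN 1024 * (iN a * eN 1024) = 1 →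
        iN a * eN 1024 * eN 1024 * (iN a * eN 1024)⁻¹ ≠ eN 1024 * iN (sA k (eV 61))) k a (e.inj gg) (e.inj c1)).elim
  have B : Cj (φ.comp iN) (wB ι y) (eV 224) (zb j * sB k (eV 224)) :=
    (cj_tr (act_h E w) hB).1 (A.of (by cases j <;> cases k <;> decide +kernel))
  have C := ((cj_tr (act_h E w) hA).2 A).of (a' := eV 224) ⟨by decide +kernel, rfl⟩
  obtain rfl : j = false := by
    have := C.eq (B.cmp ((A.mul (K (eV 224 * (zb j * sB k (eV 224))) (by cases j <;> cases k <;> decide +kernel)).1).of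
      ⟨by rw [← mul_assoc, XV_el.1, one_mul], rfl⟩)) E.inj
    revert this; cases j <;> cases k <;> decide +kernel
  rw [show zb false = 1 from rfl, one_mul] at A B
  refine ⟨k, fun u => ?_⟩
  rcases (by decide +kernel : ∀ u : TG XV, u.v < 128 ∨ (eV 224 * u).v < 128) u with b | b
  · exact K u b
  · have := And.intro (A.mul (K _ b).1) (B.mul (K _ b).2)
    rwa [← map_mul, ← map_mul, ← mul_assoc, XV_el.1, one_mul] at this

end CF.Gu.WA

namespace CF.Gu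
open WA

theorem Wg.tow {G : Type*} [Group G] [Finite G] {ι : LL →* G} {t y : G} (w : Wg ι t y) :
    (∃ φ : TG XL3 →* G, Ew ι t y φ) ∨ ∃ φ : TG XW3 →* G, Ew ι t y φ := by
  obtain ⟨υ, e⟩ := w.ups
  obtain ⟨φ, a, b, c, d⟩ := exN e w
  have e : En ι t y φ := ⟨a, b, c, d⟩
  obtain ⟨_ | _, K⟩ := e.all w
  · exact .inr (ex3 e.ev w rfl rfl rfl
      (Pr.of (fun u => (K u).1) [(1, 1), (2, 2), (4, 20), (8, 40), (16, 16), (32, 32), (64, 80), (128, 160)])
      (Pr.of (fun u => (K u).2) [(1, 1), (2, 18), (4, 4), (8, 72), (16, 16), (32, 48), (64, 64), (128, 192)]) (by decide +kernel))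
  · exact .inl (ex3 e.ev w rfl rfl rfl
      (Pr.of (fun u => (K u).1) [(1, 1), (2, 2), (4, 20), (8, 41), (16, 16), (32, 32), (64, 81), (128, 178)])
      (Pr.of (fun u => (K u).2) [(1, 1), (2, 18), (4, 4), (8, 73), (16, 16), (32, 49), (64, 64), (128, 212)]) (by decide +kernel))

end CF.Gu
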