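import Cfsg.Agent.Gu.W1

/-! The case `U = 2⁸`: the group `U`. -/

set_option autoImplicit false
set_option linter.unusedSectionVars false
set_option maxRecDepth 100000

namespace CF.Gu
open Subgroup Cfsg CF.BG CF.Sig CF.GW CF.Ab2

variable {G : Type*} [Group G] [Finite G] {ι : LL →* G} {t y c g x o : G} {h : HH} {l : LL} {υ υ' : TG XV →* G}

theorem eL_EE (f : TG XE) : eL f ∈ EE := lE_EE _ ((by decide +kernel : ∀ f, eL f ∈ lE) f)
theorem EE_eL (m : l ∈ EE) : ∃ f, eL f = l := (by decide +kernel : ∀ e ∈ lE, ∃ f, eL f = e) l (EE_lE m)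

theorem ev_cm {K : Type*} [Group K] {x : K} : ∀ (W : List Cd.Lv) (xs : List K) (a : ℕ), (∀ u ∈ xs, Commute x u) →
    Commute x (Cd.ev W xs a)
  | [], _, _, _ => .one_right x
  | _ :: _, [], _, _ => .one_right x
  | L :: r, u :: xs, a, k => by
    have := fun a => ev_cm r xs a fun u m => k u (List.mem_cons_of_mem _ m)
    unfold Cd.ev
    split_ifs
    exacts [(this _).mul_right (k u List.mem_cons_self), this _]

/-- elementary abelian towers -/
noncomputable def abOK : List Cd.Lv → Bool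
  | [] => true
  | L :: r => abOK r && L.B 0 == 0 && r.all fun L' => L.A L'.top == L'.top

theorem rel_ab {K : Type*} [Group K] : ∀ (W : List Cd.Lv) (xs : List K), Cd.Bd W → abOK W = true → W.length = xs.length →
    (∀ u ∈ xs, u * u = 1) → (∀ u ∈ xs, ∀ v ∈ xs, Commute u v) → Cd.Rel W xs
  | [], [], _, _, _, _, _ => trivial
  | [], _ :: _, _, _, k, _, _ => by simp at k
  | _ :: _, [], _, _, k, _, _ => by simp at k
  | L :: r, u :: xs, b, a, k, p, q => by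
    simp only [abOK, Bool.and_eq_true, beq_iff_eq, List.all_eq_true] at a
    have m := fun {v} (n : v ∈ xs) => List.mem_cons_of_mem u n
    exact ⟨rel_ab r xs b.1 a.1.1 (Nat.succ_injective k) (fun v n => p v (m n)) fun v n v' n' => q v (m n) v' (m n'),
      by rw [a.1.2, Cd.ev_zero b.1, p u List.mem_cons_self], fun L' n => by
        rw [a.2 L' n, (ev_cm r xs _ fun v n => q u List.mem_cons_self v (m n)).eq, mul_inv_cancel_right]⟩

theorem XV_el : (∀ a : TG XV, a * a = 1) ∧ ∀ a : TG XV, ∃ f f', a = iEV f * hiE f' := by decide +kernel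
theorem XV_cm (a b : TG XV) : a * b = b * a := by
  have i : ∀ a : TG XV, a⁻¹ = a := fun a => inv_eq_of_mul_eq_one_right (XV_el.1 a)
  rw [← i (a * b), mul_inv_rev, i, i]

theorem XE_top {M : Subgroup (TG XE)} (k : ∀ k < 5, TG.e XE (zcd k) ∈ M) : M = ⊤ := by
  refine TG.top (l := [TG.e XE (zcd 4), TG.e XE (zcd 0) * TG.e XE (zcd 1), TG.e XE (zcd 0) * TG.e XE (zcd 2),
    TG.e XE (zcd 0) * TG.e XE (zcd 4)]) (by decide +kernel) ?_
  simp only [List.forall_mem_cons]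
  exact ⟨k 4 (by decide), mul_mem (k 0 (by decide)) (k 1 (by decide)), mul_mem (k 0 (by decide)) (k 2 (by decide)),
    mul_mem (k 0 (by decide)) (k 4 (by decide)), by simp⟩

theorem zcd_e : ∀ k < 5, eL (TG.e XE (zcd k)) = zk k ∧ iEV (TG.e XE (zcd k)) = TG.e XV (zcd k) ∧
    hiE (TG.e XE (zcd k)) = TG.e XV (16 * zcd k) := by decide +kernel

theorem XV_top {M : Subgroup (TG XV)} (k : ∀ k < 5, TG.e XV (zcd k) ∈ M ∧ TG.e XV (16 * zcd k) ∈ M) : M = ⊤ :=
  top_unique fun a _ => by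
    obtain ⟨f, f', rfl⟩ := XV_el.2 a
    exact mul_mem ((XE_top (M := M.comap iEV) fun j b => by rw [mem_comap, (zcd_e j b).2.1]; exact (k j b).1).ge (mem_top f))
      ((XE_top (M := M.comap hiE) fun j b => by rw [mem_comap, (zcd_e j b).2.2]; exact (k j b).2).ge (mem_top f'))

/-- `M` permutes the diagonal involutions -/
theorem MM_zk (m : l ∈ MM) : ∀ k < 5, ∃ j < 5, l * zk k = zk j * l := by
  have t : ∀ {a b : LL}, (∀ k < 5, ∃ j < 5, a * zk k = zk j * a) → (∀ k < 5, ∃ j < 5, b * zk k = zk j * b) →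
      ∀ k < 5, ∃ j < 5, a * b * zk k = zk j * (a * b) := fun p r k n => by
    obtain ⟨j, n', s⟩ := r k n
    obtain ⟨i, n'', s'⟩ := p j n'
    exact ⟨i, n'', by rw [mul_assoc, s, ← mul_assoc, s', mul_assoc]⟩
  refine And.left (b := ∀ k < 5, ∃ j < 5, l⁻¹ * zk k = zk j * l⁻¹) ?_
  induction m using closure_induction with
  | mem a m =>
    have := (by decide +kernel : ∀ a ∈ [z0, th, p5], (∀ k < 5, ∃ j < 5, a * zk k = zk j * a) ∧
      ∀ k < 5, ∃ j < 5, a⁻¹ * zk k = zk j * a⁻¹)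
    rcases m with rfl | rfl | rfl <;> exact this _ (by simp)
  | one => exact ⟨fun k b => ⟨k, b, by simp⟩, fun k b => ⟨k, b, by simp⟩⟩
  | mul a b _ _ p r => exact ⟨t p.1 r.1, mul_inv_rev a b ▸ t r.2 p.2⟩
  | inv a _ p => exact ⟨p.2, by rw [inv_inv]; exact p.1⟩

/-- the odd factor of a 2-element is trivial -/
theorem o_one {w : G} (m : o ∈ Oo t) (c : w * o = o * w) (a : E2 w) (b : E2 (w * o)) : o = 1 := by
  have := a.inv.mul b (by rw [inv_mul_cancel_left, c, mul_inv_cancel_right])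
  rw [inv_mul_cancel_left] at this
  exact this.eq_one ((O_pi _ _).elt m)

theorem e2_inv (e : g * g = 1) : E2 g := e2_iff.2 ⟨1, by rw [pow_one, pow_two, e]⟩

theorem Hy.dec (H : Hy ι t) (m : g ∈ 𝐂₁ t) (a : Ac ι g (iL l)) : ∃ o ∈ Oo t, g = ι l * o ∨ g = ι l * t * o := by
  obtain ⟨p, q, -⟩ := H.part m a
  rcases H.ker p q with k | k
  · exact ⟨_, k, .inl (by group)⟩
  · exact ⟨_, k, .inr (by rw [mem_cent1.1 p, mul_assoc, ← mul_assoc t, H.it.sq]; group)⟩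

theorem Hy.ti (H : Hy ι t) : t⁻¹ = t := inv_eq_of_mul_eq_one_right H.it.sq
theorem Hy.to (H : Hy ι t) (m : o ∈ Oo t) : t * o = o * t := (mem_cent1.1 (O_le _ _ m)).symm
theorem Hy.lo (H : Hy ι t) (m : o ∈ Oo t) (l : LL) : ι l * o = o * ι l := ((H.oc m).cm (by simp)).symm

namespace Wg
variable (w : Wg ι t y)
include w

theorem y2 (k : ℕ) : xk ι y k * xk ι y k = 1 := by rw [← xk_mul, w.yy, xk_one]

theorem cjy {j k : ℕ} (e : l * zk j = zk k * l) : ι l * xk ι y j * (ι l)⁻¹ = xk ι y k :=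
  xk_cj (s := (p5 ^ (k + 1))⁻¹ * l * p5 ^ (j + 1)) (mem_Cx.2 (w.yc _ (by
    calc _ = (p5 ^ (k + 1))⁻¹ * (l * zk j) * p5 ^ (j + 1) := by simp only [zk]; group
      _ = _ := by rw [e]; simp only [zk]; group)).symm) (by group)

theorem cjg {j k : ℕ} (a : Ac ι g h) (cy : g * y = y * g) (z : h * iL zc = iL zc * h) (e : h * iL (zk j) = iL (zk k) * h) :
    g * xk ι y j * g⁻¹ = xk ι y k := by
  have q : aut h (p5 ^ (j + 1)) * zk 4 = zk k * aut h (p5 ^ (j + 1)) := by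
    rw [← aut_eq.2 e, zk_eq.2.2.2.2, ← map_mul, zk, inv_mul_cancel_right, map_mul, aut_eq.2 z]
  rw [← w.cjy q, xk_four, ← a, xk]
  calc _ = g * ι (p5 ^ (j + 1)) * g⁻¹ * (g * y * g⁻¹) * (g * ι (p5 ^ (j + 1)) * g⁻¹)⁻¹ := by group
    _ = _ := by rw [cy, mul_inv_cancel_right]

theorem yz : y * ι zc = ι zc * y := w.yc _ rfl
theorem cE : ∀ e ∈ lE, e ∈ Cx ι y := fun e m => mem_Cx.2 (w.yc e ((by decide +kernel : ∀ e ∈ lE, e * zc = zc * e) e m)).symm
theorem kO (k : ℕ) (m : o ∈ Oo t) : xk ι y k * o = o * xk ι y k :=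
  ((Commute.mul_left (w.lo m _) (w.cO o m)).mul_left (Commute.inv_left (w.lo m _))).eq
theorem ty (k : ℕ) : t * xk ι y k * t⁻¹ = ι (zk k) * xk ι y k := by
  calc _ = t * (xk ι y k * t * (xk ι y k)⁻¹) * xk ι y k := by rw [w.ti]; group
    _ = _ := by rw [w.xkt w.yt, ← mul_assoc, w.it.sq, one_mul]

theorem yt2 : y * t * (y * t) = ι zc := by
  calc _ = y * t * y⁻¹ * (y * y) * t := by group
    _ = _ := by rw [w.yt, w.yy, mul_one, mul_assoc, w.tc, ← mul_assoc, w.it.sq, one_mul]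

/-- an involution like `y` is `y` or `y z` -/
theorem yuq (a : x * x = 1) (b : x * t * x⁻¹ = t * ι zc) (c : ∀ q, x * ι (qL q) = ι (qL q) * x) : x = y ∨ x = y * ι zc := by
  have yi : y⁻¹ = y := inv_eq_of_mul_eq_one_right w.yy
  have m : y * x ∈ 𝐂₁ t := mem_cent1.2 (tmul' w.yz w.yt b)
  obtain ⟨h, p⟩ := w.ac _ m
  have cz : Commute y (ι zc) := w.yz
  have ct : Commute t (ι zc) := (w.tc _).symm
  have e1 : E2 (y * t) := e2_iff.2 ⟨2, by rw [show 2 ^ 2 = 2 * 2 from rfl, pow_mul, pow_two (y * t), w.yt2, pow_two, zz_ι]⟩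
  have k : ∀ l, l = 1 ∨ l = zc → Ac ι (y * x) (iL l) → x = y ∨ x = y * ι zc := fun l n p => by
    obtain ⟨o, mo, q⟩ := w.dec m p
    have cl : Commute (y * t) (ι l) := by
      rcases n with rfl | rfl
      exacts [by simp, cz.mul_left ct]
    have ll : ι l * ι l = 1 := by
      rcases n with rfl | rfl
      exacts [by simp, zz_ι]
    have cy : Commute y (ι l) := w.yc _ (by rcases n with rfl | rfl <;> simp)
    rcases q with q | q
    · have r : x = y * ι l * o := by rw [mul_assoc, ← q, ← mul_assoc, w.yy, one_mul]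
      obtain rfl := o_one mo (Commute.mul_left (w.cO o mo) (w.lo mo l)) ((e2_inv w.yy).mul (e2_inv ll) cy) (r ▸ e2_inv a)
      rcases n with rfl | rfl
      exacts [.inl (by simpa using r), .inr (by simpa using r)]
    · have r : x = y * t * ι l * o := by rw [mul_assoc y, ← w.tc, mul_assoc, ← q, ← mul_assoc, w.yy, one_mul]
      obtain rfl := o_one mo ((Commute.mul_left (w.cO o mo) (w.to mo)).mul_left (w.lo mo l)) (e1.mul (e2_inv ll) cl)
        (r ▸ e2_inv a)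
      rw [r, mul_one, ← pow_two, cl.mul_pow, pow_two, pow_two, w.yt2, ll, mul_one] at a
      exact (w.zn a).elim
  rcases w.acQ p (fun q => Commute.mul_left (w.yc _ (Q_z.1 q)) (c q)) with rfl | rfl
  exacts [k 1 (.inl rfl) (by simpa using p), k zc (.inr rfl) p]

theorem yy2 (a : g * t = t * g) (b : g * ι zc = ι zc * g) : g * y * g⁻¹ = y ∨ g * y * g⁻¹ = y * ι zc := by
  obtain ⟨h, p⟩ := w.ac g (mem_cent1.2 a)
  refine w.yuq (by rw [conj_mul, w.yy]; simp) ?_ fun q => ?_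
  · calc _ = g * (y * (g⁻¹ * t * g) * y⁻¹) * g⁻¹ := by group
      _ = _ := by rw [mul_assoc g⁻¹, ← a, inv_mul_cancel_left, w.yt, ← conj_mul, a, b]; group
  · have z : aut h⁻¹ zc = zc := aut_eq.2 (Commute.inv_left (w.toHy.cm p b))
    have := w.yc (aut h⁻¹ (qL q)) (by rw [← z, ← map_mul, ← map_mul, Q_z.1])
    rw [← p.inv] at this
    calc _ = g * (y * (g⁻¹ * ι (qL q) * g⁻¹⁻¹)) * g⁻¹ := by group
      _ = _ := by rw [this]; group

end Wg

theorem Ev.uq (e : Ev ι y υ) (e' : Ev ι y υ') : υ = υ' := MonoidHom.ext fun a => (TG.top (M := υ.eqLocus υ')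
    (l := [1, 2, 4, 8, 16, 32, 64, 128].map (TG.e XV)) (by decide +kernel) (by
  simp only [List.map_cons, List.map_nil, List.forall_mem_cons]
  exact ⟨e.e1.trans e'.e1.symm, e.e2.trans e'.e2.symm, e.e4.trans e'.e4.symm, e.e8.trans e'.e8.symm, e.e16.trans e'.e16.symm,
    e.e32.trans e'.e32.symm, e.e64.trans e'.e64.symm, e.e128.trans e'.e128.symm, by simp⟩)).ge (mem_top a)

theorem Ev.lo {Z : TD} [Z.OK] {φ : TG Z →* G} (e : Ev ι y φ) {Z' : TD} [Z'.OK] (j : TG Z' →* TG Z) (i : Function.Injective j)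
    (k : ∀ a ∈ [1, 2, 4, 8, 16, 32, 64, 128], j (TG.e Z' a) = TG.e Z a) : Ev ι y (φ.comp j) := by
  have q : ∀ a ∈ [1, 2, 4, 8, 16, 32, 64, 128], φ.comp j (TG.e Z' a) = φ (TG.e Z a) := fun a m => congrArg φ (k a m)
  simp only [List.forall_mem_cons] at q
  obtain ⟨a1, a2, a3, a4, a5, a6, a7, a8, -⟩ := q
  exact ⟨e.inj.comp i, a1.trans e.e1, a2.trans e.e2, a3.trans e.e4, a4.trans e.e8, a5.trans e.e16, a6.trans e.e32,
    a7.trans e.e64, a8.trans e.e128⟩

/-- the generator equations without injectivity -/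
structure Ev0 (ι : LL →* G) (y : G) (φ : TG XV →* G) : Prop where
  E : ∀ f, φ (iEV f) = ι (eL f)
  yk : ∀ k < 5, φ (TG.e XV (16 * zcd k)) = xk ι y k

theorem ev_E (a : υ (TG.e XV 1) = ι zc) (b : υ (TG.e XV 2) = ι bt) (c : υ (TG.e XV 4) = ι b2) (d : υ (TG.e XV 8) = ι rr)
    (f : TG XE) : υ (iEV f) = ι (eL f) := by
  have k : ∀ {c : ℕ} {l : LL}, iEV (TG.e XE c) = TG.e XV c ∧ eL (TG.e XE c) = l → υ (TG.e XV c) = ι l →
      TG.e XE c ∈ (υ.comp iEV).eqLocus (ι.comp eL) := fun q r => by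
    change υ _ = ι _
    rw [q.1, q.2, r]
  refine (TG.top (M := (υ.comp iEV).eqLocus (ι.comp eL)) (l := [1, 2, 4, 8].map (TG.e XE)) (by decide +kernel) ?_).ge (mem_top f)
  simp only [List.map_cons, List.map_nil, List.forall_mem_cons]
  exact ⟨k (by decide +kernel) a, k (by decide +kernel) b, k (by decide +kernel) c, k (by decide +kernel) d, by simp⟩

theorem Wg.ev_y (w : Wg ι t y) (a : υ (TG.e XV 16) = y) (b : υ (TG.e XV 32) = xk ι y 0 * xk ι y 1)
    (c : υ (TG.e XV 64) = xk ι y 0 * xk ι y 2) (d : υ (TG.e XV 128) = xk ι y 0 * y) :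
    ∀ k < 5, υ (TG.e XV (16 * zcd k)) = xk ι y k := by
  obtain ⟨p0, p1, p2, p3, p4⟩ := (by decide +kernel : TG.e XV (16 * zcd 0) = TG.e XV 128 * TG.e XV 16 ∧
    TG.e XV (16 * zcd 1) = TG.e XV (16 * zcd 0) * TG.e XV 32 ∧ TG.e XV (16 * zcd 2) = TG.e XV (16 * zcd 0) * TG.e XV 64 ∧
    TG.e XV (16 * zcd 3) = (TG.e XV 32 * TG.e XV (16 * zcd 2))⁻¹ * (TG.e XV 16)⁻¹ ∧ TG.e XV (16 * zcd 4) = TG.e XV 16)
  have q0 : υ (TG.e XV (16 * zcd 0)) = xk ι y 0 := by rw [p0, map_mul, a, d, mul_assoc, w.yy, mul_one]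
  have q2 : υ (TG.e XV (16 * zcd 2)) = xk ι y 2 := by rw [p2, map_mul, q0, c, ← mul_assoc, w.y2, one_mul]
  intro k n
  interval_cases k
  exacts [q0, by rw [p1, map_mul, q0, b, ← mul_assoc, w.y2, one_mul], q2, by
    rw [p3, map_mul, map_inv, map_inv, map_mul, q2, b, a, ← eq_inv_of_mul_eq_one_left w.pr, inv_mul_cancel_left],
    by rw [p4, a, xk_four]]

theorem Ev0.tY (e : Ev0 ι y υ) (w : Wg ι t y) (f : TG XE) : t * υ (hiE f) * t⁻¹ = ι (eL f) * υ (hiE f) := by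
  let M : Subgroup (TG XE) :=
    { carrier := {f | t * υ (hiE f) * t⁻¹ = υ (iEV f * hiE f)}
      one_mem' := by simp
      mul_mem' := fun {a b} p q => by
        change _ = _ at p q ⊢
        rw [map_mul, map_mul, ← conj_mul, p, q, ← map_mul, map_mul iEV, mul_assoc, mul_assoc, ← mul_assoc (hiE a), XV_cm (hiE a),
          mul_assoc]
      inv_mem' := fun {a} p => by
        change _ = _ at p ⊢
        rw [map_inv, map_inv, ← conj_inv, p, ← map_inv, mul_inv_rev, XV_cm, map_inv iEV] }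
  have : f ∈ M := (XE_top fun k b => by
    change _ = _
    rw [map_mul, e.E, (zcd_e k b).1, (zcd_e k b).2.2, e.yk k b, w.ty]).ge (mem_top f)
  rw [← e.E, ← map_mul]; exact this

theorem Wg.ups (w : Wg ι t y) : ∃ υ : TG XV →* G, Ev ι y υ := by
  have cy : ∀ k, Commute (xk ι y k) y := fun k => by simpa only [xk_four, Commute, SemiconjBy] using w.cm k 4
  have ck : ∀ j k, Commute (xk ι y j) (xk ι y k) := w.cm
  let K : Set G := {u | (∃ k, u = xk ι y k) ∨ ∃ e ∈ lE, u = ι e}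
  have cK : ∀ u ∈ K, ∀ v ∈ K, u * v = v * u := by
    rintro _ (⟨j, rfl⟩ | ⟨a, m, rfl⟩) _ (⟨k, rfl⟩ | ⟨b, n, rfl⟩)
    exacts [w.cm j k, (mem_Cx.1 (xk_E w.cE j b n)).symm, mem_Cx.1 (xk_E w.cE k a m),
      by rw [← map_mul, ← map_mul, (by decide +kernel : ∀ a ∈ lE, ∀ b ∈ lE, a * b = b * a) a m b n]]
  have ky : ∀ k, xk ι y k ∈ closure K := fun k => subset_closure (.inl ⟨k, rfl⟩)
  have kl : ∀ e ∈ lE, ι e ∈ closure K := fun e m => subset_closure (.inr ⟨e, m, rfl⟩)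
  have sq : ∀ l : LL, l * l = 1 → ι l * ι l = 1 := fun l q => by rw [← map_mul, q, map_one]
  have s2 : ∀ k, xk ι y 0 * xk ι y k * (xk ι y 0 * xk ι y k) = 1 := fun k => by
    rw [← pow_two, (ck 0 k).mul_pow, pow_two, pow_two, w.y2, w.y2, one_mul]
  have R : Cd.Rel XV.W [xk ι y 0 * y, xk ι y 0 * xk ι y 2, xk ι y 0 * xk ι y 1, y, ι rr, ι b2, ι bt, ι zc] := by
    refine rel_ab _ _ XV_ok.tw.1 (by decide +kernel) rfl ?_ fun u m v n => ?_
    · simp only [List.forall_mem_cons]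
      exact ⟨by simpa only [xk_four] using s2 4, s2 2, s2 1, w.yy, sq _ (by decide +kernel), sq _ (by decide +kernel),
        sq _ (by decide +kernel), zz_ι, by simp⟩
    · have : ∀ u ∈ [xk ι y 0 * y, xk ι y 0 * xk ι y 2, xk ι y 0 * xk ι y 1, y, ι rr, ι b2, ι bt, ι zc], u ∈ closure K := by
        have := xk_four (ι := ι) y ▸ ky 4
        simp only [List.forall_mem_cons]
        exact ⟨mul_mem (ky 0) this, mul_mem (ky 0) (ky 2), mul_mem (ky 0) (ky 1), this, kl _ (by simp [lE]), kl _ (by simp [lE]),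
          kl _ (by simp [lE]), kl _ (by simp [lE]), by simp⟩
      exact closure_induction₂ (p := fun a b _ _ => Commute a b) (fun a b p q => cK a p b q) (fun _ _ => .one_left _)
        (fun _ _ => .one_right _) (fun _ _ _ _ _ _ => .mul_left) (fun _ _ _ _ _ _ => .mul_right) (fun _ _ _ _ => .inv_left)
        (fun _ _ _ _ => .inv_right) (this u m) (this v n)
  have q : ∀ a, TG.hom _ R (TG.e XV a) = Cd.ev XV.W _ (a % 256) := fun a => TG.hom_apply _ _ _
  have q1 : TG.hom _ R (TG.e XV 1) = ι zc := (q 1).trans (one_mul _)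
  have q2 : TG.hom _ R (TG.e XV 2) = ι bt := (q 2).trans (one_mul _)
  have q3 : TG.hom _ R (TG.e XV 4) = ι b2 := (q 4).trans (one_mul _)
  have q4 : TG.hom _ R (TG.e XV 8) = ι rr := (q 8).trans (one_mul _)
  have q5 : TG.hom _ R (TG.e XV 16) = y := (q 16).trans (one_mul _)
  have q6 : TG.hom _ R (TG.e XV 32) = _ := (q 32).trans (one_mul _)
  have q7 : TG.hom _ R (TG.e XV 64) = _ := (q 64).trans (one_mul _)
  have q8 : TG.hom _ R (TG.e XV 128) = _ := (q 128).trans (one_mul _)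
  have e : Ev0 ι y (TG.hom _ R) := ⟨ev_E q1 q2 q3 q4, w.ev_y q5 q6 q7 q8⟩
  refine ⟨_, (injective_iff_map_eq_one _).2 fun a p => ?_, q1, q2, q3, q4, q5, q6, q7, q8⟩
  obtain ⟨f, f', rfl⟩ := XV_el.2 a
  have r := e.tY w f'
  rw [map_mul, e.E] at p
  rw [eq_inv_of_mul_eq_one_right p, ← map_inv, ← w.tc, mul_inv_cancel_right, right_eq_mul, ← map_one ι, ← map_one eL] at r
  obtain rfl := eL_inj (w.inj r)
  rw [map_one, map_one, mul_one, ← map_one ι, ← map_one eL] at p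
  rw [eL_inj (w.inj p)]; simp

namespace Ev
variable (e : Ev ι y υ)
include e

theorem E (f : TG XE) : υ (iEV f) = ι (eL f) := ev_E e.e1 e.e2 e.e4 e.e8 f
theorem z {k : ℕ} (b : k < 5) : υ (TG.e XV (zcd k)) = ι (zk k) := by rw [← (zcd_e k b).2.1, e.E, (zcd_e k b).1]
theorem cm (a b : TG XV) : υ a * υ b = υ b * υ a := by rw [← map_mul, XV_cm, map_mul]
theorem sq (a : TG XV) : υ a * υ a = 1 := by rw [← map_mul, XV_el.1, map_one]
theorem cE (a : TG XV) (f : TG XE) : υ a * ι (eL f) = ι (eL f) * υ a := by rw [← e.E, e.cm]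

variable (w : Wg ι t y)
include w

theorem yk {k : ℕ} (b : k < 5) : υ (TG.e XV (16 * zcd k)) = xk ι y k := w.ev_y e.e16 e.e32 e.e64 e.e128 k b
theorem tY (f : TG XE) : t * υ (hiE f) * t⁻¹ = ι (eL f) * υ (hiE f) := Ev0.tY ⟨e.E, fun _ => e.yk w⟩ w f
theorem Yt (f : TG XE) : υ (hiE f) * t * (υ (hiE f))⁻¹ = t * ι (eL f) := by
  calc _ = t * (t * υ (hiE f) * t⁻¹) * (υ (hiE f))⁻¹ := by rw [w.ti, ← mul_assoc, ← mul_assoc, w.it.sq, one_mul]
    _ = _ := by rw [e.tY w]; group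

/-- the action on `U` of an element that permutes the indices -/
theorem act (σ : TG XV →* TG XV) (π : ℕ → ℕ)
    (k : ∀ k < 5, π k < 5 ∧ σ (TG.e XV (zcd k)) = TG.e XV (zcd (π k)) ∧ σ (TG.e XV (16 * zcd k)) = TG.e XV (16 * zcd (π k)))
    (h1 : ∀ k < 5, g * ι (zk k) * g⁻¹ = ι (zk (π k))) (h2 : ∀ k < 5, g * xk ι y k * g⁻¹ = xk ι y (π k)) (a : TG XV) :
    g * υ a * g⁻¹ = υ (σ a) :=
  (XV_top (M := ((MulAut.conj g).toMonoidHom.comp υ).eqLocus (υ.comp σ)) fun j b => ⟨by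
    change g * υ _ * g⁻¹ = υ (σ _)
    rw [(k j b).2.1, e.z b, e.z (k j b).1, h1 j b], by
    change g * υ _ * g⁻¹ = υ (σ _)
    rw [(k j b).2.2, e.yk w b, e.yk w (k j b).1, h2 j b]⟩).ge (mem_top a)

theorem cO (a : TG XV) : ∀ o ∈ Oo t, υ a * o = o * υ a := fun o m =>
  mem_cent1.1 ((XV_top (M := (𝐂₁ o).comap υ) fun j b => ⟨by
    rw [mem_comap, e.z b]; exact mem_cent1.2 (w.lo m _), by
    rw [mem_comap, e.yk w b]; exact mem_cent1.2 (w.kO j m)⟩).ge (mem_top a))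

/-- `M` acts on `Y(E)` as on `E` -/
theorem mY (m : l ∈ MM) {f f' : TG XE} (q : l * eL f = eL f' * l) : ι l * υ (hiE f) * (ι l)⁻¹ = υ (hiE f') := by
  let M : Subgroup (TG XE) :=
    { carrier := {f | ∃ f', l * eL f * l⁻¹ = eL f' ∧ ι l * υ (hiE f) * (ι l)⁻¹ = υ (hiE f')}
      one_mem' := ⟨1, by simp, by simp⟩
      mul_mem' := fun ⟨a, p, q⟩ ⟨b, r, s⟩ => ⟨a * b, by simp only [map_mul, ← p, ← r, conj_mul],
        by simp only [map_mul, ← q, ← s, conj_mul]⟩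
      inv_mem' := fun ⟨a, p, q⟩ => ⟨a⁻¹, by simp only [map_inv, ← p, conj_inv], by simp only [map_inv, ← q, conj_inv]⟩ }
  obtain ⟨a, p, r⟩ : f ∈ M := (XE_top fun k b => by
    obtain ⟨j, n, s⟩ := MM_zk m k b
    exact ⟨TG.e XE (zcd j), by rw [(zcd_e k b).1, (zcd_e j n).1, s, mul_inv_cancel_right],
      by rw [(zcd_e k b).2.2, (zcd_e j n).2.2, e.yk w b, e.yk w n, w.cjy s]⟩).ge (mem_top f)
  rw [q, mul_inv_cancel_right] at p
  rw [r, eL_inj p]

/-- the lemma "can" -/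
theorem can (b : ∀ f, g * ι (eL f) = ι (eL f) * g) {f : TG XE} (k : g * t * g⁻¹ = t * ι (eL f)) :
    ∃ a, ∃ o ∈ Oo t, g = υ a * o ∨ g = υ a * t * o := by
  have m : υ (hiE f) * g ∈ 𝐂₁ t := mem_cent1.2 (mul_inv_eq_iff_eq_mul.1 (by
    rw [tmul (e.cE _ f) (e.Yt w f) k, ← map_mul, ← e.E, map_mul iEV, XV_el.1, map_one, mul_one]))
  obtain ⟨h, a⟩ := w.ac _ m
  have c : ∀ l ∈ lE, h * iL l = iL l * h := fun l n => by
    obtain ⟨f', rfl⟩ := EE_eL (lE_EE l n)
    exact w.toHy.cm a (Commute.mul_left (e.cE _ f') (b f'))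
  obtain ⟨l, n, rfl⟩ := cenE h (c _ (by simp [lE])) (c _ (by simp [lE])) (c _ (by simp [lE]))
  obtain ⟨f', rfl⟩ := EE_eL (lE_EE l n)
  obtain ⟨o, mo, q⟩ := w.dec m a
  refine ⟨hiE f * iEV f', o, mo, q.imp (fun q => ?_) fun q => ?_⟩ <;>
    rw [map_mul, e.E, ← one_mul g, ← e.sq (hiE f), mul_assoc, q] <;> group

theorem can2 (b : ∀ f, g * ι (eL f) = ι (eL f) * g) {f : TG XE} (k : g * t * g⁻¹ = t * ι (eL f)) (p : E2 g) :
    ∃ a, g = υ a ∨ g = υ a * t := by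
  obtain ⟨a, o, m, rfl | rfl⟩ := e.can w b k
  · rw [o_one m (e.cO w a o m) (e2_inv (e.sq a)) p]
    exact ⟨a, .inl (mul_one _)⟩
  · rw [o_one m (Commute.mul_left (e.cO w a o m) (w.to m)) (e2_iff.2 ⟨2, ?_⟩) p]
    · exact ⟨a, .inr (mul_one _)⟩
    obtain ⟨f, f', rfl⟩ := XV_el.2 a
    have : υ (iEV f * hiE f') * t * (υ (iEV f * hiE f') * t) = υ (iEV f') := by
      calc _ = υ (iEV f * hiE f') * (t * υ (iEV f) * t⁻¹) * (t * υ (hiE f') * t⁻¹) := by
            rw [mul_assoc _ (t * _ * _), conj_mul, ← map_mul, w.ti]; group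
        _ = _ := by
          rw [e.tY w, e.E f, ← w.tc, mul_inv_cancel_right, ← e.E, ← e.E, ← map_mul, ← map_mul, ← map_mul]
          exact congrArg υ ((by decide +kernel : ∀ f f', iEV f * hiE f' * iEV f * (iEV f' * hiE f') = iEV f') f f')
    rw [show 2 ^ 2 = 2 * 2 from rfl, pow_mul, pow_two (_ * t), this, pow_two, e.sq]

end Ev

end CF.Gu
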