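import Cfsg.Agent.Gu.WG0
import Cfsg.Agent.Gu.W2
import Cfsg.Agent.Gu.O

/-! The case `U = 2⁸`: the element that maps `t` to `t c`. -/

set_option autoImplicit false
set_option linter.unusedSectionVars false
set_option maxRecDepth 100000
set_option synthInstance.maxSize 4000

namespace CF.Gu
open Subgroup Cfsg CF.BG CF.Sig CF.GW CF.Ab2

universe u
variable {G : Type u} [Group G] [Finite G] {ι : LL →* G} {t y c g x : G} {h : HH} {l : LL} {X Y A T : Subgroup G}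

namespace WG

theorem zU : ∀ a : TG XU, (∀ n ∈ [4, 8, 16, 32], TG.e XU n * a = a * TG.e XU n) →
    a = 1 ∨ a = TG.e XU 1 ∨ a = TG.e XU 64 ∨ a = TG.e XU 64 * TG.e XU 1 := by decide +kernel
theorem cU : ∀ a : TG XU, a * TG.e XU 64 = TG.e XU 64 * a ∧ a * TG.e XU 1 = TG.e XU 1 * a := by decide +kernel
theorem kU : ∀ a : TG XU, Nat.land a.v 180 = 128 → ∃ p ∈ [0, 4, 16, 20], ∃ w ∈ [1, TG.e XU 1, TG.e XU 64, TG.e XU 64 * TG.e XU 1],
    TG.e XU p * (a * w) * (TG.e XU p)⁻¹ = TG.e XU 128 := by decide +kernel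
theorem bU : ∀ a : TG XU, a * a = 1 → (∃ f, a = eU f ∨ a = eU f * TG.e XU 64) ∨ Nat.land a.v 180 = 128 ∨
    TG.cnt (fun x => x * x = 1 ∧ Nat.land x.v 180 ≠ 128 ∧ x * a = a * x) < 32 := by decide +kernel

/-- the elementary abelian subgroups of order 32 of `⟨S, t, γ⟩` -/
theorem el {B : Subgroup (TG XU)} (q : ∀ b ∈ B, b * b = 1) (k : ♯B = 32) (m : TG.e XU 64 ∈ B) (n : TG.e XU 1 ∈ B) :
    (∀ b ∈ B, ∃ f, b = eU f ∨ b = eU f * TG.e XU 64) ∨ ∃ b ∈ B, ∃ p, p * b * p⁻¹ = TG.e XU 128 := by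
  refine or_iff_not_imp_right.2 fun e a r => ?_
  have s : ∀ a ∈ B, Nat.land a.v 180 ≠ 128 := fun a r s => by
    obtain ⟨p, -, w, u, v⟩ := kU a s
    refine e ⟨_, mul_mem r ?_, _, v⟩
    simp only [List.mem_cons, List.not_mem_nil, or_false] at u
    rcases u with rfl | rfl | rfl | rfl
    exacts [one_mem _, n, m, mul_mem m n]
  refine ((bU a (q a r)).resolve_right fun u => ?_)
  have u := u.resolve_left (s a r)
  rw [← TG.card_cnt, ← k] at u
  exact u.not_ge (Nat.card_le_card_of_injective (fun g => ⟨g.1, q _ g.2, s _ g.2, cm_of_sq q g.2 r⟩)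
    fun a b k => Subtype.ext (Subtype.mk.inj k))

end WG
open WG

theorem Wg.nE (w : Wg ι t y) (m : l ∈ EE) : ¬ IsConj t (ι l) := by
  obtain ⟨υ, e⟩ := w.ups
  obtain ⟨f, rfl⟩ := EE_eL m
  exact w.n64 (A := υ.range) (by rintro _ ⟨a, rfl⟩; exact e.sq a) (by rw [card_range e.inj, TG.card]; decide)
    (by rintro _ ⟨a, rfl⟩; exact e.cE a f)

theorem Wg.tE (w : Wg ι t y) (m : l ∈ EE) : ∃ u, u * t * u⁻¹ = ι l * t ∧ ∀ e ∈ EE, u * ι e = ι e * u := by
  obtain ⟨υ, e⟩ := w.ups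
  obtain ⟨f, rfl⟩ := EE_eL m
  exact ⟨_, (e.Yt w f).trans (w.tc _).symm, fun a p => (EE_eL p).elim fun f q => q ▸ e.cE _ f⟩

/-- a conjugate of `A` that contains `t` has its subgroup `E` inside `L` -/
theorem Wg.kA (w : Wg ι t y) (m : t ∈ BG.cj g (AA ι t)) (n : l ∈ EE) : g * ι l * g⁻¹ ∈ ι.range := by
  obtain ⟨a, p, q⟩ := mem_cj_iff.1 m
  obtain ⟨e, r, rfl | rfl⟩ := (O0.mem_AA w.toHy).1 p
  · exact (w.nE r (isConj_iff.2 ⟨g, q⟩).symm).elim
  obtain ⟨u, a, b⟩ := w.tE r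
  obtain ⟨h, d⟩ := w.ac (g * u) (mem_cent1.2 (mul_inv_eq_iff_eq_mul.1 (by rw [← a] at q; exact .trans (by group) q)))
  exact ⟨_, (d l).symm.trans (by rw [mul_assoc g, b l n]; group)⟩

theorem Wg.g2 (w : Wg ι t y) (k : Cg ι t y c) (f : IsConj t (t * c)) (ρ : TG XU →* G) (i : Function.Injective ρ)
    (r1 : ρ (TG.e XU 1) = ι zc) (r2 : ρ (TG.e XU 64) = t * c) (r3 : ρ (TG.e XU 128) = c) (n : ∀ f, ¬ IsConj t (ρ (eU f))) :
    ∃ g, g * t * g⁻¹ = t * c ∧ g * ι zc * g⁻¹ = ι zc ∧ (∀ f, ∃ f', g * ι (eL f) * g⁻¹ = ρ (eU f')) ∧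
      ∀ f', ∃ f, g * ι (eL f) * g⁻¹ = ρ (eU f') := by
  have H := w.toHy
  obtain ⟨φ, E, -, E', v, u⟩ := exU H k.ct k.ac k.cc
  obtain ⟨g, a, b⟩ : ∃ g, g * t * g⁻¹ = t * c ∧ ρ.range = BG.cj g φ.range := by
    obtain ⟨g, e⟩ := isConj_iff.1 f
    have s : Syl 2 (BG.cj g φ.range) (𝐂₁ (t * c)) := by
      rw [← e, ← cj_cent1]
      exact (syl_of_max v (p2_range φ) fun Q a p b => le_antisymm (fun x m => H.mx p b v (.inl u) m (a m)) b).cj g
    obtain ⟨d, m, q⟩ := s.syl_conj (s.of_card (K := ρ.range) (by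
      rintro _ ⟨a, rfl⟩
      rw [mem_cent1, ← r2, ← map_mul, (cU a).1, map_mul]) (by rw [card_cj, u, card_range i, TG.card]; rfl))
    refine ⟨d * g, ?_, by rw [q, cj_cj]⟩
    rw [show d * g * t * (d * g)⁻¹ = d * (g * t * g⁻¹) * d⁻¹ by group, e, mem_cent1.1 m, mul_inv_cancel_right]
  have z : g * ι zc * g⁻¹ = ι zc := by
    obtain ⟨p, q⟩ := b.ge (conj_mem_cj.2 (show ι zc ∈ φ.range from ⟨_, E.ez⟩))
    rcases zU p fun n _ => i (by
      obtain ⟨_, ⟨s, rfl⟩, e⟩ := mem_cj_iff.1 (b.le ⟨TG.e XU n, rfl⟩)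
      rw [map_mul, map_mul, q, ← e, conj_mul, conj_mul, ← E.ez, ← map_mul, (cU s).2, map_mul]) with rfl | rfl | rfl | rfl
    · exact ((H.zz.1.conj g).ne_one (q.symm.trans (map_one ρ))).elim
    · exact q.symm.trans r1
    · exact (H.nz (g⁻¹ * g) (by rw [show g⁻¹ * g * t * (g⁻¹ * g)⁻¹ = g⁻¹ * (g * t * g⁻¹) * g by group, a, ← r2, q]; group)).elim
    · refine (H.nz (g⁻¹ * y * g) ?_).elim
      rw [map_mul, r1, r2] at q
      calc _ = g⁻¹ * (y * (g * t * g⁻¹) * y⁻¹) * g := by group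
        _ = g⁻¹ * (y * t * y⁻¹ * (y * c * y⁻¹)) * g := by rw [a, conj_mul]
        _ = _ := by
          rw [w.yt, ← k.cy, mul_inv_cancel_right, mul_assoc t, ← k.ac.cm (l := zc) (by decide +kernel), ← mul_assoc t, q]; group
  have lA : BG.cj g (AA ι t) ≤ ρ.range := by
    rw [b, E'.aa]
    exact cj_mono g ((map_le_range _ _).trans (by rintro _ ⟨a, rfl⟩; exact ⟨_, rfl⟩))
  have zE : zc ∈ EE := lE_EE _ (by simp [lE])
  have key : ∀ f, ∃ f', g * ι (eL f) * g⁻¹ = ρ (eU f') := by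
    rcases el (B := (BG.cj g (AA ι t)).comap ρ) (fun b m => i (by
        obtain ⟨s, p, q⟩ := mem_cj_iff.1 m
        rw [map_mul, ← q, conj_mul, map_one]
        obtain ⟨e, r, rfl | rfl⟩ := (O0.mem_AA H).1 p
        · rw [← map_mul, (by decide +kernel : ∀ a ∈ lE, a * a = 1) e (EE_lE r)]; simp
        · rw [(show Commute t _ from (H.tc e).symm).mul_mul_mul_comm, ← map_mul,
            (by decide +kernel : ∀ a ∈ lE, a * a = 1) e (EE_lE r), H.it.sq]; simp))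
      (by rw [← card_map i, map_comap_eq_self lA, card_cj, E'.cA])
      (by rw [mem_comap, r2, ← a]; exact conj_mem_cj.2 O0.mt)
      (by rw [mem_comap, r1, ← z]; exact conj_mem_cj.2 (O0.mE zE)) with e | ⟨p, m, s, e⟩
    · intro f
      have m : g * (ι (eL f) * t) * g⁻¹ ∈ BG.cj g (AA ι t) := conj_mem_cj.2 (mul_mem (O0.mE (eL_EE f)) O0.mt)
      obtain ⟨p, q⟩ := lA m
      obtain ⟨f', rfl | rfl⟩ := e p (by rwa [mem_comap, q])
      · obtain ⟨u, r, -⟩ := w.tE (eL_EE f)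
        exact (n f' (isConj_iff.2 ⟨g * u, by rw [q, ← r]; group⟩)).elim
      · rw [map_mul, r2, ← conj_mul, a] at q
        exact ⟨f', (mul_right_cancel q).symm⟩
    · have a' : ρ s * g * t * (ρ s * g)⁻¹ = t * c := by
        rw [show ρ s * g * t * (ρ s * g)⁻¹ = ρ s * (g * t * g⁻¹) * (ρ s)⁻¹ by group, a, ← r2, ← map_mul, (cU s).1, map_mul,
          mul_inv_cancel_right]
      have m' : c ∈ BG.cj (ρ s * g) (AA ι t) := by
        rw [← cj_cj, ← r3, ← e, map_mul, map_mul, map_inv]; exact conj_mem_cj.2 m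
      have tm : t ∈ BG.cj (ρ s * g) (AA ι t) := by
        exact (mul_mem_cancel_right m').1 (by rw [← a']; exact conj_mem_cj.2 O0.mt)
      obtain ⟨d, p, q⟩ := mem_cj_iff.1 m'
      obtain ⟨e, r, rfl | rfl⟩ := (O0.mem_AA H).1 p <;> obtain ⟨l, o⟩ := w.kA tm r
      · exact (s0_out (by rw [← H.uq (h' := s0) (ac_iL l) ((o.trans q).symm ▸ k.ac)]; exact inn_iL _)).elim
      · rw [← conj_mul, ← o, a', ← mul_assoc, mul_eq_right] at q
        exact (H.tn l⁻¹ (by rw [map_inv]; exact inv_eq_of_mul_eq_one_right q)).elim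
  refine ⟨g, a, z, key, ?_⟩
  choose σ s using key
  have j : Function.Injective σ := fun a b e => eL_inj (H.inj (mul_left_cancel (mul_right_cancel
    ((s a).trans (by rw [e, s])))))
  exact fun f' => (Finite.injective_iff_surjective.1 j f').imp fun f e => by rw [s, e]

end CF.Gu
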