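import Cfsg.Agent.Gu.WN0
import Cfsg.Agent.Gu.WG

/-! The case `U = 2⁸`: the towers satisfy the hypotheses of the fusion lemmas. -/

set_option autoImplicit false
set_option maxRecDepth 100000

namespace CF.Gu
open Subgroup Cfsg CF.BG CF.Sig CF.GW CF.Ab2 WN

universe u
variable {G : Type u} [Group G] [Finite G] {ι : LL →* G} {t y c : G} {Y : Subgroup G} {Z Z' : TD} [Z.OK] [Z'.OK]

namespace WN

theorem XV_comm (a b : TG XV) : a * b = b * a :=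
  TG.ind (P := fun b => a * b = b * a) (by simp) (fun L m b q => by rw [← mul_assoc, q, mul_assoc, XV_cm L m a, mul_assoc]) b

theorem ninv (H : Hy ι t) {x : G} (k : x * x = 1 → ¬ IsConj t x) : ¬ IsConj t x := fun q => k (by
  obtain ⟨g, rfl⟩ := isConj_iff.1 q
  rw [conj_mul, H.it.sq, mul_one, mul_inv_cancel]) q

/-- no conjugate of `t` centralises 64 elements of `U` -/
theorem nU (H : Hy ι t) {φ : TG Z →* G} (i : Function.Injective φ) {j : TG XV →* TG Z} (hj : Function.Injective j) {b : TG Z}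
    (k : 64 ≤ TG.cnt fun u => j u * b = b * j u) (u : TG XV) : ¬ IsConj t (φ (j u * b)) := by
  refine H.n64 (A := ((𝐂₁ b).comap j).map (φ.comp j)) ?_ ?_ ?_
  · rintro _ ⟨a, -, rfl⟩
    rw [← map_mul, XV_sq, map_one]
  · rwa [card_map_of_injective (f := φ.comp j) (i.comp hj), TG.card_sub _ (fun u => j u * b = b * j u) fun a => by rw [mem_comap, mem_cent1]]
  · rintro _ ⟨a, m, rfl⟩
    rw [MonoidHom.comp_apply, ← map_mul, ← map_mul, ← mul_assoc, ← map_mul, XV_comm, map_mul j, mul_assoc, mem_cent1.1 m, mul_assoc]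

theorem nU1 (H : Hy ι t) {υ : TG XV →* G} (i : Function.Injective υ) (u : TG XV) : ¬ IsConj t (υ u) := by
  simpa using nU H i (j := MonoidHom.id _) (b := 1) Function.injective_id (by decide +kernel) u

theorem nm (φ : TG Z' →* G) (i : TG Z →* TG Z') (g : TG Z') (k : ∀ L ∈ Z.W, g * i (TG.e Z L.top) * g⁻¹ =
    i (TG.e Z (g * i (TG.e Z L.top) * g⁻¹).v)) : φ g ∈ 𝐍 (φ.comp i).range := mem_norm_of_cj_le (by
  rintro _ ⟨_, ⟨a, rfl⟩, rfl⟩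
  refine TG.ind (P := fun a => φ g * φ (i a) * (φ g)⁻¹ ∈ (φ.comp i).range) (by simp) (fun L m a q => ?_) a
  rw [map_mul, map_mul, ← conj_mul]
  exact mul_mem q ⟨_, by rw [MonoidHom.comp_apply, ← k L m, map_mul, map_mul, map_inv]⟩)

omit [Finite G] in
theorem iv {φ : TG Z' →* G} (hφ : Function.Injective φ) {i : TG Z →* TG Z'} {s : TG Z'} {l : List ℕ}
    (k : ∀ a, i a * s * (i a * s) = 1 → ∃ g ∈ l, i (TG.e Z g) * s * (i (TG.e Z g))⁻¹ = i a * s) :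
    ∀ x ∈ (φ.comp i).range, x * φ s * (x * φ s) = 1 → ∃ g ∈ (φ.comp i).range, g * φ s * g⁻¹ = x * φ s := by
  rintro _ ⟨a, rfl⟩ q
  obtain ⟨g, -, r⟩ := k a (hφ (by simpa using q))
  exact ⟨_, ⟨TG.e Z g, rfl⟩, by simpa using congrArg φ r⟩

omit [Finite G] in
theorem lo {φ : TG Z' →* G} (e : Ew ι t y φ) {i : TG Z →* TG Z'} (hi : Function.Injective i)
    (k : ∀ a ∈ [1, 2, 4, 8, 16, 32, 64, 128, 256, 512, 1024, 2048, 4096], i (TG.e Z a) = TG.e Z' a) : Ew ι t y (φ.comp i) := by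
  simp only [List.forall_mem_cons] at k
  obtain ⟨a, b, c, d, f, g, h, j, l, m, n, o, p, -⟩ := k
  exact ⟨⟨e.inj.comp hi, (congrArg φ a).trans e.e1, (congrArg φ b).trans e.e2, (congrArg φ c).trans e.e4,
    (congrArg φ d).trans e.e8, (congrArg φ f).trans e.e16, (congrArg φ g).trans e.e32, (congrArg φ h).trans e.e64,
    (congrArg φ j).trans e.e128⟩, (congrArg φ l).trans e.ea, (congrArg φ m).trans e.eb, (congrArg φ n).trans e.eA,
    (congrArg φ o).trans e.eB, (congrArg φ p).trans e.et⟩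

omit [Finite G] in
theorem le {φ : TG Z' →* G} (e : Ew ι t y φ) (s : Sm Y ι t) (m : y ∈ Y) {i : TG Z →* TG Z'}
    (tp : ∀ L ∈ Z.W, L.top ∈ [1, 2, 4, 8, 16, 32, 64, 128, 256, 512, 1024, 2048])
    (k : ∀ a ∈ [1, 2, 4, 8, 16, 32, 64, 128, 256, 512, 1024, 2048], i (TG.e Z a) = TG.e Z' a) : (φ.comp i).range ≤ Y := by
  have l : ∀ l, ι l ∈ Y := fun l => s.le ⟨l, rfl⟩
  have x : ∀ k, xk ι y k ∈ Y := fun k => mul_mem (mul_mem (l _) m) (inv_mem (l _))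
  rintro _ ⟨a, rfl⟩
  refine TG.ind (P := fun a => φ (i a) ∈ Y) (by simp) (fun L n a q => ?_) a
  rw [map_mul, map_mul, k _ (tp L n)]
  refine mul_mem q ((?_ : ∀ a ∈ [1, 2, 4, 8, 16, 32, 64, 128, 256, 512, 1024, 2048], φ (TG.e Z' a) ∈ Y) _ (tp L n))
  simp only [List.forall_mem_cons, e.e1, e.e2, e.e4, e.e8, e.e16, e.e32, e.e64, e.e128, e.ea, e.eb, e.eA, e.eB, wA, wB]
  exact ⟨l _, l _, l _, l _, m, mul_mem (x _) (x _), mul_mem (x _) (x _), mul_mem (x _) m, l _, l _,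
    s.nm.conj_mem _ (mul_mem (x _) (x _)) _, s.nm.conj_mem _ (mul_mem (x _) (x _)) _, by simp⟩

theorem tx {φ : TG Z' →* G} (e : Ew ι t y φ) (w : Wg ι t y) {i : TG Z →* TG Z'} (hi : Function.Injective i)
    {j : TG XV →* TG Z} (hj : Function.Injective j) {v : TG XE →* TG Z} {l gd : List ℕ} {T : ℕ}
    (k : ∀ a ∈ [1, 2, 4, 8, 16, 32, 64, 128, 256, 512, 1024, 2048], i (TG.e Z a) = TG.e Z' a)
    (kj : ∀ a ∈ [2, 4, 32, 64], j (TG.e XV a) = TG.e Z a)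
    (kv : ∀ p ∈ [(8, 2048), (4, 1024), (2, 512), (1, 256)], v (TG.e XE p.1) = TG.e Z p.2)
    (n : ∀ L ∈ Z.W, TG.e Z' 4096 * i (TG.e Z L.top) * (TG.e Z' 4096)⁻¹ =
      i (TG.e Z (TG.e Z' 4096 * i (TG.e Z L.top) * (TG.e Z' 4096)⁻¹).v))
    (q : ∀ a, i a * TG.e Z' 4096 * (i a * TG.e Z' 4096) = 1 → ∃ g ∈ l,
      i (TG.e Z g) * TG.e Z' 4096 * (i (TG.e Z g))⁻¹ = i a * TG.e Z' 4096)
    (nc : ∀ a : TG Z, a * a = 1 → (a.v / 256 ∈ gd ∧ a = j (TG.e XV a.v) * TG.e Z (a.v / 256 * 256)) ∨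
      a = j (TG.e XV (Cd.lk T a.v)) * v (TG.e XE (a.v / 256)) * (j (TG.e XV (Cd.lk T a.v)))⁻¹)
    (ct : ∀ k ∈ gd, 64 ≤ TG.cnt fun u => j u * TG.e Z (k * 256) = TG.e Z (k * 256) * j u) : Tx ι t (φ.comp i).range := by
  have H := w.toHy
  have I : Function.Injective (φ.comp i) := e.inj.comp hi
  simp only [List.forall_mem_cons] at k kj kv
  obtain ⟨a1, a2, a4, a8, -, a32, a64, -, b1, b2', b4, b8, -⟩ := k
  obtain ⟨j2, j4, j32, j64, -⟩ := kj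
  obtain ⟨v8, v4, v2, v1, -⟩ := kv
  have V : (φ.comp i).comp v = (MulAut.conj (ι wb)).toMonoidHom.comp (((φ.comp i).comp j).comp vu) := TG.hext fun L m => by
    have u := vu_e
    simp only [List.forall_mem_cons] at u
    obtain ⟨u8, u4, u2, u1, -⟩ := u
    obtain ⟨-, -, -, -, r1, r2⟩ := wb_rel
    have := XE_top L m
    simp only [List.mem_cons, List.not_mem_nil, or_false] at this
    rcases this with r | r | r | r <;> rw [r] <;>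
      simp only [MonoidHom.comp_apply, MulEquiv.coe_toMonoidHom, MulAut.conj_apply, v8, v4, v2, v1, u8, u4, u2, u1, j2, j4, j32,
        j64, a2, a4, a32, a64, b1, b2', b4, b8, e.e2, e.e4, e.e32, e.e64, e.ea, e.eb, e.eA, e.eB, wA, wB, ← r1, ← r2, map_mul ι,
        map_inv ι]
  refine ⟨p2_range _, e.et ▸ nm φ i _ n, fun s => ?_, e.et ▸ iv e.inj q, ?_⟩
  · refine TG.ind (P := fun s => ι (sL s) ∈ (φ.comp i).range) (by simp) (fun L m a q => ?_) s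
    rw [map_mul, map_mul]
    obtain ⟨p, m, r⟩ := XS_top L m
    refine mul_mem q (r ▸ ?_)
    simp only [List.mem_cons, List.not_mem_nil, or_false] at m
    rcases m with rfl | rfl | rfl | rfl | rfl | rfl
    exacts [⟨_, (congrArg φ a1).trans e.e1⟩, ⟨_, (congrArg φ a2).trans e.e2⟩, ⟨_, (congrArg φ a4).trans e.e4⟩,
      ⟨_, (congrArg φ b1).trans e.ea⟩, ⟨_, (congrArg φ b2').trans e.eb⟩, ⟨_, (congrArg φ a8).trans e.e8⟩]
  · rintro _ ⟨a, rfl⟩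
    refine ninv H fun s => ?_
    rcases nc a (I (by rw [map_mul, s, map_one])) with ⟨m, r⟩ | r
    · exact r ▸ nU H I hj (ct _ m) _
    · have V := DFunLike.congr_fun V (TG.e XE (a.v / 256))
      rw [r, map_mul, map_mul, map_inv]
      exact fun p => nU1 H (υ := (φ.comp i).comp j) (I.comp hj) _ (p.trans (isConj_iff.2 ⟨_, rfl⟩).symm |>.trans (isConj_iff.2 ⟨_, V.symm⟩).symm)

theorem nc4 {ψ : TG Z' →* G} (H : Hy ι t) (hψ : Function.Injective ψ) {i : TG Z →* TG Z'} {j : TG XV →* TG Z'}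
    (hj : Function.Injective j) {gd : List ℕ} (nc : ∀ a, i a * TG.e Z' 8192 * (i a * TG.e Z' 8192) = 1 → a.v / 256 ∈ gd ∧
      i a * TG.e Z' 8192 = j (TG.e XV a.v) * TG.e Z' (a.v / 256 * 256 + 8192))
    (ct : ∀ k ∈ gd, 64 ≤ TG.cnt fun u => j u * TG.e Z' (k * 256 + 8192) = TG.e Z' (k * 256 + 8192) * j u) :
    ∀ x ∈ (ψ.comp i).range, ¬ IsConj t (x * ψ (TG.e Z' 8192)) := by
  rintro _ ⟨a, rfl⟩
  refine ninv H fun s => ?_
  obtain ⟨m, r⟩ := nc a (hψ (by simpa using s))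
  rw [MonoidHom.comp_apply, ← map_mul, r]
  exact nU H hψ hj (ct _ m) _

end WN

theorem Ew.txL {φ : TG XL3 →* G} (e : Ew ι t y φ) (w : Wg ι t y) : Tx ι t (φ.comp iL23).range :=
  tx e w (TG.inc_inj _ _) (TG.inc_inj _ _) cdL.1 cdL.2.2.1 vzL_e nmL3 ivL3 ncL2 ctL2

theorem Ew.txW {φ : TG XW3 →* G} (e : Ew ι t y φ) (w : Wg ι t y) : Tx ι t (φ.comp iW23).range :=
  tx e w (TG.inc_inj _ _) (TG.inc_inj _ _) cdW.1 cdW.2.2.1 vzW_e nmW3 ivW3 ncW2 ctW2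

theorem Ew.leL {φ : TG XL3 →* G} (e : Ew ι t y φ) (s : Sm Y ι t) (m : y ∈ Y) : (φ.comp iL23).range ≤ Y := le e s m topL cdL.1

theorem Ew.leW {φ : TG XW3 →* G} (e : Ew ι t y φ) (s : Sm Y ι t) (m : y ∈ Y) : (φ.comp iW23).range ≤ Y := le e s m topW cdW.1

omit [Finite G] in
theorem Ew.loL {ψ : TG XL4 →* G} (e : Ew ι t y ψ) : Ew ι t y (ψ.comp iL34) := lo e (TG.inc_inj _ _) cdL.2.1

omit [Finite G] in
theorem Ew.loW {ψ : TG XW4 →* G} (e : Ew ι t y ψ) : Ew ι t y (ψ.comp iW34) := lo e (TG.inc_inj _ _) cdW.2.1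

theorem Ew.txL4 {ψ : TG XL4 →* G} (e : Ew ι t y ψ) (w : Wg ι t y) : Tx ι t (ψ.comp iL24).range := e.loL.txL w

theorem Ew.txW4 {ψ : TG XW4 →* G} (e : Ew ι t y ψ) (w : Wg ι t y) : Tx ι t (ψ.comp iW24).range := e.loW.txW w

theorem Ew.g2L {ψ : TG XL4 →* G} (e : Ew ι t y ψ) (w : Wg ι t y) (s : Sm Y ι t) (k : Cg ι t y c) (q : ψ (TG.e XL4 8192) = c) :
    ∃ g, g * t * g⁻¹ = t * c ∧ g * ι zc * g⁻¹ = ι zc ∧ (∀ f, ∃ f', g * ι (eL f) * g⁻¹ = ψ (jL (eU f'))) ∧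
      ∀ f', ∃ f, g * ι (eL f) * g⁻¹ = ψ (jL (eU f')) := by
  obtain ⟨-, -, -, a, b1, b2, b3, b4⟩ := cdL
  have r : ψ (TG.e XL4 12288) = t * c := by rw [a, map_mul, e.et, q]
  exact w.g2 k ((e.txL4 w).fus w.toHy s k (q ▸ nm ψ iL24 _ nmL4) (q ▸ nc4 w.toHy e.inj (TG.inc_inj _ _) ncL4 ctL4)
    (r ▸ iv e.inj ivL4)) (ψ.comp jL) (e.inj.comp jL_inj) ((congrArg ψ b1).trans e.e1) ((congrArg ψ b2).trans r)
    ((congrArg ψ b3).trans q) fun f => (congrArg ψ (b4 f)).symm ▸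
      nU1 w.toHy (υ := (ψ.comp iL24).comp iVL2) ((e.inj.comp (TG.inc_inj _ _)).comp (TG.inc_inj _ _)) _

theorem Ew.g2W {ψ : TG XW4 →* G} (e : Ew ι t y ψ) (w : Wg ι t y) (s : Sm Y ι t) (k : Cg ι t y c) (q : ψ (TG.e XW4 8192) = c) :
    ∃ g, g * t * g⁻¹ = t * c ∧ g * ι zc * g⁻¹ = ι zc ∧ (∀ f, ∃ f', g * ι (eL f) * g⁻¹ = ψ (jW (eU f'))) ∧
      ∀ f', ∃ f, g * ι (eL f) * g⁻¹ = ψ (jW (eU f')) := by
  obtain ⟨-, -, -, a, b1, b2, b3, b4⟩ := cdW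
  have r : ψ (TG.e XW4 12288) = t * c := by rw [a, map_mul, e.et, q]
  exact w.g2 k ((e.txW4 w).fus w.toHy s k (q ▸ nm ψ iW24 _ nmW4) (q ▸ nc4 w.toHy e.inj (TG.inc_inj _ _) ncW4 ctW4)
    (r ▸ iv e.inj ivW4)) (ψ.comp jW) (e.inj.comp jW_inj) ((congrArg ψ b1).trans e.e1) ((congrArg ψ b2).trans r)
    ((congrArg ψ b3).trans q) fun f => (congrArg ψ (b4 f)).symm ▸
      nU1 w.toHy (υ := (ψ.comp iW24).comp iVW2) ((e.inj.comp (TG.inc_inj _ _)).comp (TG.inc_inj _ _)) _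

end CF.Gu
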