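import Cfsg.Agent.Gu.WP1

/-! The case `U = 2⁸`, wreath type: the two commuting copies of the monomial group. -/

set_option autoImplicit false
set_option linter.unusedSectionVars false
set_option maxRecDepth 100000

namespace CF.Gu.WP
open Subgroup Cfsg CF.BG CF.Sig CF.GW CF.Ab2
open scoped commutatorElement

variable {G : Type*} [Group G]

/-- the data of the wreath case -/
structure Wr (ι : LL →* G) (t : G) (α β : TG XE →* G) (U : Subgroup G) (A B : G) : Prop extends Hy ι t where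
  hβ : ∀ f, β f = t * α f * t⁻¹
  ab : ∀ f f', α f * β f' = β f' * α f
  dj : ∀ f f', α f = β f' → f = 1 ∧ f' = 1
  mU : ∀ u, u ∈ U ↔ ∃ f f', u = α f * β f'
  mE : ∀ f, ι (eL f) ∈ U
  mα : ∀ m ∈ MM, ∀ f f', m * eL f * m⁻¹ = eL f' → ι m * α f * (ι m)⁻¹ = α f'
  cu : ∀ g ∈ 𝐂 U, ∃ u ∈ U, ∃ o ∈ 𝒪 (𝐂 U), g = u * o
  AA : A * A = 1
  Aβ : ∀ f, β f * A = A * β f
  tA : t * A * t⁻¹ = A * ι va
  aA : ι va * A = A * ι va
  bA : ι vb * A = A * ι vb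
  aB : ι va * B = B * ι va
  bB : ι vb * B = B * ι vb
  h1 : ι th * A * (ι th)⁻¹ = A * B
  h2 : ι th * B * (ι th)⁻¹ = A

/-- the conjugates of `A` -/
noncomputable def ga (ι : LL →* G) (A : G) (m : LL) : G := ι m * A * (ι m)⁻¹
noncomputable def H1 (ι : LL →* G) (A : G) : Subgroup G := closure {x | ∃ m ∈ MM, ga ι A m = x}
noncomputable def K1 (α β : TG XE →* G) (U : Subgroup G) : Subgroup G := 𝐍 α.range ⊓ 𝐂 β.range ⊓ 𝐂 (𝒪 (𝐂 U))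

theorem cm_mul (a b x : G) : ⁅a * b, x⁆ = a * ⁅b, x⁆ * a⁻¹ * ⁅a, x⁆ := by simp only [commutatorElement_def]; group
theorem cm_inv (a x : G) : ⁅a⁻¹, x⁆ = a⁻¹ * ⁅a, x⁆⁻¹ * a := by simp only [commutatorElement_def]; group

theorem cm_cj (g a x : G) : g * ⁅a, x⁆ * g⁻¹ = ⁅g * a * g⁻¹, g * x * g⁻¹⁆ := by simp only [commutatorElement_def]; group
theorem mkK {α β : TG XE →* G} {U : Subgroup G} {g : G} (a : g ∈ 𝐍 α.range) (b : g ∈ 𝐂 β.range) (c : g ∈ 𝐂 (𝒪 (𝐂 U))) :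
    g ∈ K1 α β U := ⟨⟨a, b⟩, c⟩

noncomputable def D1 (ι : LL →* G) (t : G) (α β : TG XE →* G) (U : Subgroup G) (A : G) : Subgroup G where
  carrier := {h | h ∈ K1 α β U ∧ ∀ k ∈ H1 ι A, ⁅h, t * k * t⁻¹⁆ ∈ α.range}
  one_mem' := ⟨one_mem _, fun _ _ => by simp⟩
  mul_mem' := fun a b => ⟨mul_mem a.1 b.1, fun k m => by
    rw [cm_mul]; exact mul_mem (conj_mem_of_norm a.1.1.1 (b.2 k m)) (a.2 k m)⟩
  inv_mem' := fun a => ⟨inv_mem a.1, fun k m => by rw [cm_inv]; exact conj_mem_of_norm' a.1.1.1 (inv_mem (a.2 k m))⟩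

variable [Finite G] {ι : LL →* G} {t A B g h k : G} {α β : TG XE →* G} {U : Subgroup G} {m m' : LL} {f f' : TG XE}

theorem gH (a : m ∈ MM) : ga ι A m ∈ H1 ι A := subset_closure ⟨m, a, rfl⟩
theorem ga_one : ga ι A 1 = A := by simp [ga]
theorem vM (a : m ∈ MM) : m * va * m⁻¹ ∈ MM := mul_mem (mul_mem a zc_MM.2.1) (inv_mem a)
theorem mH (a : m ∈ MM) (b : h ∈ H1 ι A) : ι m * h * (ι m)⁻¹ ∈ H1 ι A :=
  (closure_le ((H1 ι A).comap (MulAut.conj (ι m)).toMonoidHom)).2 (by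
    rintro _ ⟨n, c, rfl⟩
    exact subset_closure ⟨m * n, mul_mem a c, by simp [ga, mul_assoc]⟩) b

namespace Wr
variable (r : Wr ι t α β U A B)
include r

theorem tt (x : G) : t * (t * x * t⁻¹) * t⁻¹ = x := by
  calc _ = t * t * x * (t * t)⁻¹ := by group
    _ = _ := by simp [r.it.sq]
theorem tβ (f : TG XE) : t * β f * t⁻¹ = α f := by rw [r.hβ, r.tt]
theorem tm (l : LL) (x : G) : t * (ι l * x * (ι l)⁻¹) * t⁻¹ = ι l * (t * x * t⁻¹) * (ι l)⁻¹ := by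
  calc _ = t * ι l * x * (t * ι l)⁻¹ := by group
    _ = _ := by rw [← r.tc]; group
theorem αi (e : α f = α f') : f = f' := eq_of_mul_inv_eq_one (r.dj _ 1 (by simp [e])).1
theorem dj' (a : g ∈ α.range) (b : g ∈ β.range) : g = 1 := by
  obtain ⟨f, rfl⟩ := a
  obtain ⟨f', e⟩ := b
  rw [(r.dj _ _ e.symm).1, map_one]
theorem mβ (a : m ∈ MM) (e : m * eL f * m⁻¹ = eL f') : ι m * β f * (ι m)⁻¹ = β f' := by rw [r.hβ, ← r.tm, r.mα m a _ _ e, r.hβ]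
theorem n1 (a : m ∈ MM) : ι m ∈ 𝐍 α.range := mem_norm_of_cj_le (by
  rintro _ ⟨_, ⟨f, rfl⟩, rfl⟩
  exact (M_cj a f).imp fun f' e => (r.mα m a _ _ e).symm)
theorem n2 (a : m ∈ MM) : ι m ∈ 𝐍 β.range := mem_norm_of_cj_le (by
  rintro _ ⟨_, ⟨f, rfl⟩, rfl⟩
  exact (M_cj a f).imp fun f' e => (r.mβ a e).symm)
theorem l1 : α.range ≤ U := by rintro _ ⟨f, rfl⟩; exact (r.mU _).2 ⟨f, 1, by simp⟩
theorem l2 : β.range ≤ U := by rintro _ ⟨f, rfl⟩; exact (r.mU _).2 ⟨1, f, by simp⟩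
theorem sup : α.range ⊔ β.range = U := le_antisymm (sup_le r.l1 r.l2) fun u a => by
  obtain ⟨f, f', rfl⟩ := (r.mU u).1 a
  exact mul_mem (mem_sup_left ⟨f, rfl⟩) (mem_sup_right ⟨f', rfl⟩)
theorem nU (a : g ∈ 𝐍 α.range) (b : g ∈ 𝐍 β.range) : g ∈ 𝐍 U := r.sup ▸ norm_sup inf_le_left inf_le_right ⟨a, b⟩
theorem cU (a : g ∈ 𝐂 α.range) (b : g ∈ 𝐂 β.range) : g ∈ 𝐂 U := by rw [← r.sup, cent_sup]; exact ⟨a, b⟩
theorem j1 : cj t α.range = β.range := le_antisymm (by rintro _ ⟨_, ⟨f, rfl⟩, rfl⟩; exact ⟨f, r.hβ f⟩)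
  (by rintro _ ⟨f, rfl⟩; exact ⟨_, ⟨f, rfl⟩, (r.hβ f).symm⟩)
theorem j2 : cj t β.range = α.range := by rw [← r.j1, cj_cj, r.it.sq, cj_one]
theorem tU : t ∈ 𝐍 U := mem_norm_of_cj_le (by rw [← r.sup, cj_sup, r.j1, r.j2, sup_comm])
theorem sw1 (a : g ∈ 𝐂 β.range) : t * g * t⁻¹ ∈ 𝐂 α.range := by rwa [← r.j2, ← cj_cent, conj_mem_cj]
theorem sw2 (a : g ∈ 𝐍 α.range) : t * g * t⁻¹ ∈ 𝐍 β.range := by rwa [← r.j1, ← cj_norm, conj_mem_cj]
omit r in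
theorem nO (a : g ∈ 𝐍 U) : g ∈ 𝐍 (𝒪 (𝐂 U)) := norm_O _ _ (norm_le_norm_cent _ a)
theorem sq (a : g ∈ U) : g * g = 1 := by
  obtain ⟨f, f', rfl⟩ := (r.mU g).1 a
  rw [mul_assoc, ← mul_assoc (β f'), ← r.ab, mul_assoc, ← map_mul, ← mul_assoc, ← map_mul, XE_sq, XE_sq]; simp
theorem mU' (a : m ∈ MM) : ι m ∈ 𝐍 U := r.nU (r.n1 a) (r.n2 a)

theorem gt (m : LL) : t * ga ι A m * t⁻¹ = ga ι A m * ι (m * va * m⁻¹) := by
  rw [ga, r.tm, r.tA, map_mul, map_mul, map_inv, conj_mul]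
theorem gg (m : LL) : ga ι A m * ga ι A m = 1 := by rw [ga, conj_mul, r.AA]; simp
theorem gβ (a : m ∈ MM) : ga ι A m ∈ 𝐂 β.range :=
  conj_mem_of_norm (norm_le_norm_cent _ (r.n2 a)) (mem_cent.2 (by rintro _ ⟨f, rfl⟩; exact r.Aβ f))
theorem gR (a : m ∈ MM) (f : TG XE) :
    ga ι A m * α f * (ga ι A m)⁻¹ = ι (m * va * m⁻¹) * α f * (ι (m * va * m⁻¹))⁻¹ := by
  have := mem_cent.1 (r.sw1 (r.gβ a)) _ ⟨f, rfl⟩
  rw [r.gt] at this
  calc _ = ga ι A m * (α f * (ga ι A m * ι (m * va * m⁻¹))) * (ι (m * va * m⁻¹))⁻¹ * (ga ι A m * ga ι A m)⁻¹ := by group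
    _ = _ := by rw [this, ← mul_assoc, ← mul_assoc, r.gg]; simp
theorem gα (a : m ∈ MM) : ga ι A m ∈ 𝐍 α.range := mem_norm_of_cj_le (by
  rintro _ ⟨_, ⟨f, rfl⟩, rfl⟩
  exact (conj_mem_of_norm (r.n1 (vM a)) (⟨f, rfl⟩ : α f ∈ α.range)).imp fun _ e => e.trans (r.gR a f).symm)
theorem AU : A ∈ 𝐍 U := ga_one (ι := ι) (A := A) ▸ r.nU (r.gα (one_mem _)) (cent_le_norm _ (r.gβ (one_mem _)))

theorem oc (a : g ∈ 𝒪 (𝐂 U)) (b : g ∈ 𝐂₁ t) : g ∈ 𝐂 ι.range := by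
  obtain ⟨h, p⟩ := r.ac g b
  have c : ∀ l ∈ lE, h * iL l = iL l * h := fun l n => by
    obtain ⟨f, rfl⟩ := EE_eL (lE_EE l n)
    exact r.toHy.cm p (mem_cent.1 (O_le _ _ a) _ (r.mE f)).symm
  obtain ⟨l, n, rfl⟩ := cenE h (c _ (by simp [lE])) (c _ (by simp [lE])) (c _ (by simp [lE]))
  obtain ⟨f, rfl⟩ := EE_eL (lE_EE l n)
  have := p.mul p
  rw [← map_mul, ← map_mul, XE_sq, map_one, map_one] at this
  exact mem_of_sq_mem (eo_iff.2 ((O_pi _ _).elt a)) (ac1_iff.1 this)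

theorem vaO : ι va ∈ 𝐂 (𝒪 (𝐂 U)) := by
  have i : Iv (ι va) := .mk' (fun e => five.2.2.2.2.2.2.2.2 (r.inj (e.trans (map_one ι).symm)))
    (by rw [← map_mul, five.2.2.2.2.2.2.2.1, map_one])
  have e : t * ι va = A * t * A⁻¹ := by
    calc _ = A * (A * ι va) * t := by rw [← mul_assoc, r.AA, one_mul, r.tc]
      _ = _ := by rw [← r.tA, inv_eq_of_mul_eq_one_right r.AA]; group
  refine le_cent1_iff.1 ((FP.mk r.it i (r.tc _).symm (r.tn _).symm).le_of_cent (nO r.tU) (nO (r.mU' zc_MM.2.1)) (odd_O _)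
    (fun x a => cent_le_cent1 (⟨_, rfl⟩ : ι va ∈ ι.range) (r.oc a.1 a.2)) inf_le_right fun x a => mem_cent1.2 ?_)
  have := mem_cent.1 (r.oc (conj_mem_of_norm' (nO r.AU) a.1) (mem_cent1.2 (by
    calc _ = A⁻¹ * (x * (A * t * A⁻¹)) * A := by group
      _ = _ := by rw [← e, mem_cent1.1 a.2, e]; group))) _ ⟨va, rfl⟩
  calc _ = A * (A⁻¹ * x * A * ι va) * A⁻¹ := by rw [mul_assoc _ A, ← r.aA]; group
    _ = _ := by rw [← this, ← mul_assoc, ← r.aA]; group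

theorem MO (a : m ∈ MM) : ι m ∈ 𝐂 (𝒪 (𝐂 U)) := Mgen (K := (𝐂 (𝒪 (𝐂 U))).comap ι) (fun m a => by
  rw [mem_comap, map_mul, map_mul, map_inv]
  exact conj_mem_of_norm (norm_le_norm_cent _ (nO (r.mU' a))) r.vaO) a

theorem AO : A ∈ 𝐂 (𝒪 (𝐂 U)) := by
  have a := r.MO gM.2.1
  have b : B = A⁻¹ * ι th * A * (ι th)⁻¹ := by rw [mul_assoc, mul_assoc, ← mul_assoc (ι th), r.h1, inv_mul_cancel_left]
  exact r.h2 ▸ mul_mem (mul_mem a (b ▸ mul_mem (conj_mem_of_norm' (norm_le_norm_cent _ (nO r.AU)) a) (inv_mem a))) (inv_mem a)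

theorem HK : H1 ι A ≤ K1 α β U := (closure_le _).2 (by
  rintro _ ⟨m, a, rfl⟩
  exact mkK (r.gα a) (r.gβ a) (mul_mem (mul_mem (r.MO a) r.AO) (inv_mem (r.MO a))))
theorem KU (a : h ∈ K1 α β U) : h ∈ 𝐍 U := r.nU a.1.1 (cent_le_norm _ a.1.2)

theorem dih (a : h ∈ K1 α β U) (b : g ∈ 𝐂 U) (e : h * g * h⁻¹ = g⁻¹) : g ∈ U := by
  obtain ⟨u, p, o, q, rfl⟩ := r.cu g b
  have : o * o = (h * u * h⁻¹)⁻¹ * u⁻¹ := by
    rw [← conj_mul, ← mem_cent.1 a.2 o q, mul_inv_cancel_right, mem_cent.1 (O_le _ _ q) u p] at e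
    calc _ = (h * u * h⁻¹)⁻¹ * (h * u * h⁻¹ * o) * o := by group
      _ = _ := by rw [e]; group
  exact mul_mem p (mem_of_sq_mem (eo_iff.2 ((O_pi _ _).elt q)) (this ▸ mul_mem (inv_mem (conj_mem_of_norm (r.KU a) p)) (inv_mem p)))

theorem c2 (a : h ∈ H1 ι A) (b : k ∈ K1 α β U) : ⁅h, t * k * t⁻¹⁆ ∈ U := by
  induction a using closure_induction with
  | mem x p =>
    have q := r.HK (subset_closure p)
    obtain ⟨m, -, rfl⟩ := p
    refine r.dih q (r.cU ?_ ?_) ?_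
    · exact mul_mem (conj_mem_of_norm (norm_le_norm_cent _ q.1.1) (r.sw1 b.1.2)) (inv_mem (r.sw1 b.1.2))
    · rw [commutatorElement_def, mul_assoc, mul_assoc, ← mul_assoc (t * k * t⁻¹)]
      exact mul_mem q.1.2 (conj_mem_of_norm (norm_le_norm_cent _ (r.sw2 b.1.1)) (inv_mem q.1.2))
    · simp only [commutatorElement_def, mul_inv_rev, inv_inv, inv_eq_of_mul_eq_one_right (r.gg m), ← mul_assoc, r.gg, one_mul]
  | one => simp
  | mul x y p _ a b => rw [cm_mul]; exact mul_mem (conj_mem_of_norm (r.KU (r.HK p)) b) a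
  | inv x p a => rw [cm_inv]; exact conj_mem_of_norm' (r.KU (r.HK p)) (inv_mem a)

theorem sqD (a : h ∈ H1 ι A) : h * h ∈ D1 ι t α β U A := ⟨r.HK (mul_mem a a), fun k b => by
  obtain ⟨f, f', e⟩ := (r.mU _).1 (r.c2 a (r.HK b))
  rw [cm_mul, e, ← conj_mul, ← mem_cent.1 (r.HK a).1.2 _ ⟨f', rfl⟩, mul_inv_cancel_right,
    mul_assoc _ (β f'), ← mul_assoc (β f'), ← r.ab, mul_assoc _ (β f'), ← map_mul, XE_sq, map_one, mul_one]
  exact mul_mem (conj_mem_of_norm (r.HK a).1.1 ⟨f, rfl⟩) ⟨f, rfl⟩⟩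

theorem αD (f : TG XE) : α f ∈ D1 ι t α β U A :=
  ⟨mkK (le_norm_self _ ⟨f, rfl⟩) (mem_cent.2 (by rintro _ ⟨f', rfl⟩; exact (r.ab f f').symm)) (cent_symm (O_le _ _) (r.l1 ⟨f, rfl⟩)),
    fun k b => by rw [commutatorElement_eq_one_iff_mul_comm.2 (mem_cent.1 (r.sw1 (r.HK b).1.2) _ ⟨f, rfl⟩)]; exact one_mem _⟩

theorem mD (a : m ∈ MM) (b : h ∈ D1 ι t α β U A) : ι m * h * (ι m)⁻¹ ∈ D1 ι t α β U A :=
  ⟨mkK (mul_mem (mul_mem (r.n1 a) b.1.1.1) (inv_mem (r.n1 a))) (conj_mem_of_norm (norm_le_norm_cent _ (r.n2 a)) b.1.1.2)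
    (mul_mem (mul_mem (r.MO a) b.1.2) (inv_mem (r.MO a))), fun k c => by
    have := conj_mem_of_norm (r.n1 a) (b.2 _ (mH (inv_mem a) c))
    rw [r.tm, cm_cj, map_inv] at this
    convert this using 2
    group⟩

theorem cM (a : ∀ m ∈ MM, ga ι A m * α f = α f * ga ι A m) : f = 1 := by
  have := mem_cent1.1 (Mgen (K := (𝐂₁ (α f)).comap ι) (fun m b => mem_cent1.2 (mul_inv_eq_iff_eq_mul.1 (by
    rw [← r.gR b, a m b, mul_inv_cancel_right]))) gM.2.2)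
  obtain ⟨f', e⟩ := M_cj gM.2.2 f
  obtain rfl := r.αi ((r.mα _ gM.2.2 _ _ e).symm.trans (mul_inv_eq_iff_eq_mul.2 this))
  exact cE_p _ e

theorem cM' (a : ∀ m ∈ MM, β f * (t * ga ι A m * t⁻¹) = t * ga ι A m * t⁻¹ * β f) : f = 1 := r.cM fun m b => by
  have := a m b
  rw [r.hβ, conj_mul, conj_mul, mul_left_inj, mul_right_inj] at this
  exact this.symm

theorem βD (a : β f ∈ D1 ι t α β U A) : f = 1 := r.cM' fun m b => commutatorElement_eq_one_iff_mul_comm.1 (r.dj' (a.2 _ (gH b)) (by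
  rw [commutatorElement_def, mul_assoc, mul_assoc, ← mul_assoc (t * _ * t⁻¹)]
  exact mul_mem ⟨f, rfl⟩ (conj_mem_of_norm (r.sw2 (r.gα b)) (inv_mem ⟨f, rfl⟩))))

theorem pw (a : m ∈ MM) (b : m' ∈ MM) (e : (m * va * m⁻¹ * (m' * va * m'⁻¹)) ^ 5 = 1) :
    ∃ d ∈ D1 ι t α β U A, ∃ f, ga ι A m * ga ι A m' = d * β f := by
  have x := mul_mem (gH (ι := ι) (A := A) a) (gH b)
  have v := mul_mem (vM a) (vM b)
  have R : ∀ n : ℕ, ∀ f, (ga ι A m * ga ι A m') ^ n * α f * ((ga ι A m * ga ι A m') ^ n)⁻¹ =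
      ι ((m * va * m⁻¹ * (m' * va * m'⁻¹)) ^ n) * α f * (ι ((m * va * m⁻¹ * (m' * va * m'⁻¹)) ^ n))⁻¹ := fun n => by
    induction n with
    | zero => simp
    | succ n ih =>
      intro f
      obtain ⟨f1, e1⟩ := conj_mem_of_norm (r.n1 (vM b)) (⟨f, rfl⟩ : α f ∈ α.range)
      obtain ⟨f2, e2⟩ := conj_mem_of_norm (r.n1 (vM a)) (⟨f1, rfl⟩ : α f1 ∈ α.range)
      calc _ = (ga ι A m * ga ι A m') ^ n * (ga ι A m * (ga ι A m' * α f * (ga ι A m')⁻¹) * (ga ι A m)⁻¹) *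
            ((ga ι A m * ga ι A m') ^ n)⁻¹ := by rw [pow_succ]; group
        _ = _ := by rw [r.gR b, ← e1, r.gR a, ← e2, ih, e2, e1, pow_succ, map_mul ι (_ ^ n), map_mul ι (m * va * m⁻¹)]; group
  obtain ⟨f, f', q⟩ := (r.mU _).1 (r.dih (r.HK (gH a)) (r.cU (mem_cent.2 (by
    rintro _ ⟨f, rfl⟩
    have := R 5 f
    rw [e, map_one, one_mul, inv_one, mul_one] at this
    exact (mul_inv_eq_iff_eq_mul.1 this).symm)) (r.HK (pow_mem x 5)).1.2) (by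
    rw [← conj_pow, ← inv_pow, mul_inv_rev, inv_eq_of_mul_eq_one_right (r.gg m), inv_eq_of_mul_eq_one_right (r.gg m'),
      ← mul_assoc, r.gg, one_mul]))
  refine ⟨_, mul_mem (inv_mem (mul_mem (r.sqD x) (r.sqD x))) (r.αD f), f', ?_⟩
  rw [mul_assoc _ (α f), ← q, eq_inv_mul_iff_mul_eq]
  simp only [pow_succ, pow_zero, one_mul, mul_assoc]

theorem HD : H1 ι A ≤ D1 ι t α β U A := by
  have ti := inv_mem gM.2.1
  have gB : ga ι A th⁻¹ = B := by rw [ga, ← r.h2, map_inv]; group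
  obtain ⟨d1, p1, f1, e1⟩ := r.pw (one_mem _) (iM_MM m5) (by simpa using five.1)
  obtain ⟨d2, p2, f2, e2⟩ := r.pw (iM_MM m5) ti five.2.1
  have c : ∀ {d}, d ∈ D1 ι t α β U A → ∀ f, β f * d = d * β f := fun p f => mem_cent.1 p.1.1.2 _ ⟨f, rfl⟩
  have e : A * B = d1 * d2 * β (f1 * f2) := by
    calc _ = ga ι A 1 * ga ι A (iM m5) * (ga ι A (iM m5) * ga ι A th⁻¹) := by
          rw [ga_one, gB, mul_assoc, ← mul_assoc (ga _ _ _), r.gg, one_mul]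
      _ = _ := by rw [e1, e2, mul_assoc, ← mul_assoc (β f1), c p2, map_mul]; group
  have p := mul_mem p1 p2
  generalize d1 * d2 = d at e p
  generalize f1 * f2 = f at e
  have k : ∀ m ∈ MM, ι m * (A * B) = A * B * ι m → m * eL f * m⁻¹ = eL f := fun m a q => by
    obtain ⟨f', s⟩ := M_cj a f
    have u := mul_inv_eq_iff_eq_mul.2 q
    rw [e, ← conj_mul, r.mβ a s] at u
    have : β (f * f'⁻¹) = d⁻¹ * (ι m * d * (ι m)⁻¹) := by 
      rw [map_mul, map_inv, show ι m * d * (ι m)⁻¹ = d * β f * (β f')⁻¹ from eq_mul_inv_iff_mul_eq.2 u]; group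
    rw [s, show f = f' from eq_of_mul_inv_eq_one (r.βD (this ▸ mul_mem (inv_mem p) (r.mD a p)))]
  have s := r.mβ ti (mul_inv_eq_iff_eq_mul.2 (cE_v f (k _ zc_MM.2.1 (Commute.mul_right r.aA r.aB))
    (k _ zc_MM.2.2 (Commute.mul_right r.bA r.bB))))
  have gA : ι th⁻¹ * (A * B) * (ι th⁻¹)⁻¹ = A := by rw [← r.h1, map_inv]; group
  have a : A = ι th⁻¹ * d * (ι th⁻¹)⁻¹ * β f := by rw [← s, conj_mul, ← e, gA]
  have b : B = ι th⁻¹ * (ι th⁻¹ * d * (ι th⁻¹)⁻¹) * (ι th⁻¹)⁻¹ * β f := by rw [← s, conj_mul, ← a, ← gB, ga]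
  have q := r.mD ti p
  have : A * B ∈ D1 ι t α β U A := by
    rw [show A * B = _ from congrArg₂ _ a b, mul_assoc, ← mul_assoc (β f), c (r.mD ti q), mul_assoc _ (β f), ← map_mul, XE_sq,
      map_one, mul_one]
    exact mul_mem q (r.mD ti q)
  refine (closure_le _).2 ?_
  rintro _ ⟨m, u, rfl⟩
  exact r.mD u (gA ▸ r.mD ti this :)

theorem cm (a : h ∈ H1 ι A) (b : k ∈ H1 ι A) : h * (t * k * t⁻¹) = t * k * t⁻¹ * h :=
  commutatorElement_eq_one_iff_mul_comm.1 (r.dj' ((r.HD a).2 k b) (by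
    have := (conj_mem_cj (g := t)).2 (inv_mem ((r.HD b).2 h a))
    rwa [commutatorElement_inv, cm_cj, r.tt, r.j1] at this))

/-- the diagonal map -/
noncomputable def dg : H1 ι A →* G := MonoidHom.mk' (fun h => h.1 * (t * h.1 * t⁻¹)) fun a b => by
  rw [coe_mul, ← conj_mul, mul_assoc a.1 b.1, ← mul_assoc b.1, r.cm b.2 a.2]; simp only [mul_assoc]

theorem dg_ga (a : m ∈ MM) : r.dg ⟨_, gH a⟩ = ι (m * va * m⁻¹) := by
  change ga ι A m * (t * ga ι A m * t⁻¹) = _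
  rw [r.gt, ← mul_assoc, r.gg, one_mul]

theorem gen (K : Subgroup (H1 ι A)) (a : ∀ m (p : m ∈ MM), ⟨_, gH p⟩ ∈ K) : K = ⊤ := top_unique fun x _ =>
  (mem_map_iff_mem (H1 ι A).subtype_injective).1 ((closure_le (K.map (H1 ι A).subtype)).2 (by
    rintro _ ⟨m, p, rfl⟩; exact ⟨_, a m p, rfl⟩) x.2)

theorem dg_range : r.dg.range = MM.map ι := le_antisymm (by
    rintro _ ⟨x, rfl⟩
    exact (r.gen ((MM.map ι).comap r.dg) fun m p => ⟨_, vM p, (r.dg_ga p).symm⟩).ge (mem_top x))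
  (map_le_iff_le_comap.2 (Mgen fun m p => ⟨_, r.dg_ga p⟩))

theorem dg_inj : Function.Injective r.dg := (injective_iff_map_eq_one _).2 fun z e => by
  have k : ∀ z, r.dg z = 1 → z.1 = t * z.1⁻¹ * t⁻¹ := fun z e => by rw [← conj_inv]; exact eq_inv_of_mul_eq_one_left e
  have c : ∀ z, r.dg z = 1 → ∀ g, g * z = z * g := fun z e g => Subtype.ext (by
    rw [coe_mul, coe_mul, k z e]; exact r.cm g.2 (inv_mem z.2))
  have T : ∀ l ∈ MM, ∀ p n : ℕ, p.Prime → l ^ p = 1 → l ≠ 1 → p * n = 960 → z ^ (n * 2) = 1 := fun l a p n q s u v => by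
    have := Fact.mk q
    have i := card_mul_relIndex (show zpowers (ι l) ≤ r.dg.range from zpowers_le.2 (r.dg_range ▸ mem_map_of_mem ι a))
    rw [Nat.card_zpowers, orderOf_injective ι r.inj, orderOf_eq_prime s u, ← index_comap, r.dg_range, card_map r.inj, card_MM,
      ← v] at i
    exact Nat.eq_of_mul_eq_mul_left q.pos i ▸ tr_ker r.dg c (fun K a => r.gen K fun m p => a _ (Subtype.ext (r.gg m))) (ι l) e
  have d : orderOf z ∣ 2 ^ 7 := Nat.dvd_gcd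
    (orderOf_dvd_of_pow_eq_one (T th gM.2.1 3 320 (by decide) relL.2.2.2.2.1 five.2.2.2.2.2.1 rfl))
    (orderOf_dvd_of_pow_eq_one (T p5 gM.2.2 5 192 (by decide) relL.2.2.2.2.2.2.1 five.2.2.2.2.2.2.1 rfl))
  obtain ⟨u, p, o, q, s⟩ := r.cu z (r.cU (k z e ▸ r.sw1 (inv_mem (r.HK z.2).1.2)) (r.HK z.2).1.2)
  obtain ⟨f, f', rfl⟩ := (r.mU u).1 p
  have x : ∀ g ∈ 𝐂 (𝒪 (𝐂 U)), g * z = z * g → g * (α f * β f') = α f * β f' * g := fun g a b => by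
    rwa [s, mul_assoc _ o, mem_cent.1 a o q, ← mul_assoc g, ← mul_assoc _ g, mul_left_inj] at b
  obtain rfl : f = 1 := r.cM fun m a => by
    have := x _ (r.HK (gH a)).2 (congrArg Subtype.val (c z e ⟨_, gH a⟩))
    rwa [mul_assoc, mem_cent.1 (r.gβ a) _ ⟨f', rfl⟩, ← mul_assoc, ← mul_assoc, mul_left_inj] at this
  obtain rfl : f' = 1 := r.cM' fun m a => by
    simpa using (x _ (conj_mem_of_norm (norm_le_norm_cent _ (nO r.tU)) (r.HK (gH a)).2) (r.cm z.2 (gH a)).symm).symm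
  rw [map_one, map_one, one_mul, one_mul] at s
  exact Subtype.ext ((e2_iff.2 ⟨7, congrArg Subtype.val (orderOf_dvd_iff_pow_eq_one.1 d)⟩ : E2 z.1).eq_one (s ▸ (O_pi _ _).elt q))

theorem th : ∃ θ : MM →* G, (∀ m, θ m ∈ H1 ι A) ∧ (∀ m : MM, ι m = θ m * (t * θ m * t⁻¹)) ∧
    ∀ h ∈ H1 ι A, ∀ m : MM, ι m = h * (t * h * t⁻¹) → θ m = h := by
  let ψ : MM →* H1 ι A := (MonoidHom.ofInjective r.dg_inj).symm.toMonoidHom.comp
    ((ι.comp MM.subtype).codRestrict _ fun m => r.dg_range ▸ mem_map_of_mem ι m.2)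
  have k : ∀ m : MM, r.dg (ψ m) = ι m := fun m => MonoidHom.apply_ofInjective_symm r.dg_inj _
  exact ⟨(H1 ι A).subtype.comp ψ, fun m => (ψ m).2, fun m => (k m).symm, fun h a m e =>
    congrArg Subtype.val (r.dg_inj ((k m).trans e) : ψ m = ⟨h, a⟩)⟩

end Wr
end CF.Gu.WP
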