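import Cfsg.Agent.Gu.W1
import Cfsg.Agent.Gu.F0

/-! The case `U = 2⁸`: Sylow subgroups and transfer. -/

set_option autoImplicit false
set_option linter.unusedSectionVars false
set_option maxRecDepth 100000
set_option synthInstance.maxSize 4000

namespace CF.Gu
open Subgroup Cfsg CF.BG CF.Sig CF.GW CF.Ab2
open scoped commutatorElement IsMulCommutative

universe u
variable {G : Type u} [Group G] [Finite G] {ι : LL →* G} {t y c g x : G} {h : HH} {l : LL} {X Y A T : Subgroup G}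

namespace WG

theorem cnt : ∀ a : TG XU, uH a ∈ [1, iL zc, iL bt, iL zc * iL bt] ∨ a * a ≠ 1 ∧ a * a ≠ TG.e XU 64 ∨
    (F0.LT.filter fun n => decide ((TG.e XU n * TG.e XU n = 1 ∨ TG.e XU n * TG.e XU n = TG.e XU 64) ∧
      (a * TG.e XU n * (TG.e XU n * a)⁻¹ = 1 ∨ a * TG.e XU n * (TG.e XU n * a)⁻¹ = TG.e XU 64))).length < 32 := by
  decide +kernel

theorem cm_of_sq {K : Type*} [Group K] {B : Subgroup K} (q : ∀ b ∈ B, b * b = 1) {a b : K} (m : a ∈ B) (n : b ∈ B) :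
    a * b = b * a := by
  have := q _ (mul_mem m n)
  rw [← inv_eq_iff_mul_eq_one, mul_inv_rev, inv_eq_of_mul_eq_one_left (q _ m), inv_eq_of_mul_eq_one_left (q _ n)] at this
  exact this.symm

/-- the model has 2-rank four -/
theorem rk {B : Subgroup HH} (q : ∀ b ∈ B, b * b = 1) : ♯B < 32 := by
  have : Finite HH := Nat.finite_of_card_ne_zero (by rw [card_HH]; decide)
  obtain ⟨g, -, k⟩ := (F0.syl (p2_range uH) (n := 405) (by rw [F0.card_uH, card_HH]) (by decide)).syl_cj_le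
    (le_top (a := B)) (piGrp_of_forall_elt fun b m => e2_iff.2 ⟨1, by rw [pow_one, pow_two, q b m]⟩)
  have q' : ∀ b ∈ BG.cj g B, b * b = 1 := by
    rintro _ ⟨b, m, rfl⟩
    change g * b * g⁻¹ * (g * b * g⁻¹) = 1
    rw [conj_mul, q b m]; simp
  rw [← card_cj g]
  by_cases e : ∀ b ∈ BG.cj g B, b ∈ [1, iL zc, iL bt, iL zc * iL bt]
  · exact (F0.le_len e).trans_lt (by decide)
  obtain ⟨b, e⟩ := not_forall.1 e
  obtain ⟨m, e⟩ := Classical.not_imp.1 e
  obtain ⟨a, rfl⟩ := k m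
  rcases cnt a with s | s | s
  · exact (e s).elim
  · exact ((uH_ker _ (by rw [map_mul, q' _ m])).elim s.1 s.2).elim
  refine (F0.le_len (l := List.map (fun n => uH (TG.e XU n)) _) fun x i => ?_).trans_lt (by rwa [List.length_map])
  obtain ⟨b, rfl⟩ := k i
  obtain ⟨j, l, v⟩ := F0.lt_ok b
  have v' : uH (TG.e XU j) = uH b := by rcases v with v | v <;> rw [v] <;> simp [F0.u64]
  refine List.mem_map.2 ⟨j, List.mem_filter.2 ⟨l, decide_eq_true ⟨uH_ker _ ?_, uH_ker _ ?_⟩⟩, v'⟩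
  · rw [map_mul, v', q' _ i]
  · rw [map_mul, map_inv, map_mul, map_mul, v', cm_of_sq q' m i, mul_inv_cancel]

theorem val {τ : TG XT →* G} (e : Em ι t τ) (a : TG XT) : τ a = ι (tL a) * if 64 ≤ a.v then t else 1 := by
  obtain ⟨s, q⟩ := (by decide +kernel : ∀ a : TG XT, ∃ s, tL a = sL s ∧ a = iST s * if 64 ≤ a.v then TG.e XT 64 else 1) a
  rw [q.1]
  nth_rw 1 [q.2]
  rw [map_mul, e.s]
  split_ifs
  exacts [by rw [e.et], by rw [map_one]]

theorem XU_cases : ∀ a : TG XU, a = iTU (TG.e XT a.v) ∨ a = iTU (TG.e XT a.v) * TG.e XU 128 := by decide +kernel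

/-- the group `⟨S, t, c⟩` -/
theorem exU (H : Hy ι t) (m : c * t = t * c) (a : Ac ι c s0) (q : c * c = 1) :
    ∃ φ : TG XU →* G, Em ι t φ ∧ φ (TG.e XU 128) = c ∧ Em ι t (φ.comp iTU) ∧ φ.range ≤ 𝐂₁ t ∧ ♯φ.range = 256 := by
  obtain ⟨τ, e⟩ := H.em
  obtain ⟨φ, b, r, d⟩ := ext2 iTU (TG.inc_inj _ _) (by rw [TG.card, TG.card]; rfl) (TG.e XU 128) (by decide +kernel) τ c
    ([(1, 1), (2, 2), (4, 6), (8, 8), (16, 24), (32, 34), (64, 64)].map fun p => (TG.e XT p.1, TG.e XT p.2))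
    (TG.top (by decide +kernel)) (by decide +kernel) (fun p n => by
      obtain ⟨k, r⟩ := (by decide +kernel : ∀ p ∈ [(1, 1), (2, 2), (4, 6), (8, 8), (16, 24), (32, 34), (64, 64)].map
        fun p => (TG.e XT p.1, TG.e XT p.2), s0 * iL (tL p.1) = iL (tL p.2) * s0 ∧ (64 ≤ p.1.v ↔ 64 ≤ p.2.v)) p n
      rw [val e, val e, ← a.ap k, if_congr r.symm rfl rfl]
      split_ifs
      · rw [← conj_mul, m, mul_inv_cancel_right]
      · simp) 1 (by decide +kernel) (by rw [map_one, q])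
  have k : ∀ c, TG.e XU c = iTU (TG.e XT c) → φ (TG.e XU c) = τ (TG.e XT c) := fun c q => by rw [q, b]
  have i := d e.inj fun p q => s0_out (by rw [← H.uq (h' := s0) (e.ac H p).2 (q.symm ▸ a)]; exact inn_iL _)
  refine ⟨φ, ⟨i, (k _ (by decide +kernel)).trans e.ez,
    (k _ (by decide +kernel)).trans e.eb, (k _ (by decide +kernel)).trans e.e2, (k _ (by decide +kernel)).trans e.ea,
    (k _ (by decide +kernel)).trans e.ev, (k _ (by decide +kernel)).trans e.er, (k _ (by decide +kernel)).trans e.et⟩, r,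
    (MonoidHom.ext b : φ.comp iTU = τ).symm ▸ e, ?_, by rw [card_range i, TG.card]; rfl⟩
  rintro _ ⟨p, rfl⟩
  rcases XU_cases p with s | s <;> rw [s]
  · exact b _ ▸ (e.ac H _).1
  · rw [map_mul, b, r]; exact mul_mem (e.ac H _).1 (mem_cent1.2 m)

theorem le_T {τ : TG XT →* G} (e : Em ι t τ) (s : ∀ s, ι (sL s) ∈ T) (m : t ∈ T) : τ.range ≤ T := by
  rintro _ ⟨a, rfl⟩
  obtain ⟨b, rfl | rfl⟩ := XT_cases a
  exacts [e.s b ▸ s b, by rw [map_mul, e.s, e.et]; exact mul_mem (s b) m]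

theorem le_U {φ : TG XU →* G} (e : Em ι t (φ.comp iTU)) (r : φ (TG.e XU 128) = c) (s : ∀ s, ι (sL s) ∈ T) (m : t ∈ T)
    (n : c ∈ T) : φ.range ≤ T := by
  rintro _ ⟨p, rfl⟩
  have := le_T e s m ⟨TG.e XT p.v, rfl⟩
  rcases XU_cases p with q | q <;> rw [q]
  exacts [this, by rw [map_mul, r]; exact mul_mem this n]

/-- a 2-group that controls the fusion of `t` and contains a Sylow subgroup of `C(t)` -/
theorem sylT (H : Hy ι t) (p : P2 T) (m : t ∈ T) (l : A ≤ T) (c : A ≤ 𝐂₁ t) (k : ♯A = 256 ∨ ¬ Gam ι t ∧ ♯A = 128)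
    (f : ∀ x ∈ T, IsConj t x → ∃ s ∈ T, s * t * s⁻¹ = x) : Syl 2 T ⊤ := by
  rcases two_step p with i | ⟨w, n, a, b⟩
  · exact syl_mk p2 le_top p (by rwa [relIndex_top_right])
  obtain ⟨s, u, e⟩ := f _ (conj_mem_of_norm n m) (isConj_iff.2 ⟨w, rfl⟩)
  refine (a ((mul_mem_cancel_left (inv_mem u)).1 (l (H.mx (two_sup p n a b).1 (l.trans le_sup_left) c k
    (mul_mem (mem_sup_left (inv_mem u)) (mem_sup_right (mem_zpowers w))) (mem_cent1.2 (mul_inv_eq_iff_eq_mul.1 ?_)))))).elim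
  calc _ = s⁻¹ * (w * t * w⁻¹) * s := by group
    _ = t := by rw [← e]; group

theorem der {w : G} (n : w ∈ 𝐍 X) (c : ∀ a ∈ X ⊔ zpowers w, a ∈ X ∨ a * w⁻¹ ∈ X) : ⁅X ⊔ zpowers w, X ⊔ zpowers w⁆ ≤ X := by
  have l : X ⊔ zpowers w ≤ 𝐍 X := sup_le (le_norm_self X) (zpowers_le.2 n)
  refine commutator_le.2 fun a p b q => ?_
  rw [commutatorElement_def]
  rcases c b q with s | s
  · exact mul_mem (conj_mem_of_norm (l p) s) (inv_mem s)
  rcases c a p with r | r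
  · simpa only [mul_assoc] using mul_mem r (conj_mem_of_norm (l q) (inv_mem r))
  · convert mul_mem (mul_mem r (conj_mem_of_norm n (mul_mem s (inv_mem r)))) (inv_mem s) using 1
    group

theorem sq_cj (q : t * t = 1) (k : IsConj t x) : x * x = 1 := by
  obtain ⟨g, rfl⟩ := isConj_iff.1 k
  rw [conj_mul, q]; simp

end WG
open WG

theorem Hy.n64 (H : Hy ι t) (e : ∀ a ∈ A, a * a = 1) (k : 64 ≤ ♯A) (m : ∀ a ∈ A, a * x = x * a) : ¬ IsConj t x := fun d => by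
  obtain ⟨g, rfl⟩ := isConj_iff.1 d
  obtain ⟨ι, t, H, c⟩ : ∃ (ι : LL →* G) (t : G), Hy ι t ∧ A ≤ 𝐂₁ t := ⟨_, _, H.cj g, fun a p => mem_cent1.2 (m a p)⟩
  obtain ⟨κ, s⟩ := H.kap
  let f := κ.comp (inclusion c)
  have a : ♯f.ker ≤ 2 := by
    rw [← card_map A.subtype_injective, ← H.it.card]
    refine Nat.le_of_dvd Nat.card_pos (card_dvd ?_)
    rintro _ ⟨x, m, rfl⟩
    exact H.it.mem_zpowers.2 (H.r2 _ (c x.2) ((show f x = 1 from m) ▸ s (inclusion c x))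
      (e2_iff.2 ⟨1, by rw [pow_one, pow_two]; exact e _ x.2⟩))
  have b : ♯f.range < 32 := rk (by
    rintro _ ⟨x, rfl⟩
    rw [← map_mul, show x * x = 1 from Subtype.ext (e _ x.2), map_one])
  rw [card_eq_card_quotient_mul_card_subgroup f.ker, Nat.card_congr (QuotientGroup.quotientKerEquivRange f).toEquiv] at k
  have := Nat.mul_le_mul (Nat.le_of_lt_succ b) a
  omega

namespace Tx
variable (a : Tx ι t X) (H : Hy ι t)
include a H

theorem tX : t ∉ X := fun m => a.nc t m (IsConj.refl t)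
theorem sup : P2 (X ⊔ zpowers t) ∧ ♯(X ⊔ zpowers t) = 2 * ♯X ∧ ∀ b ∈ X ⊔ zpowers t, b ∈ X ∨ b * t⁻¹ ∈ X :=
  two_sup a.p2 a.nm (a.tX H) (H.it.sq ▸ one_mem X)
theorem cjX (m : x ∈ X ⊔ zpowers t) (k : IsConj t x) : ∃ s ∈ X, s * t * s⁻¹ = x := by
  simpa using a.iv _ (((a.sup H).2.2 x m).resolve_left fun m => a.nc x m k) (by simpa using sq_cj H.it.sq k)

theorem syl (k : ¬ Gam ι t ∨ ∃ c ∈ X, c * t = t * c ∧ Ac ι c s0) : Syl 2 (X ⊔ zpowers t) ⊤ ∧ t ∉ commutator G := by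
  obtain ⟨p, -, s⟩ := a.sup H
  have m : t ∈ X ⊔ zpowers t := mem_sup_right (mem_zpowers t)
  have f : ∀ x ∈ X ⊔ zpowers t, IsConj t x → ∃ s ∈ X ⊔ zpowers t, s * t * s⁻¹ = x := fun x m k =>
    (a.cjX H m k).imp fun _ q => ⟨mem_sup_left q.1, q.2⟩
  have S : Syl 2 (X ⊔ zpowers t) ⊤ := by
    rcases k with k | ⟨c, n, b, d⟩
    · obtain ⟨τ, e⟩ := H.em
      exact sylT H p m (le_T e (fun s => mem_sup_left (a.sl s)) m) (by rintro _ ⟨a, rfl⟩; exact (e.ac H a).1)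
        (.inr ⟨k, by rw [card_range e.inj, TG.card]; rfl⟩) f
    · have q := (H.r2 _ (mul_mem (mem_cent1.2 b) (mem_cent1.2 b)) (by simpa only [relL.2.2.2.2.2.2.2] using d.mul d)
        (a.p2.elt (mul_mem n n))).resolve_right fun q => a.tX H (q ▸ mul_mem n n)
      obtain ⟨φ, -, r, e, u, v⟩ := exU H b d q
      exact sylT H p m (le_U e r (fun s => mem_sup_left (a.sl s)) m (mem_sup_left n)) u (.inl v) f
  refine ⟨S, fun d => a.tX H (tr_sub (by simpa using S.not_dvd Nat.prime_two) (der a.nm s) H.it.sq H.it.piGrp.isPGroup (mem_zpowers t)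
    (zpowers_le.2 (self_mem_cent1 t)) le_rfl (le_norm_self _) (fun p n => ?_) m (fun g n => ?_) d)⟩
  · rw [mul_assoc p⁻¹, ← mem_cent1.1 (zpowers_le.2 (self_mem_cent1 t) n)]; simp [one_mem]
  · have b : g⁻¹ * t * g ∈ X ⊔ zpowers t := by simpa using n (mem_map_of_mem _ (mem_zpowers t))
    simpa [mul_assoc] using conj_mem_of_norm' a.nm ((s _ b).resolve_left fun m => a.nc _ m (isConj_iff.2 ⟨g⁻¹, by simp⟩))

theorem sylY (s : Sm Y ι t) (k : ¬ Gam ι t) (m : X ≤ Y) : Syl 2 X Y := by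
  obtain ⟨p, d⟩ := a.syl H (.inl k)
  have := p.inf_normal (N := Y) ⟨le_top, (normalizer_eq_top_iff.2 s.nm).ge⟩
  rwa [show (X ⊔ zpowers t) ⊓ Y = X from le_antisymm (fun b n => ((a.sup H).2.2 b n.1).resolve_right fun q =>
    (s.der.2 d).1 (inv_mem_iff.1 ((mul_mem_cancel_left n.2).1 (m q)))) (le_inf le_sup_left m)] at this

theorem fus (s : Sm Y ι t) (k : Cg ι t y c) (n : c ∈ 𝐍 X) (nc : ∀ x ∈ X, ¬ IsConj t (x * c))
    (iv : ∀ x ∈ X, x * (t * c) * (x * (t * c)) = 1 → ∃ g ∈ X, g * (t * c) * g⁻¹ = x * (t * c)) : IsConj t (t * c) := by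
  by_contra e
  obtain ⟨p, -, u⟩ := a.sup H
  have tm : t ∈ X ⊔ zpowers t := mem_sup_right (mem_zpowers t)
  have cn : c ∉ X ⊔ zpowers t := fun m => (u c m).elim (fun m => by
      obtain ⟨g, -, q⟩ := a.iv c m (by rw [k.ct, mul_assoc, ← mul_assoc c, k.ct, mul_assoc, k.cc, mul_one, H.it.sq])
      exact e (isConj_iff.2 ⟨g, q.trans k.ct⟩)) fun m => by
    obtain ⟨g, -, q⟩ := a.iv _ m (by simpa using k.cc)
    exact nc 1 (one_mem X) (isConj_iff.2 ⟨g, by simpa using q⟩)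
  have N : c ∈ 𝐍 (X ⊔ zpowers t) := zpowers_le.1 (norm_sup (zpowers_le.2 n)
    (norm_of_cent (by rw [cent_zpowers]; exact zpowers_le.2 (mem_cent1.2 k.ct))))
  obtain ⟨p', -, u'⟩ := two_sup p N cn (k.cc ▸ one_mem _)
  have hc := der N u'
  generalize hT : X ⊔ zpowers t ⊔ zpowers c = T at p' u' hc
  have l : X ⊔ zpowers t ≤ T := hT ▸ le_sup_left
  have cm : c ∈ T := hT ▸ mem_sup_right (mem_zpowers c)
  have f : ∀ x ∈ T, IsConj t x → ∃ s ∈ T, s * t * s⁻¹ = x := fun x m q => by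
    rcases u' x m with m | m
    · exact (a.cjX H m q).imp fun _ q => ⟨l (mem_sup_left q.1), q.2⟩
    rcases u _ m with m | m
    · exact (nc _ m (by simpa using q)).elim
    · obtain ⟨g, -, r⟩ := iv _ m (by simpa [mul_assoc] using sq_cj H.it.sq q)
      exact (e (q.trans (isConj_iff.2 ⟨g, by simpa [mul_assoc] using r⟩).symm)).elim
  obtain ⟨φ, -, r, E, v, w⟩ := exU H k.ct k.ac k.cc
  have lU := le_U E r (fun s => l (mem_sup_left (a.sl s))) (l tm) cm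
  have := CF.Transfer.normal_subgroupOf_of_commutator_le hc
  have : IsMulCommutative (T ⧸ (X ⊔ zpowers t).subgroupOf T) :=
    Normal.quotient_commutative_iff_commutator_le.2 fun x hx =>
      hc (map_subtype_commutator T ▸ mem_map_of_mem T.subtype hx)
  obtain ⟨v1, v2⟩ := tp (by simpa using (sylT H p' (l tm) lU v (.inl w) f).not_dvd Nat.prime_two)
    (QuotientGroup.mk' ((X ⊔ zpowers t).subgroupOf T)) (l tm) H.it.sq k.cc k.ct.symm (fun g m => by
      obtain ⟨s, i, q⟩ := f _ m (isConj_iff.2 ⟨g⁻¹, by simp⟩)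
      exact ⟨s⁻¹, inv_mem i, by simpa using q⟩) (b := QuotientGroup.mk' _ ⟨c, cm⟩) fun g b m => by
    have gt := mem_cent1.2 b
    obtain ⟨h, d⟩ := H.ac g gt
    obtain ⟨j, q⟩ := H.mx p' lU v (.inl w) m (mul_mem (mul_mem (inv_mem gt) (mem_cent1.2 k.ct)) gt)
    have o := le_T E (fun s => mem_sup_left (a.sl s)) tm ⟨TG.e XT j.v, rfl⟩
    rcases XU_cases j with z | z <;> rw [z] at q
    · have := H.uq (E.ac H (TG.e XT j.v)).2 ((show φ.comp iTU _ = _ from q).symm ▸ (d.inv.mul k.ac).mul d)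
      exact (s0_out ((inn_cj (a := h⁻¹)).1 (by rw [inv_inv, ← this]; exact inn_iL _))).elim
    · refine (QuotientGroup.eq (s := (X ⊔ zpowers t).subgroupOf T) (a := ⟨c, cm⟩) (b := ⟨_, m⟩)).2 ?_ |>.symm
      change c⁻¹ * (g⁻¹ * c * g) ∈ X ⊔ zpowers t
      rw [← q, map_mul, r, ← mul_assoc]
      exact conj_mem_of_norm' N o
  rw [show QuotientGroup.mk' ((X ⊔ zpowers t).subgroupOf T) ⟨t, l tm⟩ = 1 from (QuotientGroup.eq_one_iff _).2 tm] at v2
  exact cn ((QuotientGroup.eq_one_iff (N := (X ⊔ zpowers t).subgroupOf T) ⟨c, cm⟩).1 (v1.symm.trans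
    ((s.tp.ge.trans (sup_le (s.der.1.trans (Abelianization.commutator_subset_ker _)) (zpowers_le.2 v2))) (mem_top c))))

end Tx

end CF.Gu
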