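import Cfsg.Agent.Gu.WF1
import Cfsg.Agent.Gu.WG0

/-! The wreath case with outer automorphisms: fusion and transfer. -/

set_option autoImplicit false
set_option maxRecDepth 100000

namespace CF.Gu.WF
open Subgroup Cfsg CF.BG CF.Sig CF.GW CF.Ab2
open scoped commutatorElement

universe u
variable {G : Type u} [Group G] [Finite G] {ι : LL →* G} {t d x a : G} {θ : MM →* G} {B : TG XP × TG XP →* G} {S Y M P D : Subgroup G}

omit [Finite G] in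
theorem zp2 (q : x * x = 1) : IsPGroup 2 (zpowers x) := CF.Fus.isPGroup_zpowers (k := 1) (by rw [pow_one, pow_two, q])

theorem tr_in (lS : S ≤ Y) (hS : ¬ 2 ∣ S.relIndex Y) (hc : ⁅S, S⁆ ≤ M) (x2 : x * x = 1) (xS : x ∈ S)
    (h : ∀ g, g * x * g⁻¹ ∈ S → x⁻¹ * (g * x * g⁻¹) ∈ M) (hx : x ∈ ⁅Y, Y⁆) : x ∈ M := by
  have c : zpowers (⟨x, lS xS⟩ : Y) ≤ 𝐂₁ (⟨x, lS xS⟩ : Y) := zpowers_le.2 (self_mem_cent1 _)
  refine tr_sub (G := Y) (S := S.subgroupOf Y) (M := M.subgroupOf Y) (T := zpowers ⟨x, lS xS⟩) (P := zpowers ⟨x, lS xS⟩)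
    (x := ⟨x, lS xS⟩) (a := ⟨x, lS xS⟩) hS (commutator_le.2 fun _ m _ m' => hc (commutator_mem_commutator m m'))
    (Subtype.ext x2) (zp2 (Subtype.ext x2)) (mem_zpowers _) c le_rfl le_normalizer (fun p m => by
      rw [mul_assoc p⁻¹, ← mem_cent1.1 (c m)]; simp [one_mem]) xS (fun g l => ?_) ?_
  · have := h g⁻¹ (l ⟨_, mem_zpowers _, rfl⟩)
    rwa [inv_inv] at this
  · rw [← map_subtype_commutator] at hx
    obtain ⟨y, m, e⟩ := hx
    exact (Subtype.ext e : y = ⟨x, lS xS⟩) ▸ m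

theorem in4 {a b c d : TG XP} (h : (inn (pH a) ↔ inn (pH c)) ↔ (inn (pH b) ↔ inn (pH d))) : inn (pH (a * b * c⁻¹ * d⁻¹)) := by
  simp only [map_mul, map_inv, inn_mul, inn_inv]
  exact (by grind : ∀ a b c d : Prop, ((a ↔ c) ↔ (b ↔ d)) → (((a ↔ b) ↔ c) ↔ d)) _ _ _ _ h

namespace Wf
variable (W : Wf ι t B)
include W

theorem swc (a b : TG XP) : IsConj (B (a, b)) (B (b, a)) := isConj_iff.2 ⟨t, W.sw a b⟩

theorem sq1 {a b : TG XP} (q : B (a, b) * B (a, b) = 1) : a * a = 1 ∧ b * b = 1 :=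
  Prod.mk_eq_one.1 (W.bi (by rw [← Prod.mk_mul_mk, map_mul, q, map_one]))

theorem cj2 {a b : TG XP} (q : B (a, b) * B (a, b) = 1) : ∃ r ∈ RP, ∃ r' ∈ RP, (inn (pH b) ↔ inn (pH (e r'))) ∧
    IsConj (B (a, b)) (B (e r, e r')) := by
  obtain ⟨r, m, -, k⟩ := W.fu a (W.sq1 q).1
  obtain ⟨r', m', i, k'⟩ := W.fu b (W.sq1 q).2
  exact ⟨r, m, r', m', i, (((k b).trans (W.swc _ _)).trans (k' _)).trans (W.swc _ _)⟩

theorem nc (p : TG XP × TG XP) : ¬ IsConj t (B p) := fun k => by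
  obtain ⟨r, m, r', m', -, c⟩ := W.cj2 (a := p.1) (b := p.2) (WG.sq_cj W.it.sq k)
  obtain ⟨f, i, q⟩ := e8.2 r m
  obtain ⟨f', i', q'⟩ := e8.2 r' m'
  refine W.n64 (A := (B.comp (f.prodMap f')).range) ?_ ?_ ?_ (k.trans c)
  · rintro _ ⟨⟨a, b⟩, rfl⟩
    rw [← map_mul, Prod.mk_mul_mk, e8.1, e8.1]; exact map_one _
  · rw [card_range (φ := B.comp (f.prodMap f')) (W.bi.comp (i.prodMap i')), Nat.card_prod, TG.card]; rfl
  · rintro _ ⟨⟨a, b⟩, rfl⟩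
    change B (f a, f' b) * _ = _ * B (f a, f' b)
    rw [← map_mul, ← map_mul, Prod.mk_mul_mk, Prod.mk_mul_mk, q, q']

theorem tx : Tx ι t B.range := by
  refine ⟨?_, mem_norm_of_cj_le ?_, fun s => ⟨_, W.sl s⟩, ?_, by rintro _ ⟨p, rfl⟩; exact W.nc p⟩
  · rw [MonoidHom.range_eq_map]
    exact (piGrp_of_isPGroup p2 (pPP.to_subgroup ⊤)).map B
  · rintro _ ⟨_, ⟨⟨a, b⟩, rfl⟩, rfl⟩
    exact ⟨_, (W.sw a b).symm⟩
  · rintro _ ⟨⟨a, b⟩, rfl⟩ q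
    have : B (a * b, b * a) = 1 := by
      rw [← Prod.mk_mul_mk, map_mul, ← W.sw a b, inv_eq_of_mul_eq_one_right W.it.sq, ← q]; group
    obtain rfl := eq_inv_of_mul_eq_one_right (Prod.mk_eq_one.1 (W.bi (this.trans (map_one B).symm))).1
    refine ⟨_, ⟨(a, 1), rfl⟩, ?_⟩
    rw [show (a, a⁻¹) = (a, 1) * (1, a⁻¹) by simp, map_mul, ← W.sw a⁻¹ 1, ← map_inv]; simp [mul_assoc]

theorem ct : B (e 64, e 64) * t = t * B (e 64, e 64) := (mul_inv_eq_iff_eq_mul.1 (W.sw _ _)).symm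

theorem c2 : B (e 64, e 64) * B (e 64, e 64) = 1 := by rw [← map_mul, Prod.mk_mul_mk, pH_e.2.1]; exact map_one B

theorem syl : Syl 2 (B.range ⊔ zpowers t) ⊤ ∧ t ∉ commutator G :=
  W.tx.syl W.toHy (.inr ⟨_, ⟨_, rfl⟩, W.ct, pH_e.1 ▸ W.aa _⟩)

theorem cas (m : x ∈ B.range ⊔ zpowers t) : ∃ a b, x = B (a, b) ∨ x = B (a, b) * t := by
  rcases (W.tx.sup W.toHy).2.2 x m with ⟨p, q⟩ | ⟨p, q⟩
  exacts [⟨_, _, .inl q.symm⟩, ⟨p.1, p.2, .inr (by rw [q]; group)⟩]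

theorem inB (m : x ∈ B.range ⊔ zpowers t) (q : x * x = 1) (n : ¬ IsConj t x) : ∃ a b, x = B (a, b) := by
  obtain ⟨a, b, rfl | rfl⟩ := W.cas m
  exacts [⟨a, b, rfl⟩, (n ((W.tx.iv _ ⟨_, rfl⟩ q).elim fun g k => isConj_iff.2 ⟨g, k.2⟩)).elim]

theorem key (p : P2 D) (c : D ≤ 𝐂₁ x) (xD : x ∈ D) (k : IsConj (B (e 64, e 64)) x) : ∃ g a, a * a = 1 ∧ ¬ inn (pH a) ∧
    ∀ y ∈ D, y * y = 1 → ¬ IsConj t y → ∃ p q, p * a = a * p ∧ q * a = a * q ∧ g * y * g⁻¹ = B (p, q) := by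
  replace k := isConj_iff.1 k
  obtain ⟨k, rfl⟩ := k
  obtain ⟨R, r, l⟩ := exists_syl_le c p
  obtain ⟨n, m, z⟩ := r.syl_cj_le (K := zpowers (k * t * k⁻¹)) (zpowers_le.2 (mem_cent1.2 (by rw [conj_mul, conj_mul, W.ct])))
    (piGrp_of_isPGroup p2 (zp2 (W.it.conj k).sq))
  obtain ⟨g, -, v⟩ := W.syl.1.syl_cj_le le_top r.pi
  obtain ⟨s, sm, w⟩ := W.tx.cjX W.toHy (v ⟨_, z ⟨_, mem_zpowers _, rfl⟩, rfl⟩) (isConj_iff.2 ⟨g * n * k, by simp [mul_assoc]⟩)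
  change _ = g * (n * _ * n⁻¹) * g⁻¹ at w
  have b : ∀ y ∈ D, y * y = 1 → ¬ IsConj t y → ∃ p q, s⁻¹ * g * y * (s⁻¹ * g)⁻¹ = B (p, q) := fun y m q n =>
    W.inB (by
      have := mul_mem (mul_mem (inv_mem (mem_sup_left sm)) (v ⟨_, l m, rfl⟩)) (mem_sup_left sm)
      simpa [mul_assoc] using this) (by rw [conj_mul, q]; group) fun i => n (i.trans (isConj_iff.2 ⟨(s⁻¹ * g)⁻¹, by group⟩))
  obtain ⟨a, a', q⟩ := b _ xD (by rw [conj_mul, W.c2]; group) fun i => W.nc (e 64, e 64) (i.trans (isConj_iff.2 ⟨k⁻¹, by group⟩))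
  have u : s⁻¹ * g * n * k ∈ 𝐂₁ t := mem_cent1.2 (by
    rw [← mul_inv_eq_iff_eq_mul]
    calc _ = s⁻¹ * (g * (n * (k * t * k⁻¹) * n⁻¹) * g⁻¹) * s := by group
      _ = _ := by rw [← w]; group)
  have q' : s⁻¹ * g * n * k * B (e 64, e 64) * (s⁻¹ * g * n * k)⁻¹ = B (a, a') := by
    rw [← q]
    calc _ = s⁻¹ * g * (n * (k * B (e 64, e 64) * k⁻¹)) * n⁻¹ * (s⁻¹ * g)⁻¹ := by group
      _ = _ := by rw [mem_cent1.1 m]; group
  obtain rfl : a' = a := congrArg Prod.fst (W.bi ((W.sw a a').symm.trans (mul_inv_eq_iff_eq_mul.2 (mem_cent1.1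
    (q' ▸ mul_mem (mul_mem u (mem_cent1.2 W.ct)) (inv_mem u))).symm)))
  obtain ⟨h, j⟩ := W.ac _ u
  refine ⟨s⁻¹ * g, a', (W.sq1 (by rw [← q', conj_mul, W.c2]; group)).1, ?_, fun y m y2 n => ?_⟩
  · rw [W.uq (W.aa a') (q' ▸ (j.mul (W.aa _)).mul j.inv), inn_cj, pH_e.1]; exact s0_out
  · obtain ⟨p, p', f⟩ := b y m y2 n
    have : (p * a', p' * a') = (a' * p, a' * p') := W.bi (by
      rw [← Prod.mk_mul_mk, ← Prod.mk_mul_mk, map_mul, map_mul, ← f, ← q, conj_mul, conj_mul, mem_cent1.1 (c m)])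
    exact ⟨p, p', congrArg Prod.fst this, congrArg Prod.snd this, f⟩

theorem out {a b : TG XP} (k : IsConj (B (e 64, e 64)) (B (a, b))) : ¬ inn (pH b) := fun i => by
  obtain ⟨r, m, r', m', j, c⟩ := W.cj2 (WG.sq_cj W.c2 k)
  obtain ⟨f, p, q⟩ := wit2 r m
  obtain ⟨f', p', q'⟩ := wit3 r' (rp_inn r' m' (j.1 i))
  obtain ⟨g, a, a2, o, h⟩ := W.key (D := (𝐂₁ (e r, e r')).map B) (W.tx.p2.le (map_le_range _ _)) (by
    rintro _ ⟨y, m, rfl⟩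
    exact mem_cent1.2 (by rw [← map_mul, mem_cent1.1 m, map_mul])) ⟨_, self_mem_cent1 _, rfl⟩ (k.trans c)
  have h' : ∀ {y y'}, y * y = 1 ∧ y * e r = e r * y → y' * y' = 1 ∧ y' * e r' = e r' * y' → ∃ p q, (p * a = a * p ∧ p * p = 1) ∧
      (q * a = a * q ∧ q * q = 1) ∧ g * B (y, y') * g⁻¹ = B (p, q) := fun {y y'} u v => by
    have s : B (y, y') * B (y, y') = 1 := by rw [← map_mul, Prod.mk_mul_mk, u.1, v.1]; exact map_one B
    obtain ⟨p, q, w1, w2, w3⟩ := h _ ⟨_, mem_cent1.2 (Prod.ext u.2 v.2), rfl⟩ s (W.nc _)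
    have := W.sq1 (a := p) (b := q) (by rw [← w3, conj_mul, s]; group)
    exact ⟨p, q, ⟨w1, this.1⟩, ⟨w2, this.2⟩, w3⟩
  have : ∀ i : Fin 2 × Fin 3, ∃ v : Bool × Bool, g * B (e (f i.1).1 * e (f i.1).2 * (e (f i.1).1)⁻¹ * (e (f i.1).2)⁻¹,
      e (f' i.2).1 * e (f' i.2).2 * (e (f' i.2).1)⁻¹ * (e (f' i.2).2)⁻¹) * g⁻¹ =
      B (cond v.1 1 (e (if a.v < 72 then 3 else 2)), cond v.2 1 (e (if a.v < 72 then 3 else 2))) := fun i => by
    obtain ⟨x1, y1, u1, v1, w1⟩ := h' (p i.1).1 (p' i.2).1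
    obtain ⟨x2, y2, u2, v2, w2⟩ := h' (p i.1).2 (p' i.2).2
    have z : B (x1 * x2 * x1⁻¹ * x2⁻¹, y1 * y2 * y1⁻¹ * y2⁻¹) = _ := (map_commutatorElement B (x1, y1) (x2, y2)).trans (by
      rw [← w1, ← w2, ← conjugate_commutatorElement, ← map_commutatorElement])
    rcases out_cm a a2 o _ u1.1 u1.2 _ u2.1 u2.2 with s | s <;> rcases out_cm a a2 o _ v1.1 v1.2 _ v2.1 v2.2 with s' | s' <;>
      rw [s, s'] at z
    exacts [⟨(true, true), z.symm⟩, ⟨(true, false), z.symm⟩, ⟨(false, true), z.symm⟩, ⟨(false, false), z.symm⟩]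
  choose F hF using this
  have := Fintype.card_le_of_injective F fun i j z => by
    have := W.bi (mul_left_cancel (mul_right_cancel (((hF i).trans (by rw [z])).trans (hF j).symm)))
    exact Prod.ext (q _ _ (congrArg Prod.fst this)) (q' _ _ (congrArg Prod.snd this))
  simp at this

theorem fin (s : Sm Y ι t) : False := by
  have := s.nm
  obtain ⟨tY, -, i⟩ := s.der.2 W.syl.2
  replace i := i W.it.sq
  let K := iL.range.comap pH
  have mT : ∀ {a : TG XP × TG XP}, inn (pH a.1) → inn (pH a.2) → B a ∈ (K.prod K).map B := fun p q => ⟨_, ⟨inn_iff.1 p, inn_iff.1 q⟩, rfl⟩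
  have o : ¬ inn (pH (e 64)) := pH_e.1 ▸ s0_out
  have y1 : ∀ {a}, inn (pH a) → B (a, 1) ∈ Y := fun {a} p => by
    obtain ⟨s, rfl | rfl⟩ := XP_cases a
    exacts [W.sq Y i s, (o ((inn_mul.1 (map_mul pH _ _ ▸ p)).1 (pH_iSP s ▸ inn_iL _))).elim]
  have sp : ∀ a b, B (a, b) = B (a, 1) * (t * B (b, 1) * t⁻¹) := fun a b => by rw [W.sw, ← map_mul]; simp
  have y2 : ∀ {a b}, inn (pH a) → inn (pH b) → B (a, b) ∈ Y := fun p q => sp _ _ ▸ mul_mem (y1 p) (this.conj_mem _ (y1 q) t)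
  have cY : B (e 64, e 64) ∈ Y := by
    rw [sp, mul_mem_iff_of_index_two i]
    exact ⟨fun m => this.conj_mem _ m t, fun m => by simpa [mul_assoc] using this.conj_mem _ m t⁻¹⟩
  have y3 : ∀ {a b}, (inn (pH a) ↔ inn (pH b)) → B (a, b) ∈ Y := fun {a b} p => by
    by_cases q : inn (pH a)
    · exact y2 q (p.1 q)
    · have := mul_mem (y2 (a := a * (e 64)⁻¹) (b := b * (e 64)⁻¹) (by simp only [map_mul, map_inv, inn_mul, inn_inv, q, o])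
        (by simp only [map_mul, map_inv, inn_mul, inn_inv, ← p, q, o])) cY
      simpa [← map_mul] using this
  have m1 : ∀ {a b}, B (a, b) * t ∈ Y → ¬ (inn (pH a) ↔ inn (pH b)) := fun m p => tY ((mul_mem_cancel_left (y3 p)).1 m)
  have m2 : ∀ {a b a' b'}, B (a, b) * t ∈ Y → B (a', b') ∈ Y → (inn (pH a') ↔ inn (pH b')) := fun {a b a' b'} m m' => by
    have p := m1 m
    have q := m1 (a := a' * a) (b := b' * b) (by rw [← Prod.mk_mul_mk, map_mul, mul_assoc]; exact mul_mem m' m)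
    simp only [map_mul, inn_mul] at q
    exact (by grind : ∀ a b c d : Prop, ¬ (a ↔ b) → ¬ ((c ↔ a) ↔ (d ↔ b)) → (c ↔ d)) _ _ _ _ p q
  have c1 : ∀ {a b a' b'}, B (a, b) * t ∈ Y → B (a', b') ∈ Y → ⁅B (a, b) * t, B (a', b')⁆ ∈ (K.prod K).map B :=
    fun {a b a' b'} m m' => by
      have p := m2 m m'
      rw [show ⁅B (a, b) * t, B (a', b')⁆ = B ((a, b) * (b', a') * (a, b)⁻¹ * (a', b')⁻¹) by
        simp only [map_mul, map_inv, ← W.sw a' b', commutatorElement_def]; group]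
      exact mT (in4 (iff_of_true .rfl p.symm)) (in4 (iff_of_true .rfl p))
  obtain ⟨⟨a, b⟩, p, q⟩ := tr_in (S := (B.range ⊔ zpowers t) ⊓ Y) (M := (K.prod K).map B) inf_le_right
    ((W.syl.1.inf_normal ⟨le_top, le_normalizer_of_normal⟩).not_dvd p2) (commutator_le.2 fun u m v m' => by
      obtain ⟨a, b, rfl | rfl⟩ := W.cas m.1 <;> obtain ⟨a', b', rfl | rfl⟩ := W.cas m'.1
      · rw [← map_commutatorElement, commutatorElement_def]
        exact mT (in4 (iff_of_true .rfl .rfl)) (in4 (iff_of_true .rfl .rfl))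
      · rw [← commutatorElement_inv]; exact inv_mem (c1 m'.2 m.2)
      · exact c1 m.2 m'.2
      · have p := m1 m.2
        have q := m1 m'.2
        rw [show ⁅B (a, b) * t, B (a', b') * t⁆ = B ((a, b) * (b', a') * (b, a)⁻¹ * (a', b')⁻¹) by
          simp only [map_mul, map_inv, ← W.sw a' b', ← W.sw a b, commutatorElement_def]; group]
        exact mT (in4 (iff_of_false p (mt Iff.symm q))) (in4 (iff_of_false (mt Iff.symm p) q)))
    W.c2 ⟨mem_sup_left ⟨_, rfl⟩, cY⟩ (fun g m => by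
      have k : IsConj (B (e 64, e 64)) (g * B (e 64, e 64) * g⁻¹) := isConj_iff.2 ⟨g, rfl⟩
      obtain ⟨a, b, z⟩ := W.inB m.1 (WG.sq_cj W.c2 k) fun i => W.nc _ (i.trans k.symm)
      rw [z] at k ⊢
      rw [← map_inv, ← map_mul]
      exact mT (by simp only [Prod.fst_mul, Prod.fst_inv, map_mul, map_inv, inn_mul, inn_inv, o, W.out (k.trans (W.swc _ _))])
        (by simp only [Prod.snd_mul, Prod.snd_inv, map_mul, map_inv, inn_mul, inn_inv, o, W.out k])) (s.ns.perf.ge cY)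
  obtain rfl : a = e 64 := congrArg Prod.fst (W.bi q)
  exact o (inn_iff.2 p.1)

end Wf

theorem fin (H : Hy ι t) (s : Sm Y ι t) (cm : ∀ m m', θ m * (t * θ m' * t⁻¹) = t * θ m' * t⁻¹ * θ m)
    (pr : ∀ m : MM, ι m = θ m * (t * θ m * t⁻¹)) (h1 : d * d = 1) (h2 : d * (t * d * t⁻¹) = t * d * t⁻¹ * d)
    (h3 : ∀ m m' : MM, s0 * iL m = iL m' * s0 → d * θ m * d⁻¹ = θ m') (h4 : ∀ m, d * (t * θ m * t⁻¹) = t * θ m * t⁻¹ * d) :
    False :=
  (exB H cm pr h1 h2 h3 h4).elim fun _ W => W.fin s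

end CF.Gu.WF
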