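import Cfsg.Agent.Gu.WT2
import Cfsg.Agent.Gu.WF

/-! The wreath case with an outer automorphism does not occur. -/

set_option autoImplicit false
set_option maxRecDepth 100000

namespace CF.Gu
open Subgroup Cfsg CF.BG CF.Sig CF.GW CF.Ab2 TG WT

universe u
variable {G : Type u} [Group G] [Finite G] {ι : LL →* G} {t y c : G} {Y : Subgroup G}

theorem Th.gam {ψ : TG XW4 →* G} {θ : MM →* G} (a : Th ι t y (ψ.comp iVW4).range θ) (e : Ew ι t y ψ) (w : Wg ι t y) (s : Sm Y ι t)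
    (_m : y ∈ Y) (k : Cg ι t y c) (q : ψ (TG.e XW4 8192) = c) : False := by
  obtain ⟨Φ, P, v⟩ := ph a (e.toEv.lo iVW4 (TG.inc_inj _ _) iV_ok) w k (by rw [← q, ← e.eA, ← map_mul, d1.2.1, map_mul])
  obtain ⟨g, g1, g2, g3, g4⟩ := e.g2W w s k q
  obtain ⟨g, g1, g2, n⟩ := P.s2 g1 g2 (P.s1 g1 (fun f => by
    obtain ⟨f', r⟩ := g3 f
    obtain ⟨u, r'⟩ := d1.1 f'
    exact ⟨u, by rw [r, r']; rfl⟩) fun u => by
    obtain ⟨f', r⟩ := d1.2.2 u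
    obtain ⟨f, r'⟩ := g4 f'
    exact ⟨f, by simpa only [map_mul, map_inv, e.et, q, ← r', MonoidHom.comp_apply] using congrArg ψ r⟩)
  obtain ⟨h, r⟩ := P.s4 g1 g2 n
  obtain ⟨d, d1, d2, d3⟩ := P.s5 σσ r
  refine WF.fin w.toHy s a.cm a.pr d1 d2 (fun m m' p => ?_) fun m => mul_inv_eq_iff_eq_mul.1 ?_
  · rw [← v, d3, ← v, ← σ_eq.2 p]
  · rw [← v, P.sw, d3]
    exact congrArg Φ (Prod.ext (map_one σM) rfl)

end CF.Gu
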