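import Cfsg.Agent.Gu.D1
import Cfsg.Agent.Gu.W0
import Cfsg.Agent.Gu.E2

/-! The case `U = 2⁸`: definitions. -/

set_option autoImplicit false
set_option maxRecDepth 100000

namespace CF.Gu
open Subgroup Cfsg CF.BG CF.Sig CF.GW CF.Ab2

variable {G : Type*} [Group G]

/-- the involution `y` lifted to `G` -/
structure Wg (ι : LL →* G) (t y : G) : Prop extends Hy ι t where
  yy : y * y = 1
  yt : y * t * y⁻¹ = t * ι zc
  yc : ∀ l, l * zc = zc * l → y * ι l = ι l * y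
  cm : ∀ j k, xk ι y j * xk ι y k = xk ι y k * xk ι y j
  pr : xk ι y 0 * xk ι y 1 * xk ι y 2 * xk ι y 3 * y = 1
  cO : ∀ o ∈ Oo t, y * o = o * y

/-- an embedding of a tower over `U = E × Y(E)` -/
structure Ev (ι : LL →* G) (y : G) {X : TD} [X.OK] (φ : TG X →* G) : Prop where
  inj : Function.Injective φ
  e1 : φ (TG.e X 1) = ι zc
  e2 : φ (TG.e X 2) = ι bt
  e4 : φ (TG.e X 4) = ι b2
  e8 : φ (TG.e X 8) = ι rr
  e16 : φ (TG.e X 16) = y
  e32 : φ (TG.e X 32) = xk ι y 0 * xk ι y 1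
  e64 : φ (TG.e X 64) = xk ι y 0 * xk ι y 2
  e128 : φ (TG.e X 128) = xk ι y 0 * y

/-- the involutions `A` and `B` -/
noncomputable def wA (ι : LL →* G) (y : G) : G := ι wb * (xk ι y 0 * xk ι y 1) * (ι wb)⁻¹
noncomputable def wB (ι : LL →* G) (y : G) : G := ι wb * (xk ι y 0 * xk ι y 2) * (ι wb)⁻¹

/-- an embedding of a tower over `U ⟨va, vb, A, B, t⟩` -/
structure Ew (ι : LL →* G) (t y : G) {X : TD} [X.OK] (φ : TG X →* G) : Prop extends Ev ι y φ where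
  ea : φ (TG.e X 256) = ι va
  eb : φ (TG.e X 512) = ι vb
  eA : φ (TG.e X 1024) = wA ι y
  eB : φ (TG.e X 2048) = wB ι y
  et : φ (TG.e X 4096) = t

/-- the involution `c` that induces the outer automorphism -/
structure Cg (ι : LL →* G) (t y c : G) : Prop where
  cc : c * c = 1
  ct : c * t = t * c
  cy : c * y = y * c
  ac : Ac ι c s0

/-- a 2-subgroup `X` such that the conjugates of `t` in `X ⟨t⟩` are the involutions of `X t` -/
structure Tx (ι : LL →* G) (t : G) (X : Subgroup G) : Prop where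
  p2 : P2 X
  nm : t ∈ 𝐍 X
  sl : ∀ s, ι (sL s) ∈ X
  iv : ∀ x ∈ X, x * t * (x * t) = 1 → ∃ g ∈ X, g * t * g⁻¹ = x * t
  nc : ∀ x ∈ X, ¬ IsConj t x

theorem zc_MM : zc ∈ MM ∧ va ∈ MM ∧ vb ∈ MM := by
  have a : z0 ∈ MM := subset_closure (by simp)
  have b : th ∈ MM := subset_closure (by simp)
  have c : p5 ∈ MM := subset_closure (by simp)
  obtain ⟨p, q, r⟩ := (by decide +kernel : zc = p5⁻¹ * z0 * p5 ∧ va = th * p5 * th * p5⁻¹ ∧ vb = p5 * th * p5⁻¹ * th)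
  refine ⟨p ▸ ?_, q ▸ ?_, r ▸ ?_⟩ <;> repeat' first | assumption | apply mul_mem | apply inv_mem

/-- the wreath case: `ι m = θ m · (θ m)^t` on the monomial group; `U` is the range of `υ` -/
structure Th (ι : LL →* G) (t y : G) (U : Subgroup G) (θ : MM →* G) : Prop where
  cm : ∀ m m', θ m * (t * θ m' * t⁻¹) = t * θ m' * t⁻¹ * θ m
  pr : ∀ m : MM, ι m = θ m * (t * θ m * t⁻¹)
  ez : θ ⟨zc, zc_MM.1⟩ = y
  ea : θ ⟨va, zc_MM.2.1⟩ = wA ι y
  eb : θ ⟨vb, zc_MM.2.2⟩ = wB ι y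
  cu : ∀ g ∈ 𝐂 U, ∃ u ∈ U, ∃ o ∈ 𝒪 (𝐂 U), g = u * o
  co : ∀ m, ∀ o ∈ 𝒪 (𝐂 U), θ m * o = o * θ m

/-- `E` inside `⟨S, t, γ⟩` -/
noncomputable def eU : TG XE →* TG XU := TG.hom (List.map (TG.e XU) [32, 4, 2, 1]) (by decide +kernel)
/-- `f ↦ Y f` -/
noncomputable def hiE : TG XE →* TG XV := TG.hom (List.map (TG.e XV) [128, 64, 32, 16]) (by decide +kernel)
/-- the code of `z_k` -/
def zcd (k : ℕ) : ℕ := [9, 11, 13, 14, 1].getD k 0

end CF.Gu
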