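import Cfsg.Agent.Gu.W2

/-! The case `U = 2⁸`: the involutions `y` and `c` in `G`. -/

set_option autoImplicit false
set_option linter.unusedSectionVars false
set_option maxRecDepth 100000

namespace CF.Gu
open Subgroup Cfsg CF.BG CF.Sig CF.GW CF.Ab2

universe u
variable {G : Type u} {Γ : Type*} [Group G] [Finite G] [Group Γ] [Finite Γ] {ι : LL →* G} {ι' : LL →* Γ} {t y c g x o : G}
  {t' y' : Γ} {h : HH} {l : LL} {Y : Subgroup G}

namespace WA

theorem cz1 : ∀ l, l * zc = zc * l → ∃ a ∈ [1, th, th * th], ∃ b ∈ [1, om, om * om], ∃ d ∈ [1, rr],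
    (∀ e ∈ [bt, b2, va, vb], l * (a * b * d) * e = e * (l * (a * b * d)) ∨ l * (a * b * d) * e = e * zc * (l * (a * b * d))) ∧
      l * (a * b * d) * zc = zc * (l * (a * b * d)) := allZL (by decide +kernel)

theorem cz2 : ∀ x, x * zc = zc * x → (∀ e ∈ [bt, b2, va, vb], x * e = e * x ∨ x * e = e * zc * x) → ∃ q, qL q = x :=
  allZL (by decide +kernel)

theorem cz_gen {K : Subgroup LL} (k : ∀ l ∈ [zc, bt, b2, va, vb, th, om, rr], l ∈ K) (c : l * zc = zc * l) : l ∈ K := by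
  simp only [List.forall_mem_cons] at k
  obtain ⟨k1, k2, k3, k4, k5, k6, k7, k8, -⟩ := k
  have q : ∀ q, qL q ∈ K := fun q => (TG.top (M := K.comap qL) (l := [1, 2, 4, 8, 16].map (TG.e XQ)) (by decide +kernel) (by
    obtain ⟨-, -, -, -, -, -, -, a1, a2, a3, a4, a5⟩ := Q_z
    simp only [List.map_cons, List.map_nil, List.forall_mem_cons, mem_comap, a1, a2, a3, a4, a5]
    exact ⟨k1, k2, k3, k4, k5, by simp⟩)).ge (mem_top q)
  obtain ⟨a, m, b, n, d, r, p1, p2⟩ := cz1 l c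
  obtain ⟨s, e⟩ := cz2 _ p2 p1
  refine (mul_mem_cancel_right (mul_mem (mul_mem (?_ : a ∈ K) (?_ : b ∈ K)) (?_ : d ∈ K))).1 (e ▸ q s)
  · simp only [List.mem_cons, List.not_mem_nil, or_false] at m
    rcases m with rfl | rfl | rfl
    exacts [one_mem _, k6, mul_mem k6 k6]
  · simp only [List.mem_cons, List.not_mem_nil, or_false] at n
    rcases n with rfl | rfl | rfl
    exacts [one_mem _, k7, mul_mem k7 k7]
  · simp only [List.mem_cons, List.not_mem_nil, or_false] at r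
    rcases r with rfl | rfl
    exacts [one_mem _, k8]

/-- an odd power that is an involution -/
theorem odd_pow {K : Type*} [Group K] [Finite K] {a : K} (o : Eo (a * a)) : ∃ n, (a * (a * a) ^ n) * (a * (a * a) ^ n) = 1 := by
  obtain ⟨n, e⟩ := eo_iff.2 o
  refine ⟨n, ?_⟩
  have c : Commute a (a * a) := (Commute.refl a).mul_right (.refl a)
  rw [← pow_orderOf_eq_one (a * a), e, (c.pow_right n).symm.mul_mul_mul_comm, ← pow_add, ← pow_succ', two_mul]

theorem eq2 {f : 𝐍 (Oo t) →* Γ} (L : Lf ι t f ι' t') {a b : 𝐍 (Oo t)} (e : f a = f b) (c : ∀ o ∈ Oo t, b.1 * o = o * b.1)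
    (p : E2 a.1) (q : E2 b.1) : a.1 = b.1 := by
  have m : b.1⁻¹ * a.1 ∈ Oo t := (L.ker (b⁻¹ * a)).1 (by rw [map_mul, map_inv, e, inv_mul_cancel])
  exact (inv_mul_eq_one.1 (o_one m (c _ m) q (by rwa [mul_inv_cancel_left]))).symm

end WA
open WA

theorem Lf.wa {f : 𝐍 (Oo t) →* Γ} (L : Lf ι t f ι' t') (s : Sm Y ι t) (d : W8 ι' t' y') : ∃ y ∈ Y, Wg ι t y := by
  have H := L.hy
  obtain ⟨x, rfl⟩ := L.su y'
  have o : Eo (x * x) := L.od.elt (show f _ = 1 by rw [map_mul, d.yy])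
  obtain ⟨n, yy⟩ := odd_pow o
  have fy : f (x * (x * x) ^ n) = f x := by rw [map_mul, map_pow, map_mul, d.yy, one_pow, mul_one]
  generalize x * (x * x) ^ n = y at yy fy
  rw [← fy] at d
  clear fy o x n
  choose mι fι using L.fι
  obtain ⟨mt, ft⟩ := L.ft
  let κ : LL →* 𝐍 (Oo t) := ι.codRestrict _ mι
  have fκ : ∀ l, f (κ l) = ι' l := fι
  have fx : ∀ k, f (xk κ y k) = xk ι' (f y) k := fun k => by simp only [xk, map_mul, map_inv, fκ]
  have vx : ∀ k, (xk κ y k).1 = xk ι y k := fun _ => rfl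
  have y2 : y.1 * y.1 = 1 := congrArg Subtype.val yy
  have lo : ∀ l, ∀ o ∈ Oo t, Commute (ι l) o := fun l o m => H.lo m l
  have mo : xk ι y 0 * xk ι y 1 * xk ι y 2 * xk ι y 3 * y ∈ Oo t :=
    (L.ker (xk κ y 0 * xk κ y 1 * xk κ y 2 * xk κ y 3 * y)).1 (by simp only [map_mul, fx, d.pr])
  have cO : ∀ o ∈ Oo t, y.1 * o = o * y := fun o m => by
    have a : ∀ k, ∀ o ∈ Oo t, xk ι y k * o * (xk ι y k)⁻¹ = y * o * y.1⁻¹ := fun k o m => by
      calc _ = ι (p5 ^ (k + 1)) * (y * ((ι (p5 ^ (k + 1)))⁻¹ * o * ι (p5 ^ (k + 1))) * y.1⁻¹) * (ι (p5 ^ (k + 1)))⁻¹ := by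
            simp only [xk]; group
        _ = _ := by rw [mul_assoc _⁻¹, ← (lo _ o m).eq, inv_mul_cancel_left, (lo _ _ (conj_mem_of_norm y.2 m)).eq,
          mul_inv_cancel_right]
    generalize hp : xk ι y 0 * xk ι y 1 * xk ι y 2 * xk ι y 3 * y = p at mo
    have yi : y.1⁻¹ = y := inv_eq_of_mul_eq_one_right y2
    have r : ∀ o : G, y * (y * o * y.1⁻¹) * y.1⁻¹ = o := fun o => by rw [← mul_assoc, ← mul_assoc, y2, yi, mul_assoc, y2]; group
    have b : ∀ o ∈ Oo t, p * o * p⁻¹ = y * o * y.1⁻¹ := fun o m => by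
      have n := conj_mem_of_norm y.2 m
      calc _ = xk ι y 0 * (xk ι y 1 * (xk ι y 2 * (xk ι y 3 * (y * o * y.1⁻¹) * (xk ι y 3)⁻¹) * (xk ι y 2)⁻¹) *
          (xk ι y 1)⁻¹) * (xk ι y 0)⁻¹ := by rw [← hp]; group
        _ = _ := by rw [a 3 _ n, r, a 2 _ m, a 1 _ n, r, a 0 _ m]
    have c2 : p * p ∈ 𝐂₁ o := mem_cent1.2 (mul_inv_eq_iff_eq_mul.1 (by
      calc _ = p * (p * o * p⁻¹) * p⁻¹ := by group
        _ = _ := by rw [b o m, b _ (conj_mem_of_norm y.2 m), r]))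
    obtain ⟨k, e⟩ := eo_iff.2 ((O_pi _ _).elt mo)
    have c1 : p ∈ 𝐂₁ o := by
      have := pow_mem c2 (k + 1)
      rwa [← pow_two, ← pow_mul, show 2 * (k + 1) = orderOf p + 1 by omega, pow_succ, pow_orderOf_eq_one, one_mul] at this
    exact mul_inv_eq_iff_eq_mul.1 (by rw [← b o m, mem_cent1.1 c1, mul_inv_cancel_right])
  have kO : ∀ k, ∀ o ∈ Oo t, xk ι y k * o = o * xk ι y k := fun k o m =>
    ((Commute.mul_left (lo _ o m) (cO o m)).mul_left (Commute.inv_left (lo _ o m))).eq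
  have k2 : ∀ k, xk ι y k * xk ι y k = 1 := fun k => by rw [← xk_mul, y2, xk_one]
  have cm : ∀ j k, Commute (xk ι y j) (xk ι y k) := fun j k => mul_inv_eq_iff_eq_mul.1
    (eq2 L (a := xk κ y j * xk κ y k * (xk κ y j)⁻¹) (b := xk κ y k) (by simp only [map_mul, map_inv, fx, d.cm j k]; group)
      (kO k) ((e2_inv (k2 k)).conj _) (e2_inv (k2 k)))
  have cy : ∀ k, Commute (xk ι y k) y := fun k => by simpa only [xk_four] using cm k 4
  have pr : xk ι y 0 * xk ι y 1 * xk ι y 2 * xk ι y 3 * y = 1 :=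
    (((((e2_inv (k2 0)).mul (e2_inv (k2 1)) (cm 0 1)).mul (e2_inv (k2 2)) ((cm 0 2).mul_left (cm 1 2))).mul (e2_inv (k2 3))
      (((cm 0 3).mul_left (cm 1 3)).mul_left (cm 2 3))).mul (e2_inv y2)
      ((((cy 0).mul_left (cy 1)).mul_left (cy 2)).mul_left (cy 3))).eq_one ((O_pi _ _).elt mo)
  refine ⟨y, ?_, H, y2, ?_, fun l c => ?_, cm, pr, cO⟩
  · have := s.nm
    have a : ∀ k, QuotientGroup.mk' Y (xk ι y k) = QuotientGroup.mk' Y y := fun k => by
      rw [xk, map_mul, map_mul, map_inv, show QuotientGroup.mk' Y (ι _) = 1 from (QuotientGroup.eq_one_iff _).2 (s.le ⟨_, rfl⟩)]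
      simp
    have b := congrArg (QuotientGroup.mk' Y) pr
    rw [map_mul, map_mul, map_mul, map_mul, a, a, a, a, ← map_mul, y2, map_one, one_mul, ← map_mul, y2, map_one, one_mul] at b
    exact (QuotientGroup.eq_one_iff _).1 b
  · exact eq2 L (a := y * ⟨t, mt⟩ * y⁻¹) (b := ⟨t, mt⟩ * κ zc) (by simp only [map_mul, map_inv, ft, fκ, d.yt])
      (fun o m => (Commute.mul_left (a := t) (H.to m) (lo zc o m)).eq) (H.it.piElt.conj _) H.zz.2.1.piElt
  · have : l ∈ Cx ι' (f y) := cz_gen (fun l m => by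
      simp only [List.mem_cons, List.not_mem_nil, or_false] at m
      rcases m with rfl | rfl | rfl | rfl | rfl | rfl | rfl | rfl
      all_goals first | exact mem_Cx.2 d.rw.symm | exact d.cx _ (by simp)) c
    exact (mul_inv_eq_iff_eq_mul.1 (eq2 L (a := κ l * y * (κ l)⁻¹) (b := y)
      (by rw [map_mul, map_mul, map_inv, fκ, mem_Cx.1 this, mul_inv_cancel_right]) cO ((e2_inv y2).conj _) (e2_inv y2))).symm

theorem Wg.gam (w : Wg ι t y) (g : Gam ι t) : ∃ c, Cg ι t y c := by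
  have k : ∀ g ∈ 𝐂₁ t, Ac ι g s0 → g * y = y * g → ∃ c, Cg ι t y c := fun g m a e => by
    have ss := relL.2.2.2.2.2.2.2
    have a2 : Ac ι (g * g) (iL 1) := by simpa [ss] using a.mul a
    obtain ⟨o, mo, q | q⟩ := w.dec (mul_mem m m) a2 <;> rw [map_one, one_mul] at q
    · obtain ⟨n, cc⟩ := odd_pow (q ▸ (O_pi _ _).elt mo)
      have cy : Commute g y := e
      exact ⟨_, cc, mem_cent1.1 (mul_mem m (pow_mem (mul_mem m m) n)), cy.mul_left ((cy.mul_left cy).pow_left n),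
        by simpa using a.mul (a2.pow n)⟩
    · have : Commute (t * o) y := q ▸ Commute.mul_left e e
      have := this.mul_left (Commute.inv_left (w.cO o mo).symm)
      rw [mul_inv_cancel_right] at this
      exact (w.nc w.yt this.symm).elim
  obtain ⟨g, m, a⟩ := g
  rcases w.yy2 (mem_cent1.1 m) (a.cm (by decide +kernel)) with q | q
  · exact k g m a (mul_inv_eq_iff_eq_mul.1 q)
  · refine k (t * g) (mul_mem (self_mem_cent1 t) m) (by simpa using w.act.mul a) (mul_inv_eq_iff_eq_mul.1 ?_)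
    have := w.ty 4
    rw [xk_four, zk_eq.2.2.2.2] at this
    calc _ = t * (g * y * g⁻¹) * t⁻¹ := by group
      _ = _ := by rw [q, ← conj_mul, this, ← w.tc, mul_inv_cancel_right, ← w.yz, mul_assoc, zz_ι, mul_one]

end CF.Gu
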