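import Cfsg.Agent.Gu.W2
import Cfsg.Agent.Gu.WA0

/-! The case `U = 2⁸`: construction of the towers from the action on `U`. -/

set_option autoImplicit false
set_option linter.unusedSectionVars false
set_option maxRecDepth 100000

namespace CF.Gu.WA
open Subgroup Cfsg CF.BG CF.Sig CF.GW CF.Ab2

variable {G : Type*} [Group G] [Finite G] {ι : LL →* G} {t y c g x : G} {h : HH} {υ : TG XV →* G}
  {X Y Z : TD} [X.OK] [Y.OK] [Z.OK] {l l' : List (ℕ × ℕ)} {n m : ℕ}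

/-- conjugation by `g` on a list of codes -/
def Pr (φ : TG X →* G) (g : G) (l : List (ℕ × ℕ)) : Prop := ∀ p ∈ l, g * φ (TG.e X p.1) * g⁻¹ = φ (TG.e X p.2)

/-- `ψ` agrees with `φ` on the codes below `n` -/
def Ag (n : ℕ) (φ : TG X →* G) (ψ : TG Y →* G) : Prop := ∀ a < n, ψ (TG.e Y a) = φ (TG.e X a)

theorem Ag.tr {φ : TG X →* G} {ψ : TG Y →* G} {χ : TG Z →* G} (a : Ag n φ ψ) (b : Ag m ψ χ) (k : n ≤ m := by decide) : Ag n φ χ :=
  fun c q => (b c (q.trans_le k)).trans (a c q)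

theorem Pr.up {φ : TG X →* G} {ψ : TG Y →* G} (p : Pr φ g l) (a : Ag n φ ψ) (k : ∀ p ∈ l, p.1 < n ∧ p.2 < n := by decide) :
    Pr ψ g l := fun q m => by rw [a _ (k q m).1, a _ (k q m).2, p q m]

theorem Pr.cons {φ : TG X →* G} (p : Pr φ g l) {a b : ℕ} (e : g * φ (TG.e X a) * g⁻¹ = φ (TG.e X b)) : Pr φ g ((a, b) :: l) :=
  List.forall_mem_cons.2 ⟨e, p⟩

theorem Pr.of {σ : TG XV →* TG XV} (k : ∀ a, g * υ a * g⁻¹ = υ (σ a)) (l : List (ℕ × ℕ))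
    (d : ∀ p ∈ l, σ (TG.e XV p.1) = TG.e XV p.2 := by decide +kernel) : Pr υ g l := fun p m => by rw [k, d p m]

abbrev OkS (X Y : TD) [X.OK] [Y.OK] (n : ℕ) (l : List (ℕ × ℕ)) : Prop := X.n = n ∧ Y.n = 2 * n ∧ (∀ L ∈ X.W, L.top ∈ l.map Prod.fst) ∧
  (∀ p ∈ l, p.1 < n ∧ p.2 < n ∧ TG.e Y n * TG.e Y p.1 * (TG.e Y n)⁻¹ = TG.e Y p.2) ∧ TG.e Y n * TG.e Y n = 1

theorem stp {L : Cd.Lv} (k : Y.W = [L] ++ X.W) (n : ℕ) (d : OkS X Y n l) {φ : TG X →* G} (p : Pr φ x l) (xx : x * x = 1) :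
    ∃ ψ : TG Y →* G, Ag n φ ψ ∧ ψ (TG.e Y n) = x ∧ ψ.comp (TG.inc [L] k) = φ := by
  obtain ⟨rfl, d1, d2, d3, d4⟩ := d
  have := TG.pos X
  have i : ∀ a < X.n, TG.inc [L] k (TG.e X a) = TG.e Y a := fun a q =>
    TG.ext ((TG.v_e q).trans (TG.v_e (by omega)).symm)
  obtain ⟨ψ, a, b, -⟩ := ext2 (TG.inc [L] k) (TG.inc_inj _ _) (by rw [TG.card, TG.card, d1]) (TG.e Y X.n)
    (fun p e => p.lt.ne ((congrArg TG.v e).trans (TG.v_e (by omega)))) φ x (l.map fun p => (TG.e X p.1, TG.e X p.2))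
    (TG.top fun L q => by
      obtain ⟨p, m, e⟩ := List.mem_map.1 (d2 L q)
      exact List.mem_map.2 ⟨_, List.mem_map_of_mem m, by rw [← e]⟩)
    (List.forall_mem_map.2 fun p m => by rw [i _ (d3 p m).1, i _ (d3 p m).2.1, (d3 p m).2.2])
    (List.forall_mem_map.2 fun q m => p q m) 1 (d4.trans (map_one _).symm) (xx.trans (map_one _).symm)
  exact ⟨ψ, fun c q => by rw [← i c q, a], b, MonoidHom.ext a⟩

abbrev OkZ (X : TD) [X.OK] : Prop := ∀ a : TG X, (∀ L ∈ X.W, a * TG.e X L.top = TG.e X L.top * a) → a = 1 ∨ a = TG.e X 1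

theorem inj_of (d : OkZ X) {φ : TG X →* G} (z : φ (TG.e X 1) ≠ 1) : Function.Injective φ := by
  refine (MonoidHom.ker_eq_bot_iff φ).1 (by_contra fun n => ?_)
  obtain ⟨a, ⟨m, -, c⟩, a1⟩ := (bot_or_exists_ne_one _).resolve_left ((piGrp_of_isPGroup p2
    ((TG.pgroup (X := X)).to_subgroup ⊤)).nil.inf_center_ne_bot (normalIn_top.2 inferInstance) n)
  exact (d a fun _ _ => (mem_cent.1 c _ trivial).symm).elim a1 fun e => z (e ▸ m)

/-- the endomorphism of `U` with given images of the generators (highest first) -/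
noncomputable def sV (l : List ℕ) (k : l.length = 8 := by rfl) : TG XV →* TG XV :=
  TG.hom (l.map (TG.e XV)) (rel_ab _ _ XV_ok.tw.1 (by decide +kernel) (by rw [List.length_map, k]; rfl) (fun u _ => XV_el.1 u)
    fun u _ v _ => XV_cm u v)

/-- `g` permutes the `y_k` as `h` permutes the `z_k` -/
def Ya (ι : LL →* G) (y g : G) (h : HH) : Prop :=
  Ac ι g h ∧ ∀ j k, h * iL (zk j) = iL (zk k) * h → g * xk ι y j * g⁻¹ = xk ι y k

theorem ya_ι (w : Wg ι t y) (l : LL) : Ya ι y (ι l) (iL l) :=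
  ⟨ac_iL l, fun _ _ e => w.cjy (iL_inj (by simpa only [map_mul] using e))⟩

theorem ya_c (w : Wg ι t y) (k : Cg ι t y c) : Ya ι y c s0 := ⟨k.ac, fun _ _ => w.cjg k.ac k.cy (by decide +kernel)⟩

theorem Ya.act (a : Ya ι y g h) (e : Ev ι y υ) (w : Wg ι t y) (σ : TG XV →* TG XV) (π : List ℕ)
    (d : ∀ k < 5, h * iL (zk k) = iL (zk (π.getD k 0)) * h ∧ π.getD k 0 < 5 ∧ σ (TG.e XV (zcd k)) = TG.e XV (zcd (π.getD k 0)) ∧
      σ (TG.e XV (16 * zcd k)) = TG.e XV (16 * zcd (π.getD k 0)) := by decide +kernel) (u : TG XV) : g * υ u * g⁻¹ = υ (σ u) :=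
  e.act w σ (π.getD · 0) (fun k b => (d k b).2) (fun k b => a.1.ap (d k b).1) (fun k b => a.2 _ _ (d k b).1) u

noncomputable def sa := sV [160, 80, 32, 16, 10, 5, 2, 1]
noncomputable def sb := sV [192, 64, 48, 16, 12, 4, 3, 1]
noncomputable def sh := sV [160, 32, 96, 16, 10, 2, 6, 1]
noncomputable def sc := sV [160, 96, 32, 16, 10, 6, 2, 1]
noncomputable def st := sV [136, 68, 34, 17, 8, 4, 2, 1]

variable (e : Ev ι y υ) (w : Wg ι t y)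
include e w

theorem act_a : ∀ u, ι va * υ u * (ι va)⁻¹ = υ (sa u) := (ya_ι w va).act e w sa [1, 0, 3, 2, 4]
theorem act_b : ∀ u, ι vb * υ u * (ι vb)⁻¹ = υ (sb u) := (ya_ι w vb).act e w sb [2, 3, 0, 1, 4]
theorem act_h : ∀ u, ι th * υ u * (ι th)⁻¹ = υ (sh u) := (ya_ι w th).act e w sh [1, 2, 0, 3, 4]
theorem act_c (k : Cg ι t y c) : ∀ u, c * υ u * c⁻¹ = υ (sc u) := (ya_c w k).act e w sc [1, 0, 2, 3, 4]
theorem act_t (u : TG XV) : t * υ u * t⁻¹ = υ (st u) :=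
  (XV_top (M := ((MulAut.conj t).toMonoidHom.comp υ).eqLocus (υ.comp st)) fun j b => by
    obtain ⟨p, q⟩ := (by decide +kernel : ∀ k < 5, st (TG.e XV (zcd k)) = TG.e XV (zcd k) ∧
      st (TG.e XV (16 * zcd k)) = TG.e XV (zcd k) * TG.e XV (16 * zcd k)) j b
    constructor <;> change t * υ _ * t⁻¹ = υ (st _)
    · rw [p, e.z b, ← w.tc, mul_inv_cancel_right]
    · rw [q, map_mul, e.z b, e.yk w b, w.ty]).ge (mem_top u)

omit e w in
theorem cjι {a b c : LL} (k : a * b = c * a := by decide +kernel) : ι a * ι b * (ι a)⁻¹ = ι c := by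
  rw [← map_mul, k, map_mul, mul_inv_cancel_right]

omit e w in
theorem sqι {a : LL} (k : a * a = 1 := by decide +kernel) : ι a * ι a = 1 := by rw [← map_mul, k, map_one]

omit e in
theorem tι (a : LL) : t * ι a * t⁻¹ = ι a := by rw [← w.tc, mul_inv_cancel_right]

/-- the group `U ⟨va, vb⟩` -/
theorem ex10 : ∃ φ : TG X10 →* G, Ag 256 υ φ ∧ φ (TG.e X10 256) = ι va ∧ φ (TG.e X10 512) = ι vb := by
  obtain ⟨φ, a, b, -⟩ := stp (Y := X9) rfl 256 (by decide +kernel) (Pr.of (act_a e w)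
    [(1, 1), (2, 2), (4, 5), (8, 10), (16, 16), (32, 32), (64, 80), (128, 160)]) sqι
  obtain ⟨ψ, a', b', -⟩ := stp (Y := X10) rfl 512 (by decide +kernel) (((Pr.of (act_b e w)
    [(1, 1), (2, 3), (4, 4), (8, 12), (16, 16), (32, 48), (64, 64), (128, 192)]).up a).cons (a := 256) (b := 256)
    (by rw [b]; exact cjι)) sqι
  exact ⟨ψ, a.tr a', (a' 256 (by decide)).trans b, b'⟩

theorem pr_t : Pr υ t [(1, 1), (2, 2), (4, 4), (8, 8), (16, 17), (32, 34), (64, 68), (128, 136)] := Pr.of (act_t e w) _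

omit w in
theorem Ag.ev {φ : TG X →* G} (a : Ag 256 υ φ) (i : Function.Injective φ) : Ev ι y φ :=
  ⟨i, (a 1 (by decide)).trans e.e1, (a 2 (by decide)).trans e.e2, (a 4 (by decide)).trans e.e4, (a 8 (by decide)).trans e.e8,
    (a 16 (by decide)).trans e.e16, (a 32 (by decide)).trans e.e32, (a 64 (by decide)).trans e.e64,
    (a 128 (by decide)).trans e.e128⟩

/-- the group `U ⟨va, vb, t⟩` -/
theorem exN : ∃ φ : TG XN →* G, Ev ι y φ ∧ φ (TG.e XN 256) = ι va ∧ φ (TG.e XN 512) = ι vb ∧ φ (TG.e XN 1024) = t := by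
  obtain ⟨φ, a, b, b'⟩ := ex10 e w
  obtain ⟨ψ, a', c, -⟩ := stp (Y := XN) rfl 1024 (by decide +kernel) ((((pr_t e w).up a).cons (a := 256) (b := 256)
    (by rw [b, tι w])).cons (a := 512) (b := 512) (by rw [b', tι w])) w.it.sq
  exact ⟨ψ, (a.tr a').ev e (inj_of (by decide +kernel) (by rw [(a.tr a') 1 (by decide), e.e1]; exact w.zn)),
    (a' 256 (by decide)).trans b, (a' 512 (by decide)).trans b', c⟩

omit e in
/-- the conjugate of `U` under `wb` -/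
theorem exW : ∃ ν : TG XV →* G, ν (TG.e XV 1) = ι zc ∧ ν (TG.e XV 2) = ι va ∧ ν (TG.e XV 4) = ι vb ∧ ν (TG.e XV 16) = y ∧
    ν (TG.e XV 32) = wA ι y ∧ ν (TG.e XV 64) = wB ι y ∧ ∀ u, t * ν u * t⁻¹ = ν (st u) := by
  obtain ⟨υ, e⟩ := w.ups
  refine ⟨(MulAut.conj (ι wb)).toMonoidHom.comp υ, ?_, ?_, ?_, ?_, ?_, ?_, fun u => ?_⟩
  iterate 6 change ι wb * υ _ * (ι wb)⁻¹ = _; rotate_left
  rotate_left
  · rw [e.e1]; exact cjι
  · rw [e.e2]; exact cjι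
  · rw [e.e4]; exact cjι
  · rw [e.e16, ← w.yc _ wb_rel.2.1, mul_inv_cancel_right]
  · rw [e.e32, wA]
  · rw [e.e64, wB]
  · change t * (ι wb * υ _ * (ι wb)⁻¹) * t⁻¹ = ι wb * υ _ * (ι wb)⁻¹
    rw [← act_t e w, ← conj_mul, ← conj_mul, ← map_inv, tι w, tι w]

omit e in
theorem rAB : wA ι y * wA ι y = 1 ∧ wB ι y * wB ι y = 1 ∧ (∀ u ∈ [ι zc, ι va, ι vb, y, wA ι y, wB ι y],
    wA ι y * u * (wA ι y)⁻¹ = u ∧ wB ι y * u * (wB ι y)⁻¹ = u) ∧
    t * wA ι y * t⁻¹ = ι va * wA ι y ∧ t * wB ι y * t⁻¹ = ι vb * wB ι y := by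
  obtain ⟨ν, a1, a2, a3, a4, a5, a6, a7⟩ := exW w
  have c : ∀ a b, ν a * ν b * (ν a)⁻¹ = ν b := fun a b => by rw [← map_mul, XV_cm, map_mul, mul_inv_cancel_right]
  obtain ⟨p, q⟩ := (by decide +kernel : st (TG.e XV 32) = TG.e XV 2 * TG.e XV 32 ∧ st (TG.e XV 64) = TG.e XV 4 * TG.e XV 64)
  rw [← a6, ← a5, ← a4, ← a3, ← a2, ← a1, a7, a7, p, q, map_mul, map_mul, ← map_mul, ← map_mul, XV_el.1, XV_el.1, map_one]
  simp [c]

/-- the tower of `T_X ⟨t⟩` from the actions of `A` and `B` -/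
theorem ex3 {X1 X2 X3 : TD} [X1.OK] [X2.OK] [X3.OK] {L1 L2 L3 : Cd.Lv} (k1 : X1.W = [L1] ++ X10.W) (k2 : X2.W = [L2] ++ X1.W)
    (k3 : X3.W = [L3] ++ X2.W) (a : Pr υ (wA ι y) l) (b : Pr υ (wB ι y) l')
    (d : (∀ p ∈ l, p.1 < 256 ∧ p.2 < 256) ∧ (∀ p ∈ l', p.1 < 256 ∧ p.2 < 256) ∧ OkS X10 X1 1024 ((512, 512) :: (256, 256) :: l) ∧
      OkS X1 X2 2048 ((1024, 1024) :: (512, 512) :: (256, 256) :: l') ∧ OkS X2 X3 4096 [(2048, 2560), (1024, 1280), (512, 512),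
      (256, 256), (1, 1), (2, 2), (4, 4), (8, 8), (16, 17), (32, 34), (64, 68), (128, 136)] ∧ OkZ X3 ∧
      TG.e X2 1280 = TG.e X2 256 * TG.e X2 1024 ∧ TG.e X2 2560 = TG.e X2 512 * TG.e X2 2048) :
    ∃ φ : TG X3 →* G, Ew ι t y φ := by
  obtain ⟨d1, d2, d3, d4, d5, d6, d7, d8⟩ := d
  obtain ⟨r1, r2, r3, r4, r5⟩ := rAB w
  simp only [List.forall_mem_cons] at r3
  obtain ⟨-, ⟨s1, s2⟩, ⟨s3, s4⟩, -, ⟨-, s5⟩, -⟩ := r3
  obtain ⟨φ, u, v, v'⟩ := ex10 e w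
  obtain ⟨φ1, u1, v1, -⟩ := stp k1 1024 d3 (((a.up u d1).cons (by rw [v, s1])).cons (by rw [v', s3])) r1
  replace v := (u1 256 (by decide)).trans v
  replace v' := (u1 512 (by decide)).trans v'
  replace u := u.tr u1
  obtain ⟨φ2, u2, v2, -⟩ := stp k2 2048 d4 ((((b.up u d2).cons (by rw [v, s2])).cons (by rw [v', s4])).cons (by rw [v1, s5])) r2
  replace v := (u2 256 (by decide)).trans v
  replace v' := (u2 512 (by decide)).trans v'
  replace v1 := (u2 1024 (by decide)).trans v1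
  replace u := u.tr u2
  obtain ⟨φ3, u3, v3, -⟩ := stp k3 4096 d5 ((((((pr_t e w).up u).cons (by rw [v, tι w])).cons (by rw [v', tι w])).cons
    (by rw [d7, map_mul, v, v1, r4])).cons (by rw [d8, map_mul, v', v2, r5])) w.it.sq
  exact ⟨φ3, (u.tr u3).ev e (inj_of d6 (by rw [(u.tr u3) 1 (by decide), e.e1]; exact w.zn)), (u3 256 (by decide)).trans v,
    (u3 512 (by decide)).trans v', (u3 1024 (by decide)).trans v1, (u3 2048 (by decide)).trans v2, v3⟩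

omit e in
/-- the extension by `c` -/
theorem ex4 {X3 X4 : TD} [X3.OK] [X4.OK] {L : Cd.Lv} (k4 : X4.W = [L] ++ X3.W) {φ : TG X3 →* G} (E : Ew ι t y φ) (k : Cg ι t y c)
    (j : TG XV →* TG X3) (i : Function.Injective j)
    (d : (∀ a < 256, j (TG.e XV a) = TG.e X3 a) ∧ OkS X3 X4 8192 [(4096, 4096), (2048, 3072), (1024, 1024), (512, 768), (256, 256),
      (1, 1), (2, 2), (4, 6), (8, 10), (16, 16), (32, 32), (64, 96), (128, 160)] ∧ OkZ X4 ∧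
      TG.e X3 768 = TG.e X3 256 * TG.e X3 512 ∧ TG.e X3 3072 = TG.e X3 1024 * TG.e X3 2048) :
    ∃ ψ : TG X4 →* G, Ew ι t y ψ ∧ ψ (TG.e X4 8192) = c ∧ ψ.comp (TG.inc [L] k4) = φ := by
  obtain ⟨d1, d2, d3, d4, d5⟩ := d
  have e := E.lo j i fun a m => d1 a ((by decide : ∀ a ∈ [1, 2, 4, 8, 16, 32, 64, 128], a < 256) a m)
  have u : Ag 256 (φ.comp j) φ := fun a q => (congrArg φ (d1 a q)).symm
  have q : ∀ v, c * (ι wb * φ (j v) * (ι wb)⁻¹) * c⁻¹ = ι wb * φ (j (sc v)) * (ι wb)⁻¹ := fun v => by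
    rw [← conj_mul, ← conj_mul, ← conj_inv, k.ac.ap wb_rel.2.2.2.1]
    exact congrArg (ι wb * · * _) (act_c e w k v)
  obtain ⟨p1, p2⟩ := (by decide +kernel : sc (TG.e XV 32) = TG.e XV 32 ∧ sc (TG.e XV 64) = TG.e XV 32 * TG.e XV 64)
  have qa := q (TG.e XV 32)
  have qb := q (TG.e XV 64)
  rw [p1] at qa
  rw [p2, map_mul, map_mul, ← conj_mul (b := ι wb)] at qb
  simp only [d1 32 (by decide), d1 64 (by decide), E.e32, E.e64] at qa qb
  obtain ⟨ψ, a, b, f⟩ := stp k4 8192 d2 ((((((Pr.of (act_c e w k) _).up u).cons (by rw [E.ea]; exact k.ac.ap (by decide +kernel))).cons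
    (by rw [d4, map_mul, E.ea, E.eb, ← map_mul]; exact k.ac.ap (by decide +kernel))).cons (by rw [E.eA]; exact qa)).cons
    (by rw [d5, map_mul, E.eA, E.eB]; exact qb) |>.cons (by rw [E.et, k.ct, mul_inv_cancel_right])) k.cc
  exact ⟨ψ, ⟨(u.tr a).ev e (inj_of d3 (by rw [a 1 (by decide), E.e1]; exact w.zn)), (a 256 (by decide)).trans E.ea,
    (a 512 (by decide)).trans E.eb, (a 1024 (by decide)).trans E.eA, (a 2048 (by decide)).trans E.eB,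
    (a 4096 (by decide)).trans E.et⟩, b, f⟩

end CF.Gu.WA

namespace CF.Gu
variable {G : Type*} [Group G] [Finite G] {ι : LL →* G} {t y c : G}

theorem Ew.extL {φ : TG XL3 →* G} (e : Ew ι t y φ) (w : Wg ι t y) (k : Cg ι t y c) :
    ∃ ψ : TG XL4 →* G, Ew ι t y ψ ∧ ψ (TG.e XL4 8192) = c ∧ ψ.comp iL34 = φ :=
  WA.ex4 w rfl e k iVL3 (TG.inc_inj _ _) (by decide +kernel)

theorem Ew.extW {φ : TG XW3 →* G} (e : Ew ι t y φ) (w : Wg ι t y) (k : Cg ι t y c) :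
    ∃ ψ : TG XW4 →* G, Ew ι t y ψ ∧ ψ (TG.e XW4 8192) = c ∧ ψ.comp iW34 = φ :=
  WA.ex4 w rfl e k iVW3 (TG.inc_inj _ _) (by decide +kernel)

end CF.Gu
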