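import Cfsg.Agent.Gu.WF0

/-! The wreath case with outer automorphisms: the embedding of `S⁺ × S⁺`. -/

set_option autoImplicit false
set_option maxRecDepth 100000

namespace CF.Gu.WF
open Subgroup Cfsg CF.BG CF.Sig CF.GW CF.Ab2

variable {G : Type*} [Group G] [Finite G] {ι : LL →* G} {t d : G} {θ : MM →* G}

/-- the base group `S⁺ × S⁺` of the wreath product -/
structure Wf (ι : LL →* G) (t : G) (B : TG XP × TG XP →* G) : Prop extends Hy ι t where
  bi : Function.Injective B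
  sw : ∀ a b, t * B (a, b) * t⁻¹ = B (b, a)
  aa : ∀ a, Ac ι (B (a, a)) (pH a)
  sl : ∀ s, B (iSP s, iSP s) = ι (sL s)
  fu : ∀ a, a * a = 1 → ∃ r ∈ RP, (inn (pH a) ↔ inn (pH (e r))) ∧ ∀ b, IsConj (B (a, b)) (B (e r, b))
  sq : ∀ Y : Subgroup G, Y.index = 2 → ∀ s, B (iSP s, 1) ∈ Y

theorem pPP : IsPGroup 2 (TG XP × TG XP) := .of_card (n := 14) (by rw [Nat.card_prod, TG.card]; rfl)

theorem exB (H : Hy ι t) (cm : ∀ m m', θ m * (t * θ m' * t⁻¹) = t * θ m' * t⁻¹ * θ m) (pr : ∀ m : MM, ι m = θ m * (t * θ m * t⁻¹))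
    (h1 : d * d = 1) (h2 : d * (t * d * t⁻¹) = t * d * t⁻¹ * d)
    (h3 : ∀ m m' : MM, s0 * iL m = iL m' * s0 → d * θ m * d⁻¹ = θ m') (h4 : ∀ m, d * (t * θ m * t⁻¹) = t * θ m * t⁻¹ * d) :
    ∃ B, Wf ι t B := by
  have tt : ∀ x, t * (t * x * t⁻¹) * t⁻¹ = x := fun x => by
    rw [show t * (t * x * t⁻¹) * t⁻¹ = t * t * x * (t * t)⁻¹ by group, H.it.sq]; group
  obtain ⟨ρ, r1, r2, -⟩ := ext2 iSP (TG.inc_inj _ _) (by rw [TG.card, TG.card]; rfl) (e 64) pH_e.2.2.2.2 (θ.comp sM) d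
    ([(1, 1), (2, 2), (4, 6), (8, 8), (16, 24), (32, 34)].map fun a => (TG.e XS a.1, TG.e XS a.2)) (TG.top (by decide +kernel))
    (by decide +kernel) (fun p m => h3 _ _ ((by decide +kernel : ∀ p ∈ [(1, 1), (2, 2), (4, 6), (8, 8), (16, 24), (32, 34)].map
      fun a => (TG.e XS a.1, TG.e XS a.2), s0 * iL (sL p.1) = iL (sL p.2) * s0) p m)) 1 (by decide +kernel) (by rw [h1, map_one])
  have cs : ∀ {x : G}, (∀ m, Commute x (t * θ m * t⁻¹)) → Commute x (t * d * t⁻¹) → ∀ b, Commute x (t * ρ b * t⁻¹) := fun p q b => by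
    obtain ⟨s, rfl | rfl⟩ := XP_cases b
    · rw [r1]; exact p _
    · rw [map_mul, r1, r2, ← conj_mul]; exact (p _).mul_right q
  have cθ : ∀ m b, Commute (θ m) (t * ρ b * t⁻¹) := fun m => cs (cm m) (by
    have : t * (d * (t * θ m * t⁻¹)) * t⁻¹ = t * (t * θ m * t⁻¹ * d) * t⁻¹ := by rw [h4]
    rw [← conj_mul, ← conj_mul (c := d), tt] at this
    exact this.symm)
  have cρ : ∀ a b, Commute (ρ a) (((MulAut.conj t).toMonoidHom.comp ρ) b) := fun a b => by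
    obtain ⟨s, rfl | rfl⟩ := XP_cases a
    · rw [r1]; exact cθ _ b
    · rw [map_mul, r1, r2]; exact (cθ _ b).mul_left (cs h4 h2 b)
  let B := MonoidHom.noncommCoprod _ _ cρ
  have bv : ∀ a b, B (a, b) = ρ a * (t * ρ b * t⁻¹) := fun _ _ => rfl
  have sw : ∀ a b, t * B (a, b) * t⁻¹ = B (b, a) := fun a b => by rw [bv, bv, ← conj_mul, tt]; exact (cρ b a).symm
  have sl : ∀ s, B (iSP s, iSP s) = ι (sL s) := fun s => by rw [bv, r1]; exact (pr (sM s)).symm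
  have a0 : Ac ι (B (e 64, e 64)) s0 := by
    obtain ⟨h, p⟩ := H.ac (B (e 64, e 64)) (mem_cent1.2 (mul_inv_eq_iff_eq_mul.1 (sw _ _)).symm)
    have k : ∀ l ∈ MM, s0⁻¹ * h * iL l = iL l * (s0⁻¹ * h) := fun l m => by
      obtain ⟨m', q⟩ := s0M ⟨l, m⟩
      have : B (e 64, e 64) * ι l * (B (e 64, e 64))⁻¹ = ι m' := by
        have u := (cθ ⟨l, m⟩ (e 64)).eq
        rw [r2] at u
        rw [pr ⟨l, m⟩, pr m', bv, r2, ← h3 _ _ q]
        calc _ = d * (t * d * t⁻¹ * θ ⟨l, m⟩) * (t * θ ⟨l, m⟩ * d⁻¹ * t⁻¹) * d⁻¹ := by group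
          _ = d * θ ⟨l, m⟩ * (t * (d * θ ⟨l, m⟩ * d⁻¹) * t⁻¹) * d⁻¹ := by rw [← u]; group
          _ = _ := by rw [h3 _ _ q, mul_assoc, ← ((show Commute d _ from h4 m').inv_left).eq, ← mul_assoc, h3 _ _ q]
      rw [mul_assoc, H.ap p this, ← mul_assoc, ← mul_assoc, eq_mul_inv_iff_mul_eq.2 q.symm]; group
    have := inv_mul_eq_one.1 (cen_gen _ (k _ bM.2.2) (k _ zc_MM.2.1) (k _ gM.2.2))
    subst h
    exact p
  refine ⟨B, H, ?_, sw, fun a => ?_, sl, fun a q => ?_, fun Y i s => ?_⟩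
  · rw [← MonoidHom.ker_eq_bot_iff]
    by_contra k
    obtain ⟨⟨⟨a, b⟩, q⟩, n⟩ := ne_bot_iff_exists_ne_one.1 ((piGrp_of_isPGroup p2 (pPP.to_subgroup ⊤)).nil.inf_center_ne_bot
      (normalIn_top.2 B.normal_ker) k)
    have z : B (e 1, e 1) ≠ 1 := by rw [pH_e.2.2.1, sl, pH_e.2.2.2.1]; exact H.zn
    have u : B (a, b) = 1 := q.1
    have v : B (b, a) = 1 := by rw [← sw, u]; group
    have w : B (a * b, b * a) = 1 := by rw [← Prod.mk_mul_mk, map_mul, u, v, one_mul]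
    rcases cenP a fun c _ => (congrArg Prod.fst (q.2.2 (e c, 1) (mem_top _))).symm with rfl | rfl <;>
      rcases cenP b fun c _ => (congrArg Prod.snd (q.2.2 (1, e c) (mem_top _))).symm with rfl | rfl
    exacts [n rfl, z (by simpa using w), z (by simpa using w), z u]
  · obtain ⟨s, rfl | rfl⟩ := XP_cases a
    · rw [sl, pH_iSP]; exact ac_iL _
    · rw [← Prod.mk_mul_mk, map_mul, map_mul, sl, pH_iSP, pH_e.1]; exact (ac_iL _).mul a0
  · obtain ⟨r, m, g, k⟩ := fusM q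
    have i : inn (pH a) ↔ inn (pH (e r)) := by rw [← mul_inv_eq_iff_eq_mul.2 k, inn_cj]
    refine ⟨r, m, i, fun b => isConj_iff.2 ⟨θ g, ?_⟩⟩
    have : θ g * ρ a * (θ g)⁻¹ = ρ (e r) := by
      generalize e r = a' at *
      obtain ⟨s, rfl | rfl⟩ := XP_cases a <;> obtain ⟨s', rfl | rfl⟩ := XP_cases a' <;>
        simp only [map_mul, pH_iSP, pH_e.1, inn_mul, inn_iL, s0_out, true_iff, iff_true, not_false_eq_true] at i k
      · rw [r1, r1, mul_inv_eq_iff_eq_mul]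
        change θ g * θ (sM s) = θ (sM s') * θ g
        rw [← map_mul, ← map_mul]
        exact congrArg θ (Subtype.ext (iL_inj (by rw [coe_mul, coe_mul, map_mul, map_mul]; exact k)))
      · obtain ⟨g', p⟩ := s0M g
        rw [mul_assoc (iL (sL s')), p, ← mul_assoc, ← mul_assoc, mul_left_inj, ← map_mul, ← map_mul] at k
        rw [map_mul, map_mul, r1, r1, r2]
        change θ g * (θ (sM s) * d) * _ = θ (sM s') * d
        rw [← mul_assoc, ← map_mul, show g * sM s = sM s' * g' from Subtype.ext (iL_inj k), map_mul, ← h3 _ _ p]; group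
    rw [bv, bv, ← this, ← mul_assoc, mul_assoc _ _ (θ g)⁻¹, ← (cθ g b).inv_left.eq, ← mul_assoc]
  · rw [bv, r1, map_one, mul_one, mul_inv_cancel, mul_one]
    exact sqM (K := Y.comap θ) (fun m => by rw [mem_comap, map_mul]; exact mul_self_mem_of_index_two i _) _

end CF.Gu.WF
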