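import Cfsg.Agent.Gu.W2

/-! The case `U = 2⁸`, wreath type: computations in the model. -/

set_option autoImplicit false
set_option maxRecDepth 100000
set_option maxHeartbeats 0
set_option Elab.async false
set_option synthInstance.maxSize 4000
set_option synthInstance.maxHeartbeats 400000

namespace CF.Gu.WP

open CF.Perm.SS CF.Comp CF.Yo
open scoped commutatorElement

def CMP : List Perm.SS.Lvl := [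
  ⟨1, [[0, 2, 1, 4, 3, 6, 5, 8, 7, 9, 11, 10, 12, 14, 13, 16, 15, 18, 17, 20, 19, 22, 21, 24, 23, 26, 25, 27, 28], [0, 1, 2, 3, 4, 9, 12, 5, 6, 7, 10, 25, 8, 13, 23, 15, 21, 17, 19, 26, 11, 24, 14, 22, 16, 20, 18, 27, 28], [0, 9, 12, 1, 2, 3, 4, 5, 6, 7, 10, 25, 8, 11, 26, 13, 23, 14, 24, 21, 15, 22, 16, 19, 17, 20, 18, 27, 28]],
   [(1, [], [0, 1, 2, 3, 4, 5, 6, 7, 8, 9, 10, 11, 12, 13, 14, 15, 16, 17, 18, 19, 20, 21, 22, 23, 24, 25, 26, 27, 28]), (2, [0], [0, 2, 1, 4, 3, 6, 5, 8, 7, 9, 11, 10, 12, 14, 13, 16, 15, 18, 17, 20, 19, 22, 21, 24, 23, 26, 25, 27, 28]), (3, [2], [0, 9, 12, 1, 2, 3, 4, 5, 6, 7, 10, 25, 8, 11, 26, 13, 23, 14, 24, 21, 15, 22, 16, 19, 17, 20, 18, 27, 28]), (4, [0, 2], [0, 9, 12, 2, 1, 4, 3, 6, 5, 8, 11, 26, 7, 10, 25, 14, 24, 13, 23, 22, 16, 21, 15, 20,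 18, 19, 17, 27, 28]), (5, [2, 2], [0, 7, 8, 9, 12, 1, 2, 3, 4, 5, 10, 20, 6, 25, 18, 11, 19, 26, 17, 22, 13, 16, 23, 21, 14, 15, 24, 27, 28]), (6, [0, 2, 2], [0, 8, 7, 9, 12, 2, 1, 4, 3, 6, 11, 19, 5, 26, 17, 10, 20, 25, 18, 21, 14, 15, 24, 22, 13, 16, 23, 27, 28]), (7, [2, 2, 1], [0, 7, 8, 9, 12, 5, 6, 1, 2, 3, 10, 15, 4, 25, 21, 11, 16, 26, 22, 24, 20, 14, 18, 23, 19, 13, 17, 27, 28]), (8, [0, 2, 2, 1], [0, 8, 7, 9, 12, 6, 5, 2, 1, 4, 11, 16, 3, 26, 22, 10, 15, 25, 21, 23, 19, 13, 17, 24, 20, 14, 18, 27, 28]), (9, [2, 2, 1, 1], [0, 7, 8, 9, 12, 3, 4, 5, 6, 1, 10, 13, 2, 25, 23, 11, 14, 26, 24, 17, 15, 19, 21, 18, 16, 20, 22, 27, 28]), (12, [0, 2, 2, 1, 1], [0, 8, 7, 9, 12, 4, 3, 6, 5, 2, 11, 14, 1, 26, 24, 10, 13, 25, 23, 18, 16, 20, 22, 17, 15, 19, 21, 27, 28])],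
   [[1], [0, 1, 0], [2, 2, 1, 1, 2]]⟩,
  ⟨3, [[0, 1, 2, 3, 4, 9, 12, 5, 6, 7, 10, 25, 8, 13, 23, 15, 21, 17, 19, 26, 11, 24, 14, 22, 16, 20, 18, 27, 28], [0, 1, 2, 3, 4, 12, 9, 5, 6, 8, 26, 11, 7, 24, 14, 22, 16, 20, 18, 10, 25, 13, 23, 15, 21, 17, 19, 27, 28], [0, 1, 2, 7, 8, 9, 12, 3, 4, 5, 10, 20, 6, 13, 22, 25, 18, 23, 16, 19, 11, 21, 14, 17, 26, 15, 24, 27, 28]],
   [(3, [], [0, 1, 2, 3, 4, 5, 6, 7, 8, 9, 10, 11, 12, 13, 14, 15, 16, 17, 18, 19, 20, 21, 22, 23, 24, 25, 26, 27, 28]), (7, [2], [0, 1, 2, 7, 8, 9, 12, 3, 4, 5, 10, 20, 6, 13, 22, 25, 18, 23, 16, 19, 11, 21, 14, 17, 26, 15, 24, 27, 28]), (9, [2, 0], [0, 1, 2, 7, 8, 5, 6, 9, 12, 3, 10, 15, 4, 13, 17, 25, 21, 23, 19, 24, 20, 26, 22, 14, 18, 11, 16, 27, 28]), (12, [2, 1], [0, 1, 2, 7, 8, 6, 5, 9, 12, 4, 24, 20, 3, 26,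 22, 14, 18, 11, 16, 10, 15, 13, 17, 25, 21, 23, 19, 27, 28]), (5, [2, 0, 0], [0, 1, 2, 7, 8, 3, 4, 5, 6, 9, 10, 11, 12, 13, 14, 25, 26, 23, 24, 16, 15, 18, 17, 22, 21, 20, 19, 27, 28]), (6, [2, 0, 1], [0, 1, 2, 7, 8, 4, 3, 5, 6, 12, 16, 15, 9, 18, 17, 22, 21, 20, 19, 10, 11, 13, 14, 25, 26, 23, 24, 27, 28]), (8, [2, 0, 1, 0], [0, 1, 2, 7, 8, 12, 9, 4, 3, 5, 16, 23, 6, 18, 25, 22, 13, 20, 10, 24, 15, 26, 17, 14, 21, 11, 19, 27, 28]), (4, [2, 0, 1, 0, 2], [0, 1, 2, 4, 3, 5, 6, 7, 8, 12, 16, 15, 9, 18, 17, 11, 10, 14, 13, 24, 23, 26, 25, 20, 19, 22, 21, 27, 28])],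
   [[0], [1]]⟩,
  ⟨5, [[0, 1, 2, 3, 4, 9, 12, 5, 6, 7, 10, 25, 8, 13, 23, 15, 21, 17, 19, 26, 11, 24, 14, 22, 16, 20, 18, 27, 28], [0, 1, 2, 3, 4, 12, 9, 5, 6, 8, 26, 11, 7, 24, 14, 22, 16, 20, 18, 10, 25, 13, 23, 15, 21, 17, 19, 27, 28]],
   [(5, [], [0, 1, 2, 3, 4, 5, 6, 7, 8, 9, 10, 11, 12, 13, 14, 15, 16, 17, 18, 19, 20, 21, 22, 23, 24, 25, 26, 27, 28]), (7, [0], [0, 1, 2, 3, 4, 9, 12, 5, 6, 7, 10, 25, 8, 13, 23, 15, 21, 17, 19, 26, 11, 24, 14, 22, 16, 20, 18, 27, 28]), (9, [0, 0], [0, 1, 2, 3, 4, 7, 8, 9, 12, 5, 10, 20, 6, 13, 22, 15, 24, 17, 26, 18, 25, 16, 23, 14, 21, 11, 19, 27, 28]), (12, [0, 1], [0, 1, 2, 3, 4, 8, 7, 9, 12, 6, 18, 25, 5, 16, 23, 14, 21, 11, 19, 10, 20, 13, 22, 15, 24, 17, 26, 27, 28]), (6, [0, 0, 1], [0, 1, 2, 3, 4, 6, 5, 7, 8, 12, 19, 20, 9, 21, 22,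 23, 24, 25, 26, 10, 11, 13, 14, 15, 16, 17, 18, 27, 28]), (8, [0, 0, 1, 0], [0, 1, 2, 3, 4, 12, 9, 6, 5, 7, 19, 17, 8, 21, 15, 23, 13, 25, 10, 18, 20, 16, 22, 14, 24, 11, 26, 27, 28])],
   [[0, 1, 1]]⟩,
  ⟨7, [[0, 1, 2, 3, 4, 5, 6, 8, 7, 12, 26, 25, 9, 24, 23, 22, 21, 20, 19, 18, 17, 16, 15, 14, 13, 11, 10, 27, 28]],
   [(7, [], [0, 1, 2, 3, 4, 5, 6, 7, 8, 9, 10, 11, 12, 13, 14, 15, 16, 17, 18, 19, 20, 21, 22, 23, 24, 25, 26, 27, 28]), (8, [0], [0, 1, 2, 3, 4, 5, 6, 8, 7, 12, 26, 25, 9, 24, 23, 22, 21, 20, 19, 18, 17, 16, 15, 14, 13, 11, 10, 27, 28])],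
   []⟩]
theorem CMP_ok : chainOK P29.n CMP = true := by decide +kernel
abbrev MP : Type := PE P29 (gens CMP)
noncomputable def mkMP (l : List ℕ) (h : (valb P29.n l && sift P29.n CMP l) = true := by decide +kernel) : MP :=
  PE.mk' l (PE.ex_of CMP_ok rfl h)
theorem hiM : grp P29.n (gens CMP) ≤ grp P29.n (gens CLL) := PE.grp_le CLL_ok rfl (by decide +kernel)
noncomputable def iM : MP →* LL := PE.incl hiM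
theorem iM_inj : Function.Injective iM := PE.incl_inj _
theorem card_MP : Nat.card MP = 960 :=
  (PE.card CMP_ok rfl).trans (by decide +kernel)

noncomputable def mz : MP := mkMP [0, 2, 1, 4, 3, 6, 5, 8, 7, 9, 11, 10, 12, 14, 13, 16, 15, 18, 17, 20, 19, 22, 21, 24, 23, 26, 25, 27, 28]
noncomputable def mt : MP := mkMP [0, 1, 2, 3, 4, 9, 12, 5, 6, 7, 10, 25, 8, 13, 23, 15, 21, 17, 19, 26, 11, 24, 14, 22, 16, 20, 18, 27, 28]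
noncomputable def mp : MP := mkMP [0, 9, 12, 1, 2, 3, 4, 5, 6, 7, 10, 25, 8, 11, 26, 13, 23, 14, 24, 21, 15, 22, 16, 19, 17, 20, 18, 27, 28]
theorem topMP : ∀ {M : Subgroup MP}, (∀ a ∈ [mz, mt, mp], a ∈ M) → M = ⊤ :=
  PE.top_of (by decide +kernel)

noncomputable def mp_3 : MP := mkMP [0, 9, 12, 1, 2, 4, 3, 5, 6, 8, 21, 15, 7, 22, 16, 19, 17, 20, 18, 10, 25, 11, 26, 13, 23, 14, 24, 27, 28]
noncomputable def mp_4 : MP := mkMP [0, 5, 6, 1, 2, 3, 4, 7, 8, 9, 10, 11, 12, 20, 19, 13, 14, 22, 21, 16, 15, 23, 24, 18, 17, 25, 26, 27, 28]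
noncomputable def mp_5 : MP := mkMP [0, 7, 8, 1, 2, 3, 4, 9, 12, 5, 10, 20, 6, 25, 18, 13, 22, 23, 16, 24, 15, 14, 21, 26, 17, 11, 19, 27, 28]
noncomputable def m5 : MP := mkMP [0, 5, 6, 1, 2, 7, 8, 9, 12, 3, 10, 15, 4, 20, 24, 13, 17, 22, 26, 21, 25, 14, 18, 19, 23, 11, 16, 27, 28]
theorem iM_e : iM mz = z0 ∧ iM mt = th ∧ iM mp = p5 :=
  by decide +kernel

theorem gen_va : z0 = iM mp * va * (iM mp)⁻¹ * (iM mp_3 * va * (iM mp_3)⁻¹) ∧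
    th = iM mp_4 * va * (iM mp_4)⁻¹ * (iM mp * va * (iM mp)⁻¹) ∧
    p5 = iM mt * va * (iM mt)⁻¹ * (iM mp_5 * va * (iM mp_5)⁻¹) :=
  by decide +kernel

theorem five : (va * (iM m5 * va * (iM m5)⁻¹)) ^ 5 = 1 ∧ (iM m5 * va * (iM m5)⁻¹ * (th⁻¹ * va * th⁻¹⁻¹)) ^ 5 = 1 ∧ th⁻¹ * va * th⁻¹⁻¹ = vb ∧
    va = th * vb * th⁻¹ ∧ va = th * (va * vb) * th⁻¹ * (va * vb)⁻¹ ∧ th ≠ 1 ∧ p5 ≠ 1 ∧ va * va = 1 ∧ va ≠ 1 :=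
  by decide +kernel

theorem th_E : th * eL (TG.e XE 2) = eL (TG.e XE 6) * th ∧ th * eL (TG.e XE 4) = eL (TG.e XE 2) * th ∧
    TG.e XE 6 = TG.e XE 2 * TG.e XE 4 ∧ hiE (TG.e XE 2) = TG.e XV 32 ∧ hiE (TG.e XE 4) = TG.e XV 64 ∧ hiE (TG.e XE 1) = TG.e XV 16 ∧
    eL (TG.e XE 4) = b2 :=
  by decide +kernel

theorem cE_v : ∀ f, va * eL f * va⁻¹ = eL f → vb * eL f * vb⁻¹ = eL f → th⁻¹ * eL f = eL f * th⁻¹ :=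
  by decide +kernel

theorem cE_p : ∀ f, p5 * eL f * p5⁻¹ = eL f → f = 1 :=
  by decide +kernel

theorem cS_p : ∀ s, p5 * sL s = sL s * p5 → s = 1 :=
  by decide +kernel

theorem XE_sq : ∀ f : TG XE, f * f = 1 :=
  by decide +kernel

theorem hi_ne : ∀ f f', hiE f = iEV f' * hiE f' → f = 1 ∧ f' = 1 :=
  by decide +kernel

theorem M_E : ∀ g ∈ [z0, th, p5], ∀ f, ∃ f', g * eL f * g⁻¹ = eL f' :=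
  by decide +kernel

theorem S_gen : bt = p5⁻¹ * z0 * p5 * (p5 * p5 * z0 * (p5 * p5)⁻¹) * (p5 * p5 * p5 * z0 * (p5 * p5 * p5)⁻¹) ∧ b2 = th⁻¹ * bt * th ∧ rr = z0 * zc ∧ ∀ k < 5, ∃ s, sL s = zk k :=
  by decide +kernel

theorem W3_rel : TG.e XW3 1024 * TG.e XW3 1024 = 1 ∧ TG.e XW3 4096 * TG.e XW3 1024 * (TG.e XW3 4096)⁻¹ = TG.e XW3 1024 * TG.e XW3 256 ∧
    TG.e XW3 4096 * TG.e XW3 2048 * (TG.e XW3 4096)⁻¹ = TG.e XW3 2048 * TG.e XW3 512 ∧ TG.e XW3 256 * TG.e XW3 1024 = TG.e XW3 1024 * TG.e XW3 256 ∧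
    TG.e XW3 512 * TG.e XW3 1024 = TG.e XW3 1024 * TG.e XW3 512 ∧ TG.e XW3 256 * TG.e XW3 2048 = TG.e XW3 2048 * TG.e XW3 256 ∧
    TG.e XW3 512 * TG.e XW3 2048 = TG.e XW3 2048 * TG.e XW3 512 ∧ TG.e XW3 16 = TG.e XW3 1024 * (TG.e XW3 4 * TG.e XW3 1024 * (TG.e XW3 4)⁻¹) ∧
    (∀ a ∈ [1, 2, 4, 8, 16, 32, 64, 128], iVW3 (TG.e XV a) = TG.e XW3 a) ∧
    ∀ f, TG.e XW3 1024 * (TG.e XW3 4096 * iVW3 (hiE f) * (TG.e XW3 4096)⁻¹) = TG.e XW3 4096 * iVW3 (hiE f) * (TG.e XW3 4096)⁻¹ * TG.e XW3 1024 :=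
  by decide +kernel

noncomputable def iFS : TG XF →* TG XS := TG.inc [XS_l, XQ_l, X4_l] rfl
noncomputable instance : DecidablePred (· ∈ iFS.range) := fun a => decidable_of_iff (∃ f, iFS f = a) Iff.rfl

theorem S_der : TG.e XS 1 = ⁅TG.e XS 2, TG.e XS 16⁆ ∧ TG.e XS 2 = ⁅TG.e XS 32, TG.e XS 8⁆ ∧ TG.e XS 4 = ⁅TG.e XS 32, TG.e XS 16⁆ ∧
    (∀ L ∈ XS.W, ∀ L' ∈ XS.W, ⁅TG.e XS L.top, TG.e XS L'.top⁆ ∈ iFS.range) ∧ (∀ L ∈ XF.W, ∃ a ∈ [1, 2, 4], iFS (TG.e XF L.top) = TG.e XS a) ∧ ∀ L ∈ XS.W, ∀ f, TG.e XS L.top * iFS f * (TG.e XS L.top)⁻¹ ∈ iFS.range :=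
  by decide +kernel

theorem S_cen : (∀ x : TG XS, (∀ L ∈ XS.W, TG.e XS L.top * x = x * TG.e XS L.top) → x ∈ iFS.range) ∧
    (∀ x : TG XS, (∀ f, iFS f * x = x * iFS f) → x * x = 1 ∧ (x ∈ iFS.range ∨ x * TG.e XS 32 ∈ iFS.range)) ∧
    (∀ a : TG XS, 32 ≤ a.v → ∀ b, b * a = a * b → b ∈ iFS.range ∨ b * a⁻¹ ∈ iFS.range) ∧
    (∀ a b : TG XS, a.v < 32 → b.v < 32 → (a * b).v < 32) ∧ ∀ a : TG XS, a.v < 32 → a⁻¹.v < 32 :=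
  by decide +kernel

end CF.Gu.WP
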