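import Cfsg.Agent.Gu.WP0

/-! The case `U = 2⁸`: the monomial group and the centraliser of `U`. -/

set_option autoImplicit false
set_option linter.unusedSectionVars false
set_option maxRecDepth 100000

namespace CF.Gu.WP
open Subgroup Cfsg CF.BG CF.Sig CF.GW CF.Ab2
open scoped commutatorElement

theorem gM : z0 ∈ MM ∧ th ∈ MM ∧ p5 ∈ MM := by refine ⟨?_, ?_, ?_⟩ <;> exact subset_closure (by simp)

theorem M_le {K : Subgroup LL} (a : z0 ∈ K) (b : th ∈ K) (c : p5 ∈ K) : MM ≤ K :=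
  (closure_le K).2 (by rintro _ (rfl | rfl | rfl) <;> assumption)

theorem iM_MM (a : MP) : iM a ∈ MM := (topMP (M := MM.comap iM) (by
  simp only [List.forall_mem_cons, mem_comap, iM_e.1, iM_e.2.1, iM_e.2.2, gM, true_and]; simp)).ge (mem_top a)

theorem card_MM : ♯MM = 960 := by
  rw [show MM = iM.range from le_antisymm (M_le ⟨_, iM_e.1⟩ ⟨_, iM_e.2.1⟩ ⟨_, iM_e.2.2⟩) (by rintro _ ⟨a, rfl⟩; exact iM_MM a),
    ← card_MP]
  exact (Nat.card_congr (MonoidHom.ofInjective iM_inj).toEquiv).symm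

theorem Mgen {K : Subgroup LL} (k : ∀ m ∈ MM, m * va * m⁻¹ ∈ K) : MM ≤ K :=
  M_le (gen_va.1 ▸ mul_mem (k _ (iM_MM _)) (k _ (iM_MM _))) (gen_va.2.1 ▸ mul_mem (k _ (iM_MM _)) (k _ (iM_MM _)))
    (gen_va.2.2 ▸ mul_mem (k _ (iM_MM _)) (k _ (iM_MM _)))

theorem Mgen' {K : Subgroup MM} (k : ∀ m : MM, m * ⟨va, zc_MM.2.1⟩ * m⁻¹ ∈ K) : K = ⊤ := top_unique fun m _ =>
  (mem_map_iff_mem MM.subtype_injective).1 (Mgen (K := K.map MM.subtype) (fun m h => ⟨_, k ⟨m, h⟩, rfl⟩) m.2)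

theorem M_perf : commutator MM = ⊤ := Mgen' fun m => (inferInstance : (commutator MM).Normal).conj_mem _ (by
  rw [show (⟨va, zc_MM.2.1⟩ : MM) = ⁅(⟨th, gM.2.1⟩ : MM), ⟨va * vb, mul_mem zc_MM.2.1 zc_MM.2.2⟩⁆ from Subtype.ext five.2.2.2.2.1]
  exact commutator_mem_commutator (mem_top _) (mem_top _)) m

theorem M_cj {m : LL} (h : m ∈ MM) (f : TG XE) : ∃ f', m * eL f * m⁻¹ = eL f' := by
  have k : ∀ g ∈ [z0, th, p5], g ∈ 𝐍 eL.range := fun g n => mem_norm_of_cj_le (by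
    rintro _ ⟨_, ⟨f, rfl⟩, rfl⟩
    exact (M_E g n f).imp fun _ => Eq.symm)
  exact (conj_mem_of_norm (M_le (k _ (by simp)) (k _ (by simp)) (k _ (by simp)) h) ⟨f, rfl⟩).imp fun _ => Eq.symm

theorem sL_MM (s : TG XS) : sL s ∈ MM := by
  obtain ⟨a, b, c⟩ := gM
  have d : bt ∈ MM := S_gen.1 ▸ by repeat' first | assumption | apply mul_mem | apply inv_mem
  refine TG.ind (P := fun s => sL s ∈ MM) (by simp) (fun L m s q => ?_) s
  obtain ⟨p, m, r⟩ := (by decide +kernel : ∀ L ∈ XS.W, ∃ p ∈ [zc, bt, b2, va, vb, rr], sL (TG.e XS L.top) = p) L m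
  rw [map_mul, r]
  refine mul_mem q ((?_ : ∀ p ∈ [zc, bt, b2, va, vb, rr], p ∈ MM) p m)
  simp only [List.forall_mem_cons]
  exact ⟨zc_MM.1, d, S_gen.2.1 ▸ mul_mem (mul_mem (inv_mem b) d) b, zc_MM.2.1, zc_MM.2.2, S_gen.2.2.1 ▸ mul_mem a zc_MM.1, by simp⟩

theorem XE_cm (a b : TG XE) : a * b = b * a := by
  have i : ∀ a : TG XE, a⁻¹ = a := fun a => inv_eq_of_mul_eq_one_right (XE_sq a)
  rw [← i (a * b), mul_inv_rev, i, i]

/-- transfer in a central extension generated by involutions -/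
theorem tr_ker {H Q : Type*} [Group H] [Finite H] [Group Q] (δ : H →* Q) (k : ∀ z, δ z = 1 → ∀ g, g * z = z * g)
    (gen : ∀ K : Subgroup H, (∀ a, a * a = 1 → a ∈ K) → K = ⊤) (c : Q) {z : H} (hz : δ z = 1) :
    z ^ (((zpowers c).comap δ).index * 2) = 1 := by
  let R := (zpowers c).comap δ
  letI : CommGroup R := commGroupOfCyclicCenterQuotient ((δ.comp R.subtype).codRestrict (zpowers c) fun x => x.2) fun x m =>
    mem_center_iff.2 fun g => Subtype.ext (k _ (congrArg Subtype.val m) _)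
  have a : MonoidHom.transfer (MonoidHom.id R) z ^ 2 = 1 :=
    (gen ((powMonoidHom 2 : R →* R).comp (MonoidHom.transfer (MonoidHom.id R))).ker fun a q => by
      change MonoidHom.transfer (MonoidHom.id R) a ^ 2 = 1
      rw [← map_pow, pow_two, q, map_one]).ge (mem_top z)
  rw [MonoidHom.transfer_eq_pow _ z fun n g _ => by
    rw [← k _ (by rw [map_pow, hz, one_pow]) g⁻¹ |>.symm, inv_mul_cancel_right]] at a
  rw [pow_mul]
  exact congrArg Subtype.val a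

variable {G : Type*} [Group G] [Finite G] {ι : LL →* G} {t y g : G} {υ : TG XV →* G}

theorem tU (e : Ev ι y υ) (w : Wg ι t y) : t ∈ 𝐍 υ.range := mem_norm_of_cj_le (by
  rintro _ ⟨_, ⟨a, rfl⟩, rfl⟩
  obtain ⟨f, f', rfl⟩ := XV_el.2 a
  change t * _ * t⁻¹ ∈ _
  rw [map_mul, ← conj_mul, e.tY w, e.E, ← w.tc, mul_inv_cancel_right, ← e.E, ← e.E]
  exact mul_mem ⟨_, rfl⟩ (mul_mem ⟨_, rfl⟩ ⟨_, rfl⟩))

theorem tnC (e : Ev ι y υ) (w : Wg ι t y) : t ∉ 𝐂 υ.range := fun m => by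
  have := w.yt
  rw [mem_cent.1 m y ⟨_, e.e16⟩, mul_inv_cancel_right, left_eq_mul] at this
  exact w.zn this

/-- `U` is a Sylow 2-subgroup of its centraliser -/
theorem cu (e : Ev ι y υ) (w : Wg ι t y) : ∀ g ∈ 𝐂 υ.range, ∃ u ∈ υ.range, ∃ o ∈ 𝒪 (𝐂 υ.range), g = u * o := by
  have ab : υ.range ≤ 𝐂 υ.range := by rintro _ ⟨a, rfl⟩; exact mem_cent.2 (by rintro _ ⟨b, rfl⟩; exact e.cm b a)
  have n1 := zp_le_norm (tU e w)
  have n2 := norm_cent n1
  have mz : ∀ {K : Subgroup G} {g : G}, zpowers t ≤ 𝐍 K → g ∈ K ⊔ zpowers t → g ∈ K ∨ g * t ∈ K := fun n m => by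
    obtain ⟨a, p, b, q, rfl⟩ := (mem_sup_norm' n).1 m
    rcases w.it.mem_zpowers.1 q with rfl | rfl
    exacts [.inl (by rwa [mul_one]), .inr (by rwa [mul_assoc, w.it.sq, mul_one])]
  have tm : ∀ K : Subgroup G, t ∈ K ⊔ zpowers t := fun K => mem_sup_right (mem_zpowers t)
  obtain ⟨P, s, l⟩ := exists_syl_le (p := 2) (sup_le_sup_right ab (zpowers t)) ((p2_range υ).sup w.it.piGrp (.inr n1))
  have k : ∀ c ∈ P, c ∈ 𝐂 υ.range → c ∈ 𝐍 (υ.range ⊔ zpowers t) → c ∈ υ.range ⊔ zpowers t := fun c p m n => by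
    rcases mz n1 (conj_mem_of_norm n (tm _)) with q | ⟨a, q⟩
    · exact (tnC e w ((mul_mem_cancel_left m).1 ((mul_mem_cancel_right (inv_mem m)).1 (ab q)))).elim
    obtain ⟨f, f', rfl⟩ := XV_el.2 a
    have r : t * υ (iEV f * hiE f') * t⁻¹ = υ (iEV f * hiE f') := by
      refine Eq.trans ?_ (inv_eq_of_mul_eq_one_right (e.sq _))
      rw [q, mul_inv_rev, conj_inv, mul_assoc t, mul_inv_cancel_right, w.ti]
    rw [map_mul, ← conj_mul, e.tY w, e.E, ← w.tc, mul_inv_cancel_right, mul_right_inj, mul_eq_right, ← map_one ι,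
      ← map_one eL] at r
    obtain rfl := eL_inj (w.inj r)
    rw [map_one, mul_one, e.E] at q
    obtain ⟨a, r | r⟩ := e.can2 w (fun f => (mem_cent.1 m _ ⟨_, e.E f⟩).symm) (f := f)
      (by rw [← w.tc, q, mul_assoc _ t t, w.it.sq, mul_one]) (s.pi.elt p)
    exacts [r ▸ mem_sup_left ⟨a, rfl⟩, r ▸ mul_mem (mem_sup_left ⟨a, rfl⟩) (tm _)]
  obtain rfl : υ.range ⊔ zpowers t = P := by_contra fun h => by
    obtain ⟨c, ⟨p, n⟩, q⟩ := SetLike.exists_of_lt (s.pi.nil.lt_inf_norm (l.lt_of_ne h))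
    rcases mz n2 (s.le p) with m | m
    exacts [q (k c p m n), q ((mul_mem_cancel_right (tm _)).1 (k _ (mul_mem p (l (tm _))) m (mul_mem n (le_norm_self _ (tm _)))))]
  have s' := s.inf_normal (normalIn_sup_left n2)
  rw [show (υ.range ⊔ zpowers t) ⊓ 𝐂 υ.range = υ.range from le_antisymm (fun x m => (mz n1 m.1).resolve_right fun q =>
    tnC e w ((mul_mem_cancel_left m.2).1 (ab q))) (le_inf le_sup_left ab)] at s'
  intro g m
  obtain ⟨u, p, o, q, r⟩ := (mem_sup_norm (norm_of_cent (cent_symm (O_le _ _)))).1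
    (((s'.burnside inf_le_left).sdprod s').sup'.ge m)
  exact ⟨u, p, o, q, r.symm⟩

end CF.Gu.WP
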