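import Cfsg.Agent.Gu.WT0

/-! The wreath case with an outer automorphism: the monomial group and its square. -/

set_option autoImplicit false
set_option linter.unusedSectionVars false
set_option maxRecDepth 100000

namespace CF.Gu.WT
open Subgroup Cfsg CF.BG CF.Sig CF.GW CF.Ab2 TG

variable {G : Type*} [Group G] [Finite G] {t x x' h : G} {θ θ' f : MM →* G} {Φ F : MM × MM →* G} {K : Subgroup MM}

theorem gM : z0 ∈ MM ∧ th ∈ MM ∧ p5 ∈ MM := ⟨subset_closure (by simp), subset_closure (by simp), subset_closure (by simp)⟩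
noncomputable def zM : MM := ⟨zc, zc_MM.1⟩
noncomputable def aM : MM := ⟨va, zc_MM.2.1⟩
noncomputable def tM : MM := ⟨th, gM.2.1⟩
noncomputable def pM : MM := ⟨p5, gM.2.2⟩
noncomputable def kM (k : ℕ) : MM := pM ^ (k + 1) * zM * (pM ^ (k + 1))⁻¹
theorem eL_MM (a : TG XE) : eL a ∈ MM := (XE_top (M := MM.comap eL) fun k b => by
  rw [mem_comap, (zcd_e k b).1]; exact (kM k).2).ge (mem_top a)
noncomputable def eM : TG XE →* MM := eL.codRestrict MM eL_MM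
theorem eM_k {k : ℕ} (b : k < 5) : eM (e XE (zcd k)) = kM k := Subtype.ext (zcd_e k b).1
theorem eM_z : eM (e XE 1) = zM := Subtype.ext wM.2.2.2.2.2.2.2.2.2.2.2.2
theorem eM_sq (a : TG XE) : eM a * eM a = 1 := by rw [← map_mul, nE.2.2.2.1, map_one]
theorem eM_cm (a b : TG XE) : eM a * eM b = eM b * eM a := by rw [← map_mul, nE.2.2.2.2, map_mul]

theorem M_top (z : eM (e XE 9) ∈ K) (a : tM ∈ K) (b : pM ∈ K) : K = ⊤ := top_unique fun m _ => by
  obtain ⟨k, q, r⟩ := (closure_le (K.map MM.subtype)).2 (by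
    rintro _ (rfl | rfl | rfl)
    exacts [⟨_, z, wM.2.2.2.2.2.2.2.2.2.2.2.1⟩, ⟨_, a, rfl⟩, ⟨_, b, rfl⟩]) m.2
  exact (Subtype.ext r : k = m) ▸ q

theorem M_nc (n : K.Normal) (a : aM ∈ K) : K = ⊤ := by
  have r : eL (e XE 8) = rr := by decide +kernel
  have b := mul_mem a (n.conj_mem _ a (eM (e XE 8)))
  refine M_top ?_ ?_ ?_
  · convert mul_mem (n.conj_mem _ b pM) (n.conj_mem _ b (pM⁻¹ * pM⁻¹)) using 1
    exact Subtype.ext (wM.2.2.2.2.2.2.2.2.2.2.2.1.trans (wM.2.2.1.trans (by rw [← r]; rfl)))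
  · convert mul_mem (n.conj_mem _ a pM) (n.conj_mem _ a (tM * pM)) using 1
    exact Subtype.ext wM.1
  · convert mul_mem (n.conj_mem _ a tM) (n.conj_mem _ a (tM * pM)) using 1
    exact Subtype.ext wM.2.1

theorem aut_MM {m : LL} (k : m ∈ MM) : (aut s0).toMonoidHom m ∈ MM := mem_comap.1 ((closure_le _).2 (by
  obtain ⟨a, b, c⟩ := gM
  obtain ⟨-, -, -, p, q, r, -⟩ := wM
  have k : ∀ {l l' : LL}, s0 * iL l = iL l' * s0 → l' ∈ MM → l ∈ MM.comap (aut s0).toMonoidHom := fun p q =>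
    mem_comap.2 ((show (aut s0).toMonoidHom _ = _ from aut_eq.2 p).symm ▸ q)
  rintro _ (rfl | rfl | rfl)
  exacts [k p (mul_mem (mul_mem c a) (inv_mem c)), k q (inv_mem b), k r (mul_mem (mul_mem (pow_mem b _) (pow_mem c _)) (pow_mem b _))]) k)

/-- the automorphism of `M` induced by `s0` -/
noncomputable def σM : MM →* MM := ((aut s0).toMonoidHom.comp MM.subtype).codRestrict MM fun m => aut_MM m.2
theorem σ_eq {m m' : MM} : σM m = m' ↔ s0 * iL m = iL m' * s0 := Subtype.ext_iff.trans aut_eq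
theorem σσ (m : MM) : σM (σM m) = m := Subtype.ext (by
  change aut s0 (aut s0 m) = m
  rw [← MulAut.mul_apply, ← map_mul, relL.2.2.2.2.2.2.2, map_one, MulAut.one_apply])
theorem σ_z : σM zM = zM := σ_eq.2 wM.2.2.2.2.2.2.2.1
theorem σ_e (a : TG XE) : ∃ b, σM (eM a) = eM b := (nE.2.1 a).imp fun _ q => σ_eq.2 q
theorem σ_k {k : ℕ} (b : k < 5) : σM (kM k) = kM (sw k) := σ_eq.2 (zk_i.2 k b).2

theorem M_z {m : MM} (k : ∀ n, m * n = n * m) : m = 1 := by
  have q : ∀ n : MM, iL m * iL n = iL n * iL m := fun n => by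
    rw [← map_mul, ← map_mul]; exact congrArg (fun a : MM => iL a) (k n)
  exact Subtype.ext (iL_inj ((cen_gen _ ((by decide +kernel : eL (e XE 8) = rr) ▸ q (eM (e XE 8))) (q aM) (q pM)).trans
    (map_one _).symm))

theorem MM_z {p : MM × MM} (k : ∀ q, p * q = q * p) : p = 1 :=
  Prod.ext (M_z fun n => congrArg Prod.fst (k (n, 1))) (M_z fun n => congrArg Prod.snd (k (1, n)))

theorem nEM (m : MM) (a : TG XE) : ∃ b, m * eM a * m⁻¹ = eM b := by
  have k : ∀ m : MM, m.1 ∈ [z0, th, p5] → m ∈ 𝐍 eM.range := fun m q => mem_norm_of_cj_le (by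
    rintro _ ⟨_, ⟨a, rfl⟩, rfl⟩
    obtain ⟨b, r⟩ := nE.1 _ q a
    exact ⟨b, (mul_inv_eq_iff_eq_mul.2 (Subtype.ext r)).symm⟩)
  obtain ⟨b, r⟩ := conj_mem_of_norm ((M_top (k _ (by
    rw [show (eM (e XE 9)).1 = z0 from wM.2.2.2.2.2.2.2.2.2.2.2.1]; simp)) (k _ (by simp [tM])) (k _ (by simp [pM]))).ge (mem_top m))
    (show eM a ∈ eM.range from ⟨a, rfl⟩)
  exact ⟨b, r.symm⟩

/-- the first cohomology group vanishes -/
theorem h1a (cm : ∀ m m', Commute (θ m) (θ' m')) (i : Function.Injective θ) (q : ∀ a, f (eM a) = θ (eM a))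
    (k : ∀ m, ∃ a b, f m = θ (m * eM a) * θ' (eM b)) : ∃ a, ∀ m, f m = θ (eM a * m * (eM a)⁻¹) := by
  have pw : ∀ (m : MM) (n : ℕ), m ^ (2 * n) = m → ∃ a, f m = θ ((m * eM a) ^ (2 * n)) := fun m n r => by
    obtain ⟨a, b, s⟩ := k m
    exact ⟨a, by rw [← r, map_pow, r, s, (cm _ _).mul_pow, ← map_pow θ', pow_mul (eM b), pow_two, eM_sq]; simp⟩
  obtain ⟨a, p⟩ := pw tM 2 (Subtype.ext (by decide +kernel))
  obtain ⟨b, r⟩ := pw pM 3 (Subtype.ext (by decide +kernel))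
  obtain ⟨c, u, v⟩ := d6 a b (congrArg Subtype.val (i (a₁ := ((tM * eM a) ^ 4 * (pM * eM b) ^ 6 * (pM * eM b) ^ 6) ^ 2) (a₂ := 1) (by
    rw [map_pow, map_mul, map_mul, ← p, ← r, ← map_mul, ← map_mul, ← map_pow,
      show (tM * pM * pM) ^ 2 = 1 from Subtype.ext wM.2.2.2.2.2.2.2.2.2.2.1, map_one, map_one])))
  refine ⟨c, fun m => (M_top (K := f.eqLocus (θ.comp (MulAut.conj (eM c)).toMonoidHom)) ?_ (p.trans (congrArg θ (Subtype.ext u.symm)))
    (r.trans (congrArg θ (Subtype.ext v.symm)))).ge (mem_top m)⟩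
  change f _ = θ (_ * _ * _)
  rw [q, eM_cm, mul_inv_cancel_right]

/-- the centraliser of `U = Φ (E × E)` -/
def CU (Φ : MM × MM →* G) : Prop := ∀ g, (∀ a b, Commute g (Φ (eM a, eM b))) →
  ∃ a b o, Eo o ∧ (∀ p, Commute o (Φ p)) ∧ g = Φ (eM a, eM b) * o

theorem h1b (i : Function.Injective Φ) (cu : CU Φ) (q : ∀ a b, F (eM a, eM b) = Φ (eM a, eM b)) :
    ∃ a b, ∀ p, F p = Φ ((eM a, eM b) * p * (eM a, eM b)⁻¹) := by
  have k : ∀ p, ∃ a b o, Eo o ∧ (∀ p, Commute o (Φ p)) ∧ F p = Φ (p * (eM a, eM b)) * o := fun p => by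
    obtain ⟨a, b, o, r, s, u⟩ := cu ((Φ p)⁻¹ * F p) fun a b => by
      obtain ⟨a', r⟩ := nEM p.1 a
      obtain ⟨b', s⟩ := nEM p.2 b
      have u : p * (eM a, eM b) * p⁻¹ = (eM a', eM b') := Prod.ext r s
      have v := q a' b'
      rw [← u, map_mul, map_mul, map_mul, map_mul, map_inv, map_inv, q] at v
      calc _ = (Φ p)⁻¹ * (F p * Φ (eM a, eM b) * (F p)⁻¹) * F p := by group
        _ = _ := by rw [v]; group
    exact ⟨a, b, o, r, s, by rw [map_mul, mul_assoc, ← u]; group⟩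
  have n : (Φ.range.comap F).Normal := ⟨by
    rintro p ⟨p', r⟩ g
    obtain ⟨a, b, o, -, s, u⟩ := k g
    refine ⟨g * (eM a, eM b) * p' * (g * (eM a, eM b))⁻¹, ?_⟩
    rw [map_mul F, map_mul F, map_inv F, u, ← r, map_mul Φ _ _⁻¹, map_mul Φ _ p', map_inv, mul_assoc _ o, s p']; group⟩
  have m : ∀ p : MM × MM, p ^ 4 = 1 → (∀ a b, (p * (eM a, eM b)) ^ 4 = 1) → p ∈ Φ.range.comap F := fun p r s => by
    obtain ⟨a, b, o, u, v, w⟩ := k p
    have := congrArg (· ^ 4) w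
    simp only [(v _).symm.mul_pow, ← map_pow, r, s, map_one, one_mul] at this
    exact ⟨_, by rw [w, (e2_iff.2 ⟨2, this.symm⟩).eq_one u, mul_one]⟩
  have e4 : ∀ a, (1 * eM a) ^ 4 = 1 := fun a => by rw [one_mul, show 4 = 2 * 2 from rfl, pow_mul, pow_two (eM a), eM_sq, one_pow]
  have a4 : ∀ a, (aM * eM a) ^ 4 = 1 := fun a => Subtype.ext (nE.2.2.1 a)
  have a1 : aM ^ 4 = 1 := by simpa using a4 1
  have k' : ∀ p ∈ Φ.range.comap F, ∃ a b, F p = Φ (p * (eM a, eM b)) := by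
    rintro p ⟨p', r⟩
    obtain ⟨a, b, o, -, v, w⟩ := k p
    have s : o = Φ ((p * (eM a, eM b))⁻¹ * p') := by rw [map_mul, r, w, map_inv]; group
    rw [MM_z (p := (p * (eM a, eM b))⁻¹ * p') fun g => i (by rw [map_mul, ← s, v g, s, ← map_mul]), map_one] at s
    exact ⟨a, b, by rw [w, s, mul_one]⟩
  have cm : ∀ m m', Commute (Φ.comp (.inl _ _) m) (Φ.comp (.inr _ _) m') := fun m m' => (MonoidHom.commute_inl_inr m m').map Φ
  obtain ⟨a, r⟩ := h1a (f := F.comp (.inl _ _)) cm (i.comp (Prod.mk_left_injective _)) (fun a => by simpa using q a 1) fun g => by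
    obtain ⟨a, b, s⟩ := k' (g, 1) ((M_nc (n.comap (.inl _ _)) (m _ (Prod.ext a1 (one_pow _)) fun a b =>
      Prod.ext (a4 a) (e4 b))).ge (mem_top g))
    exact ⟨a, b, s.trans (by simp [← map_mul])⟩
  obtain ⟨b, s⟩ := h1a (f := F.comp (.inr _ _)) (fun m m' => (cm m' m).symm) (i.comp (Prod.mk_right_injective _))
    (fun a => by simpa using q 1 a) fun g => by
    obtain ⟨a, b, s⟩ := k' (1, g) ((M_nc (n.comap (.inr _ _)) (m _ (Prod.ext (one_pow _) a1) fun a b =>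
      Prod.ext (e4 a) (a4 b))).ge (mem_top g))
    exact ⟨b, a, s.trans (by simp [← map_mul])⟩
  refine ⟨a, b, fun p => ?_⟩
  obtain ⟨p, p'⟩ := p
  rw [← Prod.fst_mul_snd (p, p'), map_mul, show F (p, 1) = _ from r p, show F (1, p') = _ from s p']
  simp [← map_mul]

/-- `x` acts on the image of `Ψ` as `α` -/
def Aw {P : Type*} [Group P] (Ψ : P →* G) (x : G) (α : P → P) : Prop := ∀ p, x * Ψ p * x⁻¹ = Ψ (α p)

section
variable {P : Type*} [Group P] {Ψ : P →* G} {α β : P → P}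

theorem Aw.mul (a : Aw Ψ x α) (b : Aw Ψ x' β) : Aw Ψ (x * x') fun p => α (β p) := fun p => by
  rw [← a, ← b]; group
theorem Aw.pow (a : Aw Ψ x id) : ∀ n : ℕ, Aw Ψ (x ^ n) id
  | 0 => fun p => by simp
  | n + 1 => pow_succ x n ▸ (a.pow n).mul a

/-- an involution that commutes with its conjugate under `t` -/
theorem dih (od : ∀ x, Aw Ψ x id → Odd (orderOf x)) (tt : t * t = 1) (s : Aw Ψ t β) (a : Aw Ψ x α) (aa : ∀ p, α (α p) = p)
    (ab : ∀ p, α (β (α (β (α (β (α (β p))))))) = p) : ∃ d, d * d = 1 ∧ d * (t * d * t⁻¹) = t * d * t⁻¹ * d ∧ Aw Ψ d α := by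
  have ti : t⁻¹ = t := inv_eq_of_mul_eq_one_right tt
  have a2 : Aw Ψ (x * x) id := fun p => (a.mul a p).trans (congrArg Ψ (aa p))
  obtain ⟨k, r⟩ := od _ a2
  have b : Aw Ψ ((x * x) ^ k * x) α := (a2.pow k).mul a
  have b2 : (x * x) ^ k * x * ((x * x) ^ k * x) = 1 := by
    rw [← pow_orderOf_eq_one (x * x), r, ← pow_two x, ← pow_mul, ← pow_mul, ← pow_succ, ← pow_add]; congr 1; ring
  generalize (x * x) ^ k * x = g at b b2
  have a4 : Aw Ψ ((g * t) ^ 4) id := fun p => by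
    rw [show (g * t) ^ 4 = g * t * (g * t * (g * t * (g * t))) by simp [pow_succ, mul_assoc]]
    exact ((b.mul s).mul ((b.mul s).mul ((b.mul s).mul (b.mul s))) p).trans (congrArg Ψ (ab p))
  obtain ⟨n, r⟩ := od _ a4
  have w : t * (g * t) ^ ((2 * n + 1) * (2 * n + 1)) * t⁻¹ = ((g * t) ^ ((2 * n + 1) * (2 * n + 1)))⁻¹ := by
    rw [← conj_pow, ← inv_pow, mul_inv_rev, inv_eq_of_mul_eq_one_right b2, ti, mul_assoc, mul_assoc, tt, mul_one]
  have u : ((g * t) ^ 4) ^ (n * n + n) * g = (g * t) ^ ((2 * n + 1) * (2 * n + 1)) * t := by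
    rw [show (2 * n + 1) * (2 * n + 1) = 4 * (n * n + n) + 1 by ring, pow_succ _ (4 * _), pow_mul, mul_assoc, mul_assoc, tt, mul_one]
  have v : ((g * t) ^ ((2 * n + 1) * (2 * n + 1))) ^ 4 = 1 := by
    rw [← pow_mul, mul_comm _ 4, pow_mul, pow_mul, ← r, pow_orderOf_eq_one, one_pow]
  refine ⟨_, ?_, ?_, (a4.pow (n * n + n)).mul b⟩ <;> rw [u] <;> generalize (g * t) ^ ((2 * n + 1) * (2 * n + 1)) = ρ at v w
  · calc _ = ρ * (t * ρ * t⁻¹) * (t * t) := by group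
      _ = _ := by rw [w, tt]; group
  · calc _ = ρ * (t * t) * ρ := by group
      _ = ρ⁻¹ * ρ⁻¹ * ρ ^ 4 := by rw [tt]; simp [pow_succ, mul_assoc]
      _ = t * ρ * t⁻¹ * (t * ρ * t⁻¹) * (t * t) := by rw [v, w, tt]
      _ = _ := by group

end

theorem CU.odd (cu : CU Φ) (i : Function.Injective Φ) (x : G) (a : Aw Φ x id) : Odd (orderOf x) := by
  obtain ⟨b, c, o, r, s, rfl⟩ := cu x fun _ _ => mul_inv_eq_iff_eq_mul.1 (a _)
  rw [MM_z (p := (eM b, eM c)) fun g => i (by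
    have := mul_inv_eq_iff_eq_mul.1 (a g)
    rwa [mul_assoc, s g, ← mul_assoc, id, ← mul_assoc, mul_left_inj, ← map_mul, ← map_mul] at this), map_one, one_mul]
  exact eo_iff.2 r

end CF.Gu.WT
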