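import Cfsg.Agent.Gu.WT1
import Cfsg.Agent.Gu.WN

/-! The wreath case with an outer automorphism: an involution that is outer on one factor only. -/

set_option autoImplicit false
set_option linter.unusedSectionVars false
set_option maxRecDepth 100000

namespace CF.Gu.WT
open Subgroup Cfsg CF.BG CF.Sig CF.GW CF.Ab2 TG

universe u
variable {G : Type u} [Group G] [Finite G] {ι : LL →* G} {t y c g x h : G} {θ : MM →* G} {Φ : MM × MM →* G} {υ : TG XV →* G}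

/-- the wreath case in coordinates -/
structure Ph (ι : LL →* G) (t y c : G) (υ : TG XV →* G) (Φ : MM × MM →* G) : Prop extends Wg ι t y where
  ev : Ev ι y υ
  pi : Function.Injective Φ
  sw : Aw Φ t Prod.swap
  dg : ∀ m : MM, ι m = Φ (m, m)
  yk : ∀ k, Φ (kM k, 1) = xk ι y k
  up : ∀ a, ∃ b b', υ a = Φ (eM b, eM b')
  dn : ∀ b b', ∃ a, υ a = Φ (eM b, eM b')
  cu : CU Φ
  aw : Aw Φ c fun p => (σM p.1, σM p.2)
  ct : c * t = t * c

theorem ph (a : Th ι t y υ.range θ) (e : Ev ι y υ) (w : Wg ι t y) (k : Cg ι t y c) (q : c * wA ι y = wA ι y * c) :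
    ∃ Φ, Ph ι t y c υ Φ ∧ ∀ m, Φ (m, 1) = θ m := by
  let Φ := θ.noncommCoprod ((MulAut.conj t).toMonoidHom.comp θ) a.cm
  have v : ∀ p, Φ p = θ p.1 * (t * θ p.2 * t⁻¹) := fun p => rfl
  have v1 : ∀ m, Φ (m, 1) = θ m := fun m => by simp [v]
  have dg : ∀ m : MM, ι m = Φ (m, m) := a.pr
  clear_value Φ
  have i : Function.Injective θ := (injective_iff_map_eq_one _).2 fun m r =>
    Subtype.ext (w.inj (by rw [a.pr, r]; simp))
  have sw : Aw Φ t Prod.swap := fun p => by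
    rw [v, v, ← conj_mul, Prod.fst_swap, Prod.snd_swap, a.cm, w.ti, ← mul_assoc t, ← mul_assoc t, w.it.sq, one_mul, mul_assoc (θ p.2),
      w.it.sq, mul_one]
  have cj : ∀ n m : MM, ι n * θ m * (ι n)⁻¹ = θ (n * m * n⁻¹) := fun n m => by
    rw [dg, ← v1, ← map_inv, ← map_mul, ← map_mul, ← v1]; simp
  have yk : ∀ k, θ (kM k) = xk ι y k := fun k => by rw [kM, ← cj, zM, a.ez]; rfl
  have hi : ∀ f, υ (hiE f) = θ (eM f) := fun f => (XE_top (M := (υ.comp hiE).eqLocus (θ.comp eM)) fun k b => by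
    change υ _ = θ _
    rw [(zcd_e k b).2.2, e.yk w b, eM_k b, yk]).ge (mem_top f)
  have ab : ∀ f f', υ (iEV f * hiE f') = Φ (eM (f * f'), eM f) := fun f f' => by
    rw [map_mul, e.E, hi, ← v1, show ι (eL f) = _ from dg (eM f), ← map_mul]; simp
  have up : ∀ a, ∃ b b', υ a = Φ (eM b, eM b') := fun a => by
    obtain ⟨f, f', rfl⟩ := XV_el.2 a
    exact ⟨_, _, ab f f'⟩
  have dn : ∀ b b', ∃ a, υ a = Φ (eM b, eM b') := fun b b' => ⟨_, by rw [ab b' (b'⁻¹ * b), mul_inv_cancel_left]⟩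
  have ac : ∀ m, c * θ m * c⁻¹ = θ (σM m) := fun m =>
    (M_nc (K := ((MulAut.conj c).toMonoidHom.comp θ).eqLocus (θ.comp σM)) ⟨fun m r n => by
      change c * θ _ * c⁻¹ = θ _ at r ⊢
      rw [map_mul σM, map_mul σM, map_inv σM, ← cj, ← cj, ← r, show ι (σM n) = _ from (k.ac n).symm]; group⟩ (by
      change c * θ _ * c⁻¹ = θ _
      rw [σ_eq.2 (show s0 * iL aM = iL aM * s0 from wM.2.2.2.2.2.2.1), aM, a.ea, q, mul_inv_cancel_right])).ge (mem_top m)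
  refine ⟨Φ, ⟨w, e, (injective_iff_map_eq_one _).2 fun p r => ?_, sw, dg, fun k => (v1 _).trans (yk k), up, dn, fun g r => ?_,
    fun p => ?_, k.ct⟩, v1⟩
  · rw [v] at r
    have s : p.1 = 1 := M_z fun n => i (by
      rw [map_mul, map_mul, eq_inv_of_mul_eq_one_left r]; exact (Commute.inv_right (a.cm n p.2)).symm)
    rw [s, map_one, one_mul, conj_eq_one_iff] at r
    exact Prod.ext s (i (r.trans (map_one θ).symm))
  · obtain ⟨_, ⟨u, rfl⟩, o, m, rfl⟩ := a.cu g (mem_cent.2 (by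
      rintro _ ⟨u, rfl⟩
      obtain ⟨b, b', s⟩ := up u
      exact s ▸ (r b b').symm))
    obtain ⟨b, b', s⟩ := up u
    have n : t ∈ 𝐍 υ.range := mem_norm_of_cj_le (by
      rintro _ ⟨_, ⟨u, rfl⟩, rfl⟩
      obtain ⟨b, b', s⟩ := up u
      obtain ⟨u', s'⟩ := dn b' b
      exact ⟨u', s'.trans (by rw [s]; exact (sw (eM b, eM b')).symm)⟩)
    refine ⟨b, b', o, (O_pi _ _).elt m, fun p => ?_, by rw [s]⟩
    have := a.co p.2 _ (conj_mem_of_norm' (norm_O _ _ (norm_le_norm_cent _ n)) m)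
    rw [v]
    refine Commute.mul_right (a.co _ o m).symm ?_
    calc _ = t * (t⁻¹ * o * t * θ p.2) * t⁻¹ := by group
      _ = _ := by rw [← this]; group
  · rw [v, v, ← ac, ← ac, ← conj_mul]
    congr 1
    calc _ = c * t * θ p.2 * (c * t)⁻¹ := by group
      _ = _ := by rw [k.ct]; group

namespace Ph
variable (P : Ph ι t y c υ Φ)
include P

theorem ez : Φ (zM, 1) = y := by
  rw [← xk_four (ι := ι) y, ← P.yk, ← eM_k (by decide), ← eM_z]; rfl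

theorem mem (b b' : TG XE) : Φ (eM b, eM b') ∈ υ.range := P.dn b b'

theorem nt : t ∈ 𝐍 υ.range := mem_norm_of_cj_le (by
  rintro _ ⟨_, ⟨u, rfl⟩, rfl⟩
  obtain ⟨b, b', s⟩ := P.up u
  change t * υ u * t⁻¹ ∈ _
  rw [s, P.sw]; exact P.mem b' b)

theorem nΦ (p : MM × MM) : Φ p ∈ 𝐍 υ.range := mem_norm_of_cj_le (by
  rintro _ ⟨_, ⟨u, rfl⟩, rfl⟩
  obtain ⟨b, b', s⟩ := P.up u
  obtain ⟨a, r⟩ := nEM p.1 b
  obtain ⟨a', r'⟩ := nEM p.2 b'
  change Φ p * υ u * (Φ p)⁻¹ ∈ _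
  rw [s, ← map_inv, ← map_mul, ← map_mul, show p * (eM b, eM b') * p⁻¹ = (eM a, eM a') from Prod.ext r r']
  exact P.mem a a')

theorem iv (p : MM × MM) (k : Φ p * t * (Φ p * t) = 1) : IsConj t (Φ p * t) := by
  have s : ∀ p, t * Φ p = Φ p.swap * t := fun p => mul_inv_eq_iff_eq_mul.1 (P.sw p)
  rw [mul_assoc, ← mul_assoc t, s, mul_assoc, P.it.sq, mul_one, ← map_mul, ← map_one Φ] at k
  refine isConj_iff.2 ⟨Φ (p.1, 1), ?_⟩
  rw [← map_inv, mul_assoc, s, ← mul_assoc, ← map_mul]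
  exact congrArg (Φ · * t) (Prod.ext (by simp) (by simpa using (eq_inv_of_mul_eq_one_right (congrArg Prod.fst (P.pi k))).symm))

theorem cd (m : MM) : t * c * Φ (m, σM m) = Φ (m, σM m) * (t * c) :=
  mul_inv_eq_iff_eq_mul.1 ((P.sw.mul P.aw _).trans (by simp [σσ]))

/-- step 1 -/
theorem s1 (a : g * t * g⁻¹ = t * c) (b : ∀ f, g * ι (eL f) * g⁻¹ ∈ υ.range)
    (d : ∀ u, ∃ f, υ u * (t * c) * (υ u)⁻¹ = t * c * (g * ι (eL f) * g⁻¹)) : g ∈ 𝐍 υ.range := by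
  refine (inv_mem_iff (x := g)).1 (mem_norm_of_cj_le ?_)
  rintro _ ⟨_, ⟨u, rfl⟩, rfl⟩
  change g⁻¹ * υ u * g⁻¹⁻¹ ∈ _
  obtain ⟨f, r⟩ := d u
  have sq : g⁻¹ * υ u * g⁻¹⁻¹ * (g⁻¹ * υ u * g⁻¹⁻¹) = 1 := by rw [conj_mul, P.ev.sq]; simp
  obtain ⟨u', s | s⟩ := P.ev.can2 P.toWg (g := g⁻¹ * υ u * g⁻¹⁻¹) (f := f) (fun f => by
    obtain ⟨u', s⟩ := b f
    calc _ = g⁻¹ * (υ u * (g * ι (eL f) * g⁻¹)) * g := by group
      _ = _ := by rw [← s, P.ev.cm, s]; group) (by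
    calc _ = g⁻¹ * (υ u * (g * t * g⁻¹) * (υ u)⁻¹) * g := by group
      _ = _ := by rw [a, r, ← a]; group) (e2_inv sq)
  · exact ⟨u', s.symm⟩
  · obtain ⟨b, b', v⟩ := P.up u'
    rw [v] at s
    exact (WN.nU1 P.toHy P.ev.inj u ((P.iv _ (s ▸ sq)).trans (s ▸ (isConj_iff.2 ⟨_, rfl⟩).symm))).elim

/-- step 2 -/
theorem s2 (a : g * t * g⁻¹ = t * c) (b : g * ι zc * g⁻¹ = ι zc) (n : g ∈ 𝐍 υ.range) :
    ∃ g, g * t * g⁻¹ = t * c ∧ g * y * g⁻¹ = y ∧ g ∈ 𝐍 υ.range := by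
  obtain ⟨u, r⟩ := conj_mem_of_norm n (show y ∈ υ.range from ⟨_, P.ev.e16⟩)
  obtain ⟨e1, e2, s⟩ := P.up u
  rw [s] at r
  have z : ι zc = Φ (zM, zM) := P.dg zM
  have k : ∀ m : MM, m * zM = zM * m → (m, σM m) * (eM e1, eM e2) * (m, σM m)⁻¹ = (eM e1, eM e2) ∨
      (m, σM m) * (eM e1, eM e2) * (m, σM m)⁻¹ = (eM e1, eM e2) * (zM, zM) := fun m q => by
    have q' : Φ (m, σM m) * ι zc = ι zc * Φ (m, σM m) := by
      rw [z, ← map_mul, ← map_mul, Prod.mk_mul_mk, Prod.mk_mul_mk, q, ← σ_z, ← map_mul, ← map_mul, q, σ_z]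
    refine (P.yy2 (g := g⁻¹ * Φ (m, σM m) * g) ?_ ?_).imp (fun v => P.pi ?_) fun v => P.pi ?_
    · calc _ = g⁻¹ * (Φ (m, σM m) * (g * t * g⁻¹)) * g := by group
        _ = _ := by rw [a, ← P.cd, ← a]; group
    · calc _ = g⁻¹ * (Φ (m, σM m) * (g * ι zc * g⁻¹)) * g := by group
        _ = g⁻¹ * (g * ι zc * g⁻¹ * Φ (m, σM m)) * g := by rw [b, q']
        _ = _ := by group
    · rw [map_mul, map_mul, map_inv, r]; conv_rhs => rw [← v]
      group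
    · rw [map_mul, map_mul, map_inv, map_mul, r, ← z, ← b, conj_mul, ← v]; group
  have k' : ∀ m : MM, m * zM = zM * m → (m * eM e1 * m⁻¹ = eM e1 ∨ m * eM e1 * m⁻¹ = eM e1 * zM) ∧
      (m * eM e2 * m⁻¹ = eM e2 ∨ m * eM e2 * m⁻¹ = eM e2 * zM) := fun m q =>
    ⟨(k m q).imp (congrArg Prod.fst) (congrArg Prod.fst), by
      have := k (σM m) (by rw [← σ_z, ← map_mul, ← map_mul, q])
      rw [σσ] at this
      exact this.imp (congrArg Prod.snd) (congrArg Prod.snd)⟩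
  have ka := k' aM (Subtype.ext wM.2.2.2.2.2.2.2.2.1)
  have kt := k' tM (Subtype.ext Q_z.2.2.1)
  have d : ∀ f, (aM * eM f * aM⁻¹ = eM f ∨ aM * eM f * aM⁻¹ = eM f * zM) → (tM * eM f * tM⁻¹ = eM f ∨ tM * eM f * tM⁻¹ = eM f * zM) →
      eM f = 1 ∨ eM f = zM := fun f p q => (d3 f (p.imp Subtype.ext_iff.1 Subtype.ext_iff.1)
        (q.imp Subtype.ext_iff.1 Subtype.ext_iff.1)).imp Subtype.ext Subtype.ext
  have nc : ∀ m, σM m = m → (eM e1, eM e2) ≠ (m, m) := fun m p q => P.nc P.yt ((MulAut.conj g).injective (by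
    change g * _ * g⁻¹ = g * _ * g⁻¹
    rw [← conj_mul, ← conj_mul, a, ← r, q]
    simpa only [p] using (P.cd m).symm))
  rcases d e1 ka.1 kt.1 with p | p <;> rcases d e2 ka.2 kt.2 with q | q <;> rw [p, q] at r nc
  · exact (nc 1 (map_one _) rfl).elim
  · refine ⟨t * g, ?_, ?_, mul_mem P.nt n⟩
    · calc _ = t * (g * t * g⁻¹) * t⁻¹ := by group
        _ = _ := by rw [a, mul_assoc t, ← P.ct, mul_inv_cancel_right, P.ct]
    · calc _ = t * (g * y * g⁻¹) * t⁻¹ := by group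
        _ = _ := by rw [← r, P.sw, ← P.ez]; rfl
  · exact ⟨g, a, r.symm.trans P.ez, n⟩
  · exact (nc zM σ_z rfl).elim

/-- step 3 -/
theorem s3 (a : g * t * g⁻¹ = t * c) (b : g * y * g⁻¹ = y) (n : g ∈ 𝐍 υ.range) (j : ℕ) : ∃ k < 5, g⁻¹ * xk ι y j * g = xk ι y k := by
  let κ := g⁻¹ * Φ (pM ^ (j + 1), σM (pM ^ (j + 1))) * g
  have m : κ ∈ 𝐂₁ t := mem_cent1.2 (by
    calc _ = g⁻¹ * (Φ (pM ^ (j + 1), σM (pM ^ (j + 1))) * (g * t * g⁻¹)) * g := by simp only [κ]; group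
      _ = _ := by rw [a, ← P.cd, ← a]; simp only [κ]; group)
  have p : (pM ^ (j + 1)) ^ 5 = 1 := by
    rw [← pow_mul, mul_comm, pow_mul, show pM ^ 5 = 1 from Subtype.ext relL.2.2.2.2.2.2.1, one_pow]
  have o : Eo κ := eo_iff.1 ((by decide : Odd 5).of_dvd_nat (orderOf_dvd_of_pow_eq_one (by
    rw [show κ = g⁻¹ * _ * g⁻¹⁻¹ by rw [inv_inv], conj_pow, ← map_pow, Prod.pow_mk, ← map_pow σM, p]; simp [Prod.mk_one_one])))
  obtain ⟨_, ⟨l, rfl⟩, o, mo, r⟩ := (mem_sup_norm' fun o k => (P.oc k).norm).1 (P.odd m o)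
  have v : ∀ x, o * x = x * o → κ * x * κ⁻¹ = ι l * x * (ι l)⁻¹ := fun x q => by rw [← r, mul_assoc _ o, q]; group
  obtain ⟨u, s⟩ := conj_mem_of_norm (show κ ∈ _ from mul_mem (mul_mem (inv_mem n) (P.nΦ _)) n) (show ι zc ∈ υ.range from ⟨_, P.ev.e1⟩)
  obtain ⟨e1, e2, s'⟩ := P.up u
  rw [s', v _ (P.lo mo _).symm, ← map_inv, ← map_mul, ← map_mul] at s
  have e : eM e2 = eM e1 := congrArg Prod.fst (P.pi (a₂ := (eM e1, eM e2)) ((P.sw (eM e1, eM e2)).symm.trans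
    (by rw [s, ← P.tc, mul_inv_cancel_right])))
  rw [e, ← P.dg] at s
  replace s : l * zc = eL e1 * l := mul_inv_eq_iff_eq_mul.1 (P.inj s).symm
  rcases d4 e1 with rfl | ⟨k, q, w⟩ | ⟨i, -, i', -, w⟩
  · rw [map_one, one_mul, mul_eq_left] at s
    exact (Q_z.2.2.2.2.2.2.1 s).elim
  · refine ⟨k, q, ?_⟩
    rw [← P.cjy (l := l) (j := 4) (k := k) (by rw [zk_eq.2.2.2.2, s, w]), xk_four, ← v _ (P.cO o mo).symm, ← P.yk,
      show (kM j, (1 : MM)) = (pM ^ (j + 1), σM (pM ^ (j + 1))) * (zM, 1) * (pM ^ (j + 1), σM (pM ^ (j + 1)))⁻¹ from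
        Prod.ext rfl (by simp), map_mul, map_mul, map_inv, P.ez]
    conv_lhs => rw [← b]
    simp only [κ]; group
  · exact (nzb (th ^ i * p5 ^ i' * l) (by rw [mul_assoc, s, ← mul_assoc, w, mul_assoc])).elim

/-- step 4 -/
theorem s4 (a : g * t * g⁻¹ = t * c) (b : g * y * g⁻¹ = y) (n : g ∈ 𝐍 υ.range) :
    ∃ h, ∀ u v, h * Φ (σM (eM u), eM v) * h⁻¹ = Φ (eM u, eM v) := by
  choose π p q using P.s3 a b n
  have i : ∀ j < 5, ∀ k < 5, xk ι y j = xk ι y k → j = k := fun j u k v r =>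
    zk_i.1 j u k v (congrArg (fun p : MM × MM => p.1.1) (P.pi ((P.yk j).trans (r.trans (P.yk k).symm))))
  have i' : ∀ j < 5, ∀ k < 5, π j = π k → j = k := fun j u k v r => i j u k v 
    (mul_left_cancel (mul_right_cancel ((q j).trans ((congrArg _ r).trans (q k).symm))))
  have p4 : π 4 = 4 := i _ (p 4) 4 (by decide) (by rw [← q, xk_four]; nth_rw 1 [← b]; group)
  obtain ⟨m, mA, r⟩ := d5 _ (p 0) _ (p 1) _ (p 2) _ (p 3) (by
    rw [← p4, show [π 0, π 1, π 2, π 3, π 4] = (List.range 5).map π from rfl]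
    exact List.nodup_range.map_on fun j u k v => i' j (List.mem_range.1 u) k (List.mem_range.1 v))
  have gd : ∀ k < 5, [π 0, π 1, π 2, π 3, 4].getD k 0 = π k := fun k u => by interval_cases k <;> first | rfl | exact p4.symm
  have ex : ∀ τ : MM →* MM, (∀ k < 5, ∃ j, τ (kM k) = kM j ∧ m * zk (π k) = zk j * m) →
      (∀ u, ι m * g⁻¹ * Φ (eM u, 1) * (ι m * g⁻¹)⁻¹ = Φ (τ (eM u), 1)) ∧
      ∀ u, ι m * g⁻¹ * Φ (1, σM (eM u)) * (ι m * g⁻¹)⁻¹ = Φ (1, τ (eM u)) := fun τ k => by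
    have s : ∀ u, ι m * g⁻¹ * Φ (eM u, 1) * (ι m * g⁻¹)⁻¹ = Φ (τ (eM u), 1) := fun u =>
      (XE_top (M := ((MulAut.conj (ι m * g⁻¹)).toMonoidHom.comp (Φ.comp ((MonoidHom.inl _ _).comp eM))).eqLocus
        (Φ.comp ((MonoidHom.inl _ _).comp (τ.comp eM)))) fun j v => by
        obtain ⟨j', w, w'⟩ := k j v
        change ι m * g⁻¹ * Φ (eM _, 1) * (ι m * g⁻¹)⁻¹ = Φ (τ (eM _), 1)
        rw [eM_k v, w, P.yk, P.yk, ← P.cjy w', ← q]; group).ge (mem_top u)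
    refine ⟨s, fun u => ?_⟩
    have w : ι m * g⁻¹ * (t * c) * (ι m * g⁻¹)⁻¹ = t := by
      rw [← a]
      calc _ = ι m * t * (ι m)⁻¹ := by group
        _ = _ := by rw [P.toHy.tc, mul_inv_cancel_right]
    have w' := P.sw.mul P.aw (eM u, 1)
    simp only [map_one, Prod.swap_prod_mk] at w'
    have w'' := P.sw (τ (eM u), 1)
    rw [Prod.swap_prod_mk] at w''
    rw [← w', ← w'', ← s]; conv_rhs => rw [← w]
    group
  have fin : ∀ h, (∀ u, h * Φ (eM u, 1) * h⁻¹ = Φ (σM (eM u), 1)) → (∀ u, h * Φ (1, σM (eM u)) * h⁻¹ = Φ (1, σM (eM u))) →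
      ∀ u v, h * Φ (σM (eM u), eM v) * h⁻¹ = Φ (eM u, eM v) := fun h r s u v => by
    obtain ⟨u', p⟩ := σ_e u
    obtain ⟨v', q⟩ := σ_e v
    have := s v'
    rw [← q, σσ] at this
    rw [p, ← Prod.fst_mul_snd (eM u', eM v), map_mul, ← conj_mul, r, this, ← p, σσ, ← map_mul, Prod.fst_mul_snd (eM u, eM v)]
  rcases r with r | r
  · obtain ⟨s, s'⟩ := ex (.id _) fun k u => ⟨k, rfl, gd k u ▸ r k u⟩
    refine ⟨c * (ι m * g⁻¹), fin _ (fun u => ?_) fun u => ?_⟩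
    · calc _ = c * (ι m * g⁻¹ * Φ (eM u, 1) * (ι m * g⁻¹)⁻¹) * c⁻¹ := by group
        _ = _ := by rw [s, P.aw]; simp
    · calc _ = c * (ι m * g⁻¹ * Φ (1, σM (eM u)) * (ι m * g⁻¹)⁻¹) * c⁻¹ := by group
        _ = _ := by rw [s', P.aw]; simp
  · obtain ⟨s, s'⟩ := ex σM fun k u => ⟨WT.sw k, σ_k u, gd k u ▸ r k u⟩
    exact ⟨_, fin _ s s'⟩

/-- step 5 -/
theorem s5 {σ : MM →* MM} (σσ : ∀ m, σ (σ m) = m) (k : ∀ u v, h * Φ (σ (eM u), eM v) * h⁻¹ = Φ (eM u, eM v)) :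
    ∃ d, d * d = 1 ∧ d * (t * d * t⁻¹) = t * d * t⁻¹ * d ∧ Aw Φ d fun p => (σ p.1, p.2) := by
  obtain ⟨a, b, r⟩ := h1b (F := (MulAut.conj h).toMonoidHom.comp (Φ.comp (σ.prodMap (.id _)))) P.pi P.cu k
  refine dih (x := (Φ (eM a, eM b))⁻¹ * h) (P.cu.odd P.pi) P.it.sq P.sw (fun p => ?_) (fun p => Prod.ext (σσ _) rfl)
    fun p => Prod.ext (σσ _) (σσ _)
  have := r (σ p.1, p.2)
  rw [map_mul Φ, map_mul Φ, map_inv Φ] at this
  change h * Φ (σ (σ p.1), p.2) * h⁻¹ = _ at this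
  rw [σσ] at this
  calc _ = (Φ (eM a, eM b))⁻¹ * (h * Φ (p.1, p.2) * h⁻¹) * Φ (eM a, eM b) := by group
    _ = _ := by rw [this]; group

end Ph

end CF.Gu.WT
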